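import Cfsg.Agent.Known.SLTwo.Chars.SLUnip
import Cfsg.Agent.Known.SLTwo.Tori

/-! The trivial, Steinberg and split half-series characters of SL₂. -/

set_option autoImplicit false
set_option linter.unusedSectionVars false

open Matrix
open scoped ComplexConjugate MatrixGroups

namespace Cfsg.Lib.CharTools

open Cfsg.Lib.Chars

universe u

variable {G : Type u} [Group G] [Fintype G]

theorem exists_inner_nat {a b : G → ℂ} (ha : Cfsg.IsCharacter G a) (hb : Cfsg.IsCharacter G b) :
    ∃ m : ℕ, Cfsg.classInner a b = m := by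
  obtain ⟨c, hc⟩ := IsCharacter.exists_decomp hb
  choose m hm using fun χ : Cfsg.IrrCharacter G => IsCharacter.exists_mult ha χ.2
  refine ⟨∑ χ, c χ * m χ, ?_⟩
  rw [hc, classInner_sum_right, Nat.cast_sum]
  refine Finset.sum_congr rfl fun χ _ => ?_
  rw [classInner_nsmul_right, hm, Nat.cast_mul]

/-- A character of norm two is the sum of two distinct irreducible characters. -/
theorem exists_add_of_norm_two {f : G → ℂ} (hf : Cfsg.IsCharacter G f) (hn : Cfsg.classInner f f = 2) :
    ∃ a b : G → ℂ, Cfsg.IsIrrCharacter G a ∧ Cfsg.IsIrrCharacter G b ∧ a ≠ b ∧ f = a + b := by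
  classical
  have h1 : f 1 ≠ 0 := fun h => by
    rw [eq_zero_of_apply_one hf h, classInner_zero_left] at hn
    norm_num at hn
  have hni : ¬ Cfsg.IsIrrCharacter G f := fun h => by
    rw [classInner_self_irr h] at hn
    norm_num at hn
  obtain ⟨a, b, ha, hb, ha1, hb1, rfl⟩ := exists_split_of_not_irr hf h1 hni
  obtain ⟨p, hp⟩ := exists_inner_nat ha ha
  obtain ⟨r, hr⟩ := exists_inner_nat hb hb
  obtain ⟨s, hs⟩ := exists_inner_nat ha hb
  have hsc : Cfsg.classInner b a = (s : ℂ) := by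
    rw [← classInner_conj_symm a b, hs, Complex.conj_natCast]
  have hp0 : p ≠ 0 := by
    rintro rfl
    rw [Nat.cast_zero, classInner_self_eq_zero] at hp
    exact ha1 (by rw [hp]; rfl)
  have hr0 : r ≠ 0 := by
    rintro rfl
    rw [Nat.cast_zero, classInner_self_eq_zero] at hr
    exact hb1 (by rw [hr]; rfl)
  rw [classInner_add_left, classInner_add_right, classInner_add_right, hp, hr, hs, hsc] at hn
  have hn' : p + s + (s + r) = 2 := by exact_mod_cast hn
  have ia := isIrrCharacter_of_norm_one ha (by rw [hp, show p = 1 by omega, Nat.cast_one])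
  have ib := isIrrCharacter_of_norm_one hb (by rw [hr, show r = 1 by omega, Nat.cast_one])
  refine ⟨a, b, ia, ib, fun e => ?_, rfl⟩
  subst e
  rw [classInner_self_irr ia] at hs
  have : (1 : ℕ) = s := by exact_mod_cast hs
  omega

end Cfsg.Lib.CharTools

namespace Cfsg.Lib.GLTwo.SCh

open Cfsg.Lib.CharTools Cfsg.Lib.Chars

variable {F : Type*} [Field F] [Fintype F] [DecidableEq F]

/-- The number of eigenvector-free directions. -/
def Ell (g : SL(2, F)) : Prop :=
  ∀ (c : F) (v : Fin 2 → F), v ≠ 0 → (g : Matrix (Fin 2) (Fin 2) F).mulVec v ≠ c • v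

theorem quad_sq : (quad F) ^ 2 = (1 : MulChar F ℂ) :=
  MulChar.IsQuadratic.sq_eq_one ((quadraticChar_isQuadratic F).comp _)

theorem eq_quad (hodd : Odd (Fintype.card F)) {α : MulChar F ℂ} (h2 : α ^ 2 = 1) (h1 : α ≠ 1) : α = quad F := by
  obtain ⟨ν, hν⟩ := exists_nonsquare_unit hodd
  have hpm : ∀ x : Fˣ, IsSquare (x : F) → α x = 1 := by
    intro x hx
    obtain ⟨s, hs⟩ := hx
    have hs0 : s ≠ 0 := by rintro rfl; exact x.ne_zero (by simpa using hs)
    rw [hs, map_mul, ← sq, ← MulChar.pow_apply' α two_ne_zero, h2, MulChar.one_apply (isUnit_iff_ne_zero.2 hs0)]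
  have hν' : α (ν : F) = -1 := by
    have e : α (ν : F) * α (ν : F) = 1 := by
      rw [← sq, ← MulChar.pow_apply' α two_ne_zero, h2, MulChar.one_apply ν.isUnit]
    refine (mul_self_eq_one_iff.1 e).resolve_left fun e1 => h1 (MulChar.ext fun x => ?_)
    rw [MulChar.one_apply_coe]
    by_cases hx : IsSquare (x : F)
    · exact hpm x hx
    · have hs : IsSquare ((x * ν : Fˣ) : F) := by
        refine (quadraticChar_one_iff_isSquare (x * ν).ne_zero).1 ?_
        rw [Units.val_mul, map_mul, hν, quadraticChar_neg_one_iff_not_isSquare.2 hx]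
        norm_num
      have := hpm _ hs
      rwa [Units.val_mul, map_mul, e1, mul_one] at this
  refine MulChar.ext fun x => ?_
  rw [quad_apply]
  rcases quadraticChar_dichotomy x.ne_zero with h | h <;> rw [h]
  · rw [hpm x ((quadraticChar_one_iff_isSquare x.ne_zero).1 h)]; simp
  · have hs : IsSquare ((x * ν : Fˣ) : F) := by
      refine (quadraticChar_one_iff_isSquare (x * ν).ne_zero).1 ?_
      rw [Units.val_mul, map_mul, hν, h]
      norm_num
    have := hpm _ hs
    rw [Units.val_mul, map_mul, hν'] at this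
    push_cast
    linear_combination -this

/-- The Steinberg character. -/
noncomputable def St : SL(2, F) → ℂ := PS 1 - fun _ => 1

theorem classInner_PS_one (α : MulChar F ℂ) [Decidable (α = 1)] :
    Cfsg.classInner (PS α) (fun _ : SL(2, F) => (1 : ℂ)) = if α = 1 then 1 else 0 := by
  rw [classInner_PS_fun α (fun _ _ => rfl)]
  have hq := Fintype.one_lt_card (α := F)
  simp only [Finset.sum_const, Finset.card_univ, nsmul_eq_mul, mul_one, Complex.conj_natCast, ← Finset.sum_mul,
    card_borelS]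
  have h1 : ((Fintype.card F - 1 : ℕ) : ℂ) ≠ 0 := Nat.cast_ne_zero.2 (by omega)
  have h0 : (Fintype.card F : ℂ) ≠ 0 := Nat.cast_ne_zero.2 (by omega)
  split_ifs with h
  · subst h
    simp only [MulChar.one_apply_coe, Finset.sum_const, Finset.card_univ, nsmul_eq_mul, mul_one, Fintype.card_units]
    push_cast
    field_simp
  · rw [sum_units_mulChar h]; simp

theorem isIrr_St : Cfsg.IsIrrCharacter SL(2, F) (St (F := F)) := by
  classical
  have hgen : Cfsg.IsGeneralizedCharacter SL(2, F) (St (F := F)) :=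
    IsGeneralizedCharacter.sub (IsCharacter.isGeneralized (isCharacter_PS 1)) (IsCharacter.isGeneralized isCharacter_one)
  have hn : Cfsg.classInner (St (F := F)) (St (F := F)) = 1 := by
    rw [St, classInner_sub_left, classInner_sub_right, classInner_sub_right, classInner_PS, classInner_PS_one,
      ← classInner_conj_symm (PS (1 : MulChar F ℂ)) (fun _ => 1), classInner_PS_one,
      classInner_self_irr isIrrCharacter_one]
    simp
  rcases isIrr_or_neg_of_norm_one hgen hn with h | h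
  · exact h
  · exfalso
    obtain ⟨n, hn'⟩ := IsCharacter.apply_one (isCharacter_of_irr h)
    rw [Pi.neg_apply, St, Pi.sub_apply, PS_one, add_sub_cancel_right, neg_eq_iff_add_eq_zero, ← Nat.cast_add,
      Nat.cast_eq_zero] at hn'
    have := Fintype.one_lt_card (α := F)
    omega

theorem St_one : St (1 : SL(2, F)) = (Fintype.card F : ℂ) := by simp [St, PS_one]

theorem PS_bS_unip (α : MulChar F ℂ) {x : F} (hx : x ≠ 0) : PS α (bS 1 x) = 1 := by
  rw [PS_bS]
  simp [hx.symm]

theorem PS_diag (α : MulChar F ℂ) {a : Fˣ} (h : a ≠ a⁻¹) : PS α (bS a 0) = α a + α ((a⁻¹ : Fˣ) : F) := by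
  have h' : ((a⁻¹ : Fˣ) : F) - a ≠ 0 := sub_ne_zero.2 fun e => h (Units.ext e.symm)
  rw [PS_bS, show (Finset.univ.filter fun c : F => c * (((a⁻¹ : Fˣ) : F) - a) = 0) = {0} from ?_,
    Finset.card_singleton, Nat.cast_one, one_mul]
  ext c
  simp only [Finset.mem_filter, Finset.mem_univ, true_and, Finset.mem_singleton, mul_eq_zero, h', or_false]

set_option maxHeartbeats 1000000 in
theorem PS_twist (α : MulChar F ℂ) (ν : Fˣ) : (fun g => PS α (twist ν g)) = PS α := by
  classical
  have hcf : Cfsg.IsClassFunction SL(2, F) fun g => PS α (twist ν g) := fun g h => by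
    show PS α (twist ν (h * g * h⁻¹)) = PS α (twist ν g)
    rw [map_mul, map_mul, map_inv]
    exact isClassFunction_PS α _ _
  have h22 : Cfsg.classInner (fun g => PS α (twist ν g)) (fun g => PS α (twist ν g)) =
      Cfsg.classInner (PS α) (PS α) := classInner_comp_equiv (twist ν).toEquiv (PS α) (PS α)
  have hv : ∀ (a : Fˣ) (x : F), (fun g => PS α (twist ν g)) (bS a x) = PS α (bS a ((ν : F) * x)) := fun a x => by
    show PS α (twist ν (bS a x)) = _
    rw [twist_bS]
  revert h22 hcf hv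
  generalize (fun g => PS α (twist ν g)) = f
  intro hcf h22 hv
  have h12 : Cfsg.classInner (PS α) f = Cfsg.classInner (PS α) (PS α) := by
    refine (classInner_PS_fun α hcf).trans (Eq.trans ?_ (classInner_PS_fun α (isClassFunction_PS α)).symm)
    congr 1
    refine Finset.sum_congr rfl fun a _ => ?_
    congr 2
    rw [← Equiv.sum_comp (Equiv.mulLeft₀ (ν : F) ν.ne_zero) fun x : F => PS α (bS a x)]
    exact Finset.sum_congr rfl fun x _ => hv a x
  have hreal : conj (Cfsg.classInner (PS α) (PS α)) = Cfsg.classInner (PS α) (PS α) := classInner_conj_symm _ _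
  refine sub_eq_zero.1 ((classInner_self_eq_zero _).1 ?_)
  rw [classInner_sub_left, classInner_sub_right, classInner_sub_right,
    ← classInner_conj_symm (PS α) f, h12, h22, hreal]
  ring

/-- A character whose average over the unipotent group vanishes has all these sums zero. -/
theorem sums_zero {f : SL(2, F) → ℂ} (hf : Cfsg.IsCharacter SL(2, F) f) (h : ∑ x : F, f (bS 1 x) = 0) (a : Fˣ) :
    ∑ x : F, f (bS a x) = 0 := by
  have h' := sum_translate_eq_zero hf uS
    (by rw [← h, ← Equiv.sum_comp Multiplicative.toAdd fun x : F => f (bS 1 x)]; rfl) (bS a 0)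
  rw [← h', ← Equiv.sum_comp Multiplicative.ofAdd fun k => f (bS a 0 * uS k),
    ← Equiv.sum_comp (Equiv.mulLeft₀ (a : F) a.ne_zero) fun x : F => f (bS a x)]
  refine Finset.sum_congr rfl fun y _ => ?_
  rw [uS_apply, bS_mul]
  simp

theorem twist_conj_ell {g : SL(2, F)} (hg : Ell g) (ν : Fˣ) : IsConj g (twist ν g) := by
  have hi : Irred (g : Matrix (Fin 2) (Fin 2) F).trace 1 := (irred_of_no_eigen hg).2
  have hns : NonScalar (g : Matrix (Fin 2) (Fin 2) F) := (irred_of_no_eigen hg).1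
  have hfull : Full (Matrix.SpecialLinearGroup.toGL g) :=
    (full_irred (g := Matrix.SpecialLinearGroup.toGL g) hns (g.2.symm ▸ hi)).2
  refine isConj_SL hns ?_ ?_ hfull
  · intro h
    refine hns ⟨?_, ?_, ?_⟩
    · simpa using h.1
    · simpa using h.2.1
    · simpa using h.2.2
  · simp [Matrix.trace_fin_two]

/-- The two halves of the principal series of the quadratic character. -/
theorem halves (hodd : Odd (Fintype.card F)) {ν : Fˣ} (hν : quadraticChar F (ν : F) = -1) :
    ∃ η₁ η₂ : SL(2, F) → ℂ, Cfsg.IsIrrCharacter SL(2, F) η₁ ∧ Cfsg.IsIrrCharacter SL(2, F) η₂ ∧ η₁ ≠ η₂ ∧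
      PS (quad F) = η₁ + η₂ ∧ (∀ g, η₂ (twist ν g) = η₁ g) ∧ (∀ g, η₁ (twist ν g) = η₂ g) ∧
      ∀ η, η = η₁ ∨ η = η₂ → η 1 = (((Fintype.card F + 1) / 2 : ℕ) : ℂ) ∧
        ∑ x : F, η (bS 1 x) = (Fintype.card F : ℂ) ∧
        η (bS 1 1) + η (bS 1 (ν : F)) = 1 ∧
        (η (bS 1 1) - η (bS 1 (ν : F))) ^ 2 = (-1 : ℂ) ^ ((Fintype.card F - 1) / 2) * (Fintype.card F : ℂ) ∧
        (∀ a : Fˣ, a ≠ a⁻¹ → η (bS a 0) = quad F a) ∧ ∀ g, Ell g → η g = 0 := by
  classical
  have hsq : quad F = (quad F)⁻¹ := (sq_eq_one_iff _).1 quad_sq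
  have hne := quad_ne_one (F := F) hodd
  have hnorm : Cfsg.classInner (PS (quad F)) (PS (quad F)) = 2 := by
    rw [classInner_PS, if_pos rfl, if_pos hsq]; norm_num
  obtain ⟨η₁, η₂, i₁, i₂, hne12, hadd⟩ := exists_add_of_norm_two (isCharacter_PS _) hnorm
  have hPS0 : Cfsg.classInner (PS (quad F)) (fun _ : SL(2, F) => (1 : ℂ)) = 0 := by
    rw [classInner_PS_one, if_neg hne]
  have hPS1 : ∀ η, η = η₁ ∨ η = η₂ → Cfsg.classInner (PS (quad F)) η = 1 := by
    intro η hη
    rcases hη with h | h <;> subst h <;>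
      rw [hadd, classInner_add_left, classInner_irrChar i₁ (by assumption), classInner_irrChar i₂ (by assumption)] <;>
      simp [hne12, hne12.symm]
  have hirr : ∀ η, η = η₁ ∨ η = η₂ → Cfsg.IsIrrCharacter SL(2, F) η := by
    rintro η (rfl | rfl) <;> assumption
  have hdata : ∀ η, η = η₁ ∨ η = η₂ → ∃ a m j : ℕ, 1 ≤ a ∧ 1 ≤ m ∧ (∑ x : F, η (bS 1 x) = (Fintype.card F : ℂ) * a) ∧
      η 1 = (a : ℂ) + ((Fintype.card F - 1) / 2 : ℕ) * (m : ℂ) ∧
      η (bS 1 1) + η (bS 1 (ν : F)) = 2 * (a : ℂ) - (m : ℂ) ∧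
      (η (bS 1 1) - η (bS 1 (ν : F))) ^ 2 =
        (-1 : ℂ) ^ ((Fintype.card F - 1) / 2) * (Fintype.card F : ℂ) * (j : ℂ) ^ 2 ∧ j % 2 = m % 2 ∧ j ≤ m := by
    intro η hη
    have hc := isCharacter_of_irr (hirr η hη)
    obtain ⟨a, k, k', h1, h2, h3, h4⟩ := unip_data hodd hc hν
    have ha : 1 ≤ a := by
      by_contra ha
      have h0 : a = 0 := by omega
      subst h0
      have e := hPS1 η hη
      rw [classInner_PS_fun _ (isClassFunction_isChar hc)] at e
      simp [sums_zero hc (by simpa using h1)] at e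
    have hm : 1 ≤ k + k' := by
      by_contra hm
      obtain ⟨rfl, rfl⟩ : k = 0 ∧ k' = 0 := by omega
      simp only [Nat.cast_zero, add_zero, mul_zero, sub_zero, sub_self, ne_eq, OfNat.ofNat_ne_zero,
        not_false_eq_true, zero_pow] at h2 h3 h4
      have hd := sub_eq_zero.1 ((pow_eq_zero_iff two_ne_zero).1 h4)
      rw [hd, ← two_mul] at h3
      have hv := mul_left_cancel₀ two_ne_zero h3
      have hall : ∀ x : F, η (bS 1 x) = η 1 := fun x => by
        rw [apply_bS_unip (isClassFunction_isChar hc) hν x, hd, hv, h2]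
        split_ifs <;> ring
      have e := hPS1 η hη
      rw [eq_principal_of_unip (hirr η hη) hall, hPS0] at e
      exact zero_ne_one e
    refine ⟨a, k + k', max k k' - min k k', ha, hm, h1, by push_cast; exact h2, by push_cast; exact h3, ?_, by omega, by omega⟩
    rw [h4]
    rcases le_total k k' with h | h
    · rw [max_eq_right h, min_eq_left h, Nat.cast_sub h]; ring
    · rw [max_eq_left h, min_eq_right h, Nat.cast_sub h]
  obtain ⟨a₁, m₁, j₁, ha₁, hm₁, hs₁, hd₁, hv₁, hdd₁, hpar₁, hjm₁⟩ := hdata η₁ (.inl rfl)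
  obtain ⟨a₂, m₂, j₂, ha₂, hm₂, hs₂, hd₂, hv₂, hdd₂, hpar₂, hjm₂⟩ := hdata η₂ (.inr rfl)
  have hsum : (a₁ : ℂ) + a₂ = 2 := by
    have e : ∑ x : F, PS (quad F) (bS 1 x) = (Fintype.card F : ℂ) * 2 := by
      rw [sum_PS_bS]; simp; ring
    rw [hadd] at e
    simp only [Pi.add_apply, Finset.sum_add_distrib, hs₁, hs₂, ← mul_add] at e
    exact mul_left_cancel₀ (Nat.cast_ne_zero.2 Fintype.card_ne_zero) e
  have hasum : a₁ + a₂ = 2 := by exact_mod_cast hsum
  have hu1 := congrFun hadd (bS 1 1)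
  have huν := congrFun hadd (bS 1 (ν : F))
  rw [PS_bS_unip _ one_ne_zero, Pi.add_apply] at hu1
  rw [PS_bS_unip _ ν.ne_zero, Pi.add_apply] at huν
  have hmsum : ((m₁ + m₂ : ℕ) : ℂ) = ((2 : ℕ) : ℂ) := by
    push_cast
    linear_combination hu1 + huν + hv₁ + hv₂ + 2 * hsum
  have hmsum' : m₁ + m₂ = 2 := Nat.cast_injective hmsum
  obtain ⟨rfl, rfl⟩ : a₁ = 1 ∧ a₂ = 1 := by omega
  obtain ⟨rfl, rfl⟩ : m₁ = 1 ∧ m₂ = 1 := by omega
  obtain ⟨rfl, rfl⟩ : j₁ = 1 ∧ j₂ = 1 := by omega
  simp only [Nat.cast_one, one_pow, mul_one] at hs₁ hs₂ hd₁ hd₂ hv₁ hv₂ hdd₁ hdd₂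
  have hd0 : η₁ (bS 1 1) ≠ η₁ (bS 1 (ν : F)) := fun e => by
    rw [e, sub_self, zero_pow two_ne_zero] at hdd₁
    exact mul_ne_zero (pow_ne_zero _ (by norm_num)) (Nat.cast_ne_zero.2 (Fintype.card_ne_zero (α := F))) hdd₁.symm
  have e1 : (fun g => η₁ (twist ν g)) = η₁ ∨ (fun g => η₁ (twist ν g)) = η₂ := by
    by_contra hno
    push Not at hno
    have i' := IsIrrCharacter.comp_mulEquiv i₁ (twist ν)
    have e : Cfsg.classInner (fun g => PS (quad F) (twist ν g)) (fun g => η₁ (twist ν g)) =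
        Cfsg.classInner (PS (quad F)) η₁ := classInner_comp_equiv (twist ν).toEquiv _ _
    rw [PS_twist, hPS1 η₁ (.inl rfl), hadd, classInner_add_left, classInner_irrChar i₁ i',
      classInner_irrChar i₂ i', if_neg hno.1.symm, if_neg hno.2.symm] at e
    norm_num at e
  have e12 : ∀ g, η₁ (twist ν g) = η₂ g := by
    refine congrFun (e1.resolve_left fun h => hd0 ?_)
    have := congrFun h (bS 1 1)
    simp only [twist_bS, mul_one] at this
    exact this.symm
  have e21 : ∀ g, η₂ (twist ν g) = η₁ g := fun g => by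
    have h := congrFun (PS_twist (quad F) ν) g
    simp only [hadd, Pi.add_apply, e12] at h
    linear_combination h
  refine ⟨η₁, η₂, i₁, i₂, hne12, hadd, e21, e12, ?_⟩
  have hq := Fintype.one_lt_card (α := F)
  obtain ⟨h, hh⟩ := hodd
  have hdeg : ((Fintype.card F + 1) / 2 : ℕ) = (Fintype.card F - 1) / 2 + 1 := by omega
  intro η hη
  have hell : ∀ g, Ell g → η g = 0 := by
    intro g hg
    have ec : η₁ (twist ν g) = η₁ g :=
      (classFunction_eq_of_isConj (isClassFunction_isChar (isCharacter_of_irr i₁)) (twist_conj_ell hg ν)).symm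
    rw [e12] at ec
    have h0 := congrFun hadd g
    rw [PS_ell _ hg, Pi.add_apply] at h0
    rcases hη with rfl | rfl
    · linear_combination (-1 / 2 : ℂ) * h0 + (-1 / 2 : ℂ) * ec
    · linear_combination (-1 / 2 : ℂ) * h0 + (1 / 2 : ℂ) * ec
  have hdiag : ∀ a : Fˣ, a ≠ a⁻¹ → η (bS a 0) = quad F a := by
    intro a ha
    have ec := e12 (bS a 0)
    rw [twist_bS, mul_zero] at ec
    have h0 := congrFun hadd (bS a 0)
    rw [PS_diag _ ha, Pi.add_apply,
      show quad F ((a⁻¹ : Fˣ) : F) = quad F a by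
        rw [Units.val_inv_eq_inv_val, ← MulChar.inv_apply' (quad F), ← hsq]] at h0
    rcases hη with rfl | rfl
    · linear_combination (-1 / 2 : ℂ) * h0 + (1 / 2 : ℂ) * ec
    · linear_combination (-1 / 2 : ℂ) * h0 + (-1 / 2 : ℂ) * ec
  rcases hη with rfl | rfl
  · refine ⟨?_, hs₁, by linear_combination hv₁, hdd₁, hdiag, hell⟩
    rw [hd₁, hdeg]; push_cast; ring
  · refine ⟨?_, hs₂, by linear_combination hv₂, hdd₂, hdiag, hell⟩
    rw [hd₂, hdeg]; push_cast; ring

end Cfsg.Lib.GLTwo.SCh
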