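import Cfsg.Agent.Known.SLTwo.Chars.SLFacts

/-! The numbers of irreducible characters of SL₂ of each degree. -/

set_option autoImplicit false
set_option linter.unusedSectionVars false

open Matrix
open scoped ComplexConjugate MatrixGroups

namespace Cfsg.Lib.GLTwo.SCh

open Cfsg.Lib.CharTools Cfsg.Lib.Chars

variable {F : Type*} [Field F] [Fintype F] [DecidableEq F]

theorem deg_eq_iff (χ : Cfsg.IrrCharacter SL(2, F)) (n : ℕ) :
    (χ : SL(2, F) → ℂ) 1 = (n : ℂ) ↔ deg (χ : SL(2, F) → ℂ) = n := by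
  rw [irr_apply_one_eq_deg, Nat.cast_inj]

theorem card_deg_unique (n : ℕ) (χ₀ : Cfsg.IrrCharacter SL(2, F))
    (h0 : (χ₀ : SL(2, F) → ℂ) 1 = (n : ℂ))
    (h : ∀ χ : Cfsg.IrrCharacter SL(2, F), (χ : SL(2, F) → ℂ) 1 = (n : ℂ) → χ = χ₀) :
    Nat.card {χ : Cfsg.IrrCharacter SL(2, F) // (χ : SL(2, F) → ℂ) 1 = (n : ℂ)} = 1 := by
  rw [Nat.card_eq_one_iff_unique]
  exact ⟨⟨fun a b => Subtype.ext ((h a.1 a.2).trans (h b.1 b.2).symm)⟩, ⟨⟨χ₀, h0⟩⟩⟩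

theorem degrees_odd (hodd : Odd (Fintype.card F)) :
    (∀ χ : SL(2, F) → ℂ, Cfsg.IsIrrCharacter SL(2, F) χ →
      χ 1 = 1 ∨ χ 1 = (Fintype.card F : ℂ) ∨ χ 1 = (Fintype.card F : ℂ) + 1 ∨ χ 1 = (Fintype.card F : ℂ) - 1 ∨
        χ 1 = (((Fintype.card F + 1) / 2 : ℕ) : ℂ) ∨ χ 1 = (((Fintype.card F - 1) / 2 : ℕ) : ℂ)) ∧
    (5 ≤ Fintype.card F →
      Nat.card {χ : Cfsg.IrrCharacter SL(2, F) // (χ : SL(2, F) → ℂ) 1 = 1} = 1 ∧
      Nat.card {χ : Cfsg.IrrCharacter SL(2, F) // (χ : SL(2, F) → ℂ) 1 = (Fintype.card F : ℂ)} = 1 ∧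
      Nat.card {χ : Cfsg.IrrCharacter SL(2, F) // (χ : SL(2, F) → ℂ) 1 = (Fintype.card F : ℂ) + 1} = (Fintype.card F - 3) / 2 ∧
      Nat.card {χ : Cfsg.IrrCharacter SL(2, F) // (χ : SL(2, F) → ℂ) 1 = (Fintype.card F : ℂ) - 1} = (Fintype.card F - 1) / 2 ∧
      Nat.card {χ : Cfsg.IrrCharacter SL(2, F) // (χ : SL(2, F) → ℂ) 1 = (((Fintype.card F + 1) / 2 : ℕ) : ℂ)} = 2 ∧
      Nat.card {χ : Cfsg.IrrCharacter SL(2, F) // (χ : SL(2, F) → ℂ) 1 = (((Fintype.card F - 1) / 2 : ℕ) : ℂ)} = 2) := by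
  classical
  obtain ⟨ν, hν⟩ := exists_nonsquare_unit hodd
  obtain ⟨h, h1, hh, hh1, hh2, hh3⟩ := odd_deg_ne (F := F) hodd
  refine ⟨fun χ hχ => ?_, fun h5 => ⟨?_, ?_, ?_, ?_, ?_, ?_⟩⟩
  · rcases kinds_odd hodd hν hχ with e | e | ⟨α, -, e⟩ | e | e | e
    · exact .inl (by rw [e])
    · exact .inr (.inl (by rw [e]; exact St_one))
    · exact .inr (.inr (.inl (by rw [e]; exact PS_one α)))
    · exact .inr (.inr (.inr (.inr (.inl e.1))))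
    · exact .inr (.inr (.inr (.inl (by rw [e.2.1, cast_pred]))))
    · exact .inr (.inr (.inr (.inr (.inr e.2.1))))
  · refine Eq.trans ?_ (card_deg_unique (F := F) 1 ⟨fun _ => 1, isIrrCharacter_one⟩ (by simp) fun χ hd => ?_)
    · simp only [Nat.cast_one]
    · rcases kinds_odd hodd hν χ.2 with e | e | ⟨α, -, e⟩ | e | e | e
      · exact Subtype.ext e
      · rw [e, St_one, cast_eq_iff] at hd; omega
      · rw [e, PS_one, ← Nat.cast_add_one, cast_eq_iff] at hd; omega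
      · rw [e.1, cast_eq_iff] at hd; omega
      · rw [e.2.1, cast_eq_iff] at hd; omega
      · rw [e.2.1, cast_eq_iff] at hd; omega
  · exact card_deg_unique _ ⟨St, isIrr_St⟩ St_one fun χ hd => Subtype.ext (eq_St χ.2 hd)
  · obtain ⟨-, -, -, h4⟩ := table_odd hodd hν
    rw [show Nat.card {χ : Cfsg.IrrCharacter SL(2, F) // (χ : SL(2, F) → ℂ) 1 = (Fintype.card F : ℂ) + 1} =
      Nat.card {χ : Cfsg.IrrCharacter SL(2, F) //
        deg (χ : SL(2, F) → ℂ) = Fintype.card F + 1 ∧ ¬ IsCusp (χ : SL(2, F) → ℂ)} from ?_]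
    · omega
    refine Nat.card_congr (Equiv.subtypeEquivRight fun χ => ?_)
    rw [← Nat.cast_add_one, deg_eq_iff]
    refine ⟨fun e => ⟨e, fun hc => ?_⟩, And.left⟩
    rcases (table_odd hodd hν).1 _ χ.2 hc with e' | e' <;>
      · have := e'.1
        rw [deg_eq_iff, e] at this
        omega
  · obtain ⟨-, -, h3, -⟩ := table_odd hodd hν
    rw [show Nat.card {χ : Cfsg.IrrCharacter SL(2, F) // (χ : SL(2, F) → ℂ) 1 = (Fintype.card F : ℂ) - 1} =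
      Nat.card {χ : Cfsg.IrrCharacter SL(2, F) //
        IsCusp (χ : SL(2, F) → ℂ) ∧ deg (χ : SL(2, F) → ℂ) = Fintype.card F - 1} from ?_]
    · omega
    refine Nat.card_congr (Equiv.subtypeEquivRight fun χ => ?_)
    refine ⟨fun e => ⟨(deg_pred hodd h5 hν χ.2 e).1, ?_⟩, fun e => ?_⟩
    · rw [← deg_eq_iff, e, cast_pred]
    · rw [← cast_pred, deg_eq_iff, e.2]
  · obtain ⟨η₁, η₂, hne, -, p1, p2, hcov⟩ := exists_half_pair hodd hν
    rw [Nat.card_eq_fintype_card, Fintype.card_subtype,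
      show (Finset.univ.filter fun χ : Cfsg.IrrCharacter SL(2, F) =>
        (χ : SL(2, F) → ℂ) 1 = (((Fintype.card F + 1) / 2 : ℕ) : ℂ)) = {η₁, η₂} from ?_, Finset.card_pair hne]
    ext χ
    simp only [Finset.mem_filter, Finset.mem_univ, true_and, Finset.mem_insert, Finset.mem_singleton]
    refine ⟨fun hd => ?_, ?_⟩
    · rcases cases_irr χ.2 with e | e | ⟨α, -, e⟩ | ⟨-, e⟩ | e
      · rw [e, ← Nat.cast_one, cast_eq_iff] at hd; omega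
      · rw [e, St_one, cast_eq_iff] at hd; omega
      · rw [e, PS_one, ← Nat.cast_add_one, cast_eq_iff] at hd; omega
      · exact hcov χ e
      · rcases (table_odd hodd hν).1 _ χ.2 e with e' | e' <;>
          · rw [e'.1, cast_eq_iff] at hd; omega
    · rintro (rfl | rfl)
      · exact p1.1
      · exact p2.1
  · obtain ⟨-, h2, -⟩ := table_odd hodd hν
    refine Eq.trans ?_ h2
    refine Nat.card_congr (Equiv.subtypeEquivRight fun χ => ?_)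
    exact ⟨fun e => ⟨(deg_half_minus hodd h5 hν χ.2 e).1, (deg_eq_iff χ _).1 e⟩, fun e => (deg_eq_iff χ _).2 e.2⟩

theorem degrees_even (heven : Even (Fintype.card F)) :
    (∀ χ : SL(2, F) → ℂ, Cfsg.IsIrrCharacter SL(2, F) χ →
      χ 1 = 1 ∨ χ 1 = (Fintype.card F : ℂ) - 1 ∨ χ 1 = (Fintype.card F : ℂ) ∨ χ 1 = (Fintype.card F : ℂ) + 1) ∧
    (4 ≤ Fintype.card F →
      Nat.card {χ : Cfsg.IrrCharacter SL(2, F) // (χ : SL(2, F) → ℂ) 1 = 1} = 1 ∧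
      Nat.card {χ : Cfsg.IrrCharacter SL(2, F) // (χ : SL(2, F) → ℂ) 1 = (Fintype.card F : ℂ)} = 1 ∧
      Nat.card {χ : Cfsg.IrrCharacter SL(2, F) // (χ : SL(2, F) → ℂ) 1 = (Fintype.card F : ℂ) + 1} = (Fintype.card F - 2) / 2 ∧
      Nat.card {χ : Cfsg.IrrCharacter SL(2, F) // (χ : SL(2, F) → ℂ) 1 = (Fintype.card F : ℂ) - 1} = Fintype.card F / 2) := by
  classical
  obtain ⟨h1, h2, h3⟩ := table_even heven
  have hno : ¬ Odd (Fintype.card F) := Nat.not_odd_iff_even.2 heven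
  refine ⟨fun χ hχ => ?_, fun h4 => ⟨?_, ?_, ?_, ?_⟩⟩
  · rcases cases_irr hχ with e | e | ⟨α, -, e⟩ | ⟨ho, -⟩ | e
    · exact .inl (by rw [e])
    · exact .inr (.inr (.inl (by rw [e]; exact St_one)))
    · exact .inr (.inr (.inr (by rw [e]; exact PS_one α)))
    · exact absurd ho hno
    · exact .inr (.inl (by rw [(h1 χ hχ e).1, cast_pred]))
  · refine Eq.trans ?_ (card_deg_unique (F := F) 1 ⟨fun _ => 1, isIrrCharacter_one⟩ (by simp) fun χ hd => ?_)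
    · simp only [Nat.cast_one]
    · rcases cases_irr χ.2 with e | e | ⟨α, -, e⟩ | ⟨ho, -⟩ | e
      · exact Subtype.ext e
      · rw [e, St_one, cast_eq_iff] at hd; omega
      · rw [e, PS_one, ← Nat.cast_add_one, cast_eq_iff] at hd; omega
      · exact absurd ho hno
      · rw [(h1 _ χ.2 e).1, cast_eq_iff] at hd; omega
  · exact card_deg_unique _ ⟨St, isIrr_St⟩ St_one fun χ hd => Subtype.ext (eq_St χ.2 hd)
  · rw [show Nat.card {χ : Cfsg.IrrCharacter SL(2, F) // (χ : SL(2, F) → ℂ) 1 = (Fintype.card F : ℂ) + 1} =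
      Nat.card {χ : Cfsg.IrrCharacter SL(2, F) //
        deg (χ : SL(2, F) → ℂ) = Fintype.card F + 1 ∧ ¬ IsCusp (χ : SL(2, F) → ℂ)} from ?_]
    · omega
    refine Nat.card_congr (Equiv.subtypeEquivRight fun χ => ?_)
    rw [← Nat.cast_add_one, deg_eq_iff]
    refine ⟨fun e => ⟨e, fun hc => ?_⟩, And.left⟩
    have := (h1 _ χ.2 hc).1
    rw [deg_eq_iff, e] at this
    omega
  · rw [show Nat.card {χ : Cfsg.IrrCharacter SL(2, F) // (χ : SL(2, F) → ℂ) 1 = (Fintype.card F : ℂ) - 1} =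
      Nat.card {χ : Cfsg.IrrCharacter SL(2, F) //
        IsCusp (χ : SL(2, F) → ℂ) ∧ deg (χ : SL(2, F) → ℂ) = Fintype.card F - 1} from ?_]
    · omega
    refine Nat.card_congr (Equiv.subtypeEquivRight fun χ => ?_)
    rw [← cast_pred, deg_eq_iff]
    refine ⟨fun e => ⟨?_, e⟩, And.right⟩
    have hd := (deg_eq_iff χ _).2 e
    rcases cases_irr χ.2 with e' | e' | ⟨α, -, e'⟩ | ⟨ho, -⟩ | e'
    · rw [e', ← Nat.cast_one, cast_eq_iff] at hd; omega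
    · rw [e', St_one, cast_eq_iff] at hd; omega
    · rw [e', PS_one, ← Nat.cast_add_one, cast_eq_iff] at hd; omega
    · exact absurd ho hno
    · exact e'

theorem sum_unitri (χ : SL(2, F) → ℂ) :
    (∑ g : SL(2, F), if (g : Matrix (Fin 2) (Fin 2) F) 1 0 = 0 ∧ (g : Matrix (Fin 2) (Fin 2) F) 0 0 = 1 ∧
      (g : Matrix (Fin 2) (Fin 2) F) 1 1 = 1 then χ g else 0) = ∑ x : F, χ (bS 1 x) := by
  rw [← Finset.sum_filter]
  refine Finset.sum_nbij' (fun g => (g : Matrix (Fin 2) (Fin 2) F) 0 1) (fun x => bS 1 x)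
    (fun g _ => Finset.mem_univ _) (fun x _ => by simp) (fun g hg => ?_) (fun x _ => by simp) (fun g hg => ?_)
  all_goals
    simp only [Finset.mem_filter, Finset.mem_univ, true_and] at hg
    obtain ⟨h10, h00, h11⟩ := hg
  · refine Subtype.ext ?_
    ext i j; fin_cases i <;> fin_cases j <;> simp [h10, h00, h11]
  · congr 1
    refine Subtype.ext ?_
    ext i j; fin_cases i <;> fin_cases j <;> simp [h10, h00, h11]

theorem coset_sums (hodd : Odd (Fintype.card F)) (hq : 5 ≤ Fintype.card F) {χ : SL(2, F) → ℂ}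
    (hχ : Cfsg.IsIrrCharacter SL(2, F) χ) :
    (χ 1 = (Fintype.card F : ℂ) + 1 → ∑ x : F, χ (bS 1 x) = 2 * (Fintype.card F : ℂ)) ∧
    (χ 1 = (Fintype.card F : ℂ) → ∑ x : F, χ (bS 1 x) = (Fintype.card F : ℂ)) ∧
    (χ 1 = (Fintype.card F : ℂ) - 1 → ∑ x : F, χ (bS 1 x) = 0) ∧
    (χ 1 = (((Fintype.card F + 1) / 2 : ℕ) : ℂ) → ∑ x : F, χ (bS 1 x) = (Fintype.card F : ℂ)) ∧
    (χ 1 = (((Fintype.card F - 1) / 2 : ℕ) : ℂ) → ∑ x : F, χ (bS 1 x) = 0) := by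
  obtain ⟨ν, hν⟩ := exists_nonsquare_unit hodd
  refine ⟨fun h => ?_, fun h => ?_, fun h => ?_, fun h => ?_, fun h => ?_⟩
  · obtain ⟨α, -, rfl⟩ := eq_PS hχ h
    rw [sum_PS_bS]; simp; ring
  · rw [eq_St hχ h]
    simp only [St, Pi.sub_apply, Finset.sum_sub_distrib, sum_PS_bS, Finset.sum_const, Finset.card_univ]
    simp; ring
  · exact cusp_sum_one hχ (deg_pred hodd hq hν hχ h).1
  · exact (deg_half_plus hodd hq hν hχ h).2.1
  · exact cusp_sum_one hχ (deg_half_minus hodd hq hν hχ h).1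

theorem gauss_values (hodd : Odd (Fintype.card F)) (hq : 5 ≤ Fintype.card F) :
    (∀ χ : SL(2, F) → ℂ, Cfsg.IsIrrCharacter SL(2, F) χ → χ 1 = (((Fintype.card F + 1) / 2 : ℕ) : ℂ) →
      (2 * χ (bS 1 1) - 1) ^ 2 = (-1 : ℂ) ^ ((Fintype.card F - 1) / 2) * (Fintype.card F : ℂ)) ∧
    (∀ χ : SL(2, F) → ℂ, Cfsg.IsIrrCharacter SL(2, F) χ → χ 1 = (((Fintype.card F - 1) / 2 : ℕ) : ℂ) →
      (2 * χ (bS 1 1) + 1) ^ 2 = (-1 : ℂ) ^ ((Fintype.card F - 1) / 2) * (Fintype.card F : ℂ)) ∧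
    (∀ χ₁ χ₂ : SL(2, F) → ℂ, Cfsg.IsIrrCharacter SL(2, F) χ₁ → Cfsg.IsIrrCharacter SL(2, F) χ₂ → χ₁ ≠ χ₂ →
      χ₁ 1 = (((Fintype.card F + 1) / 2 : ℕ) : ℂ) → χ₂ 1 = (((Fintype.card F + 1) / 2 : ℕ) : ℂ) →
      χ₁ (bS 1 1) + χ₂ (bS 1 1) = 1) ∧
    (∀ χ₁ χ₂ : SL(2, F) → ℂ, Cfsg.IsIrrCharacter SL(2, F) χ₁ → Cfsg.IsIrrCharacter SL(2, F) χ₂ → χ₁ ≠ χ₂ →
      χ₁ 1 = (((Fintype.card F - 1) / 2 : ℕ) : ℂ) → χ₂ 1 = (((Fintype.card F - 1) / 2 : ℕ) : ℂ) →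
      χ₁ (bS 1 1) + χ₂ (bS 1 1) = -1) := by
  classical
  obtain ⟨ν, hν⟩ := exists_nonsquare_unit hodd
  refine ⟨fun χ hχ h => ?_, fun χ hχ h => ?_, fun χ₁ χ₂ i₁ i₂ hne h₁ h₂ => ?_, fun χ₁ χ₂ i₁ i₂ hne h₁ h₂ => ?_⟩
  · obtain ⟨-, -, h3, h4, -⟩ := deg_half_plus hodd hq hν hχ h
    linear_combination h4 + (χ (bS 1 1) - χ (bS 1 (ν : F)) + (2 * χ (bS 1 1) - 1)) * h3
  · obtain ⟨-, h3, h4⟩ := deg_half_minus hodd hq hν hχ h
    linear_combination h4 - (χ (bS 1 1) - χ (bS 1 (ν : F)) + (2 * χ (bS 1 1) + 1)) * (-h3)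
  · obtain ⟨η₁, η₂, -, hsum, -, -, hcov⟩ := exists_half_pair hodd hν
    have key : ∀ χ : SL(2, F) → ℂ, Cfsg.IsIrrCharacter SL(2, F) χ → χ 1 = (((Fintype.card F + 1) / 2 : ℕ) : ℂ) →
        χ = (η₁ : SL(2, F) → ℂ) ∨ χ = (η₂ : SL(2, F) → ℂ) := by
      intro χ hχ h
      obtain ⟨h', h1, hh, hh1, hh2, hh3⟩ := odd_deg_ne (F := F) hodd
      rcases cases_irr hχ with e | e | ⟨α, -, e⟩ | ⟨-, e⟩ | e
      · rw [e, ← Nat.cast_one, cast_eq_iff] at h; omega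
      · rw [e, St_one, cast_eq_iff] at h; omega
      · rw [e, PS_one, ← Nat.cast_add_one, cast_eq_iff] at h; omega
      · exact (hcov ⟨χ, hχ⟩ e).imp (congrArg Subtype.val) (congrArg Subtype.val)
      · rcases (table_odd hodd hν).1 _ hχ e with e' | e' <;>
          · rw [e'.1, cast_eq_iff] at h; omega
    rcases key χ₁ i₁ h₁ with rfl | rfl <;> rcases key χ₂ i₂ h₂ with rfl | rfl
    · exact absurd rfl hne
    · exact hsum
    · rw [add_comm]; exact hsum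
    · exact absurd rfl hne
  · obtain ⟨c₁, s₁, d₁⟩ := deg_half_minus hodd hq hν i₁ h₁
    obtain ⟨c₂, -, -⟩ := deg_half_minus hodd hq hν i₂ h₂
    have hd : χ₁ (bS 1 1) ≠ χ₁ (bS 1 (ν : F)) := fun e => by
      rw [e, sub_self, zero_pow two_ne_zero] at d₁
      exact mul_ne_zero (pow_ne_zero _ (by norm_num)) (Nat.cast_ne_zero.2 (Fintype.card_ne_zero (α := F))) d₁.symm
    have e := half_minus_twist hodd hν (χ₁ := ⟨χ₁, i₁⟩) (χ₂ := ⟨χ₂, i₂⟩) (fun e => hne (congrArg Subtype.val e))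
      c₁ c₂ ((deg_eq_iff ⟨χ₁, i₁⟩ _).1 h₁) ((deg_eq_iff ⟨χ₂, i₂⟩ _).1 h₂) hd (bS 1 1)
    rw [twist_bS, mul_one] at e
    rw [show χ₂ (bS 1 1) = χ₁ (bS 1 (ν : F)) from e]
    exact s₁

end Cfsg.Lib.GLTwo.SCh
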