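import Cfsg.Agent.Known.SLTwo.Chars.SLTori
import Cfsg.Agent.Known.SLTwo.Torus

/-! The characters of degree `q - 1` and `(q - 1)/2` on non-split tori. -/

set_option autoImplicit false
set_option linter.unusedSectionVars false

open Matrix
open scoped ComplexConjugate MatrixGroups

namespace Cfsg.Lib.GLTwo.SCh

open Cfsg.Lib.CharTools Cfsg.Lib.Chars

variable {F : Type*} [Field F] [Fintype F] [DecidableEq F] {C : Subgroup SL(2, F)}

theorem units_eq_of_add_inv {a b : ℂˣ} (h : (a : ℂ) + (a⁻¹ : ℂˣ) = (b : ℂ) + (b⁻¹ : ℂˣ)) : a = b ∨ a * b = 1 := by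
  have ha := a.ne_zero
  have hb := b.ne_zero
  have e : ((a : ℂ) - b) * ((a : ℂ) * b - 1) = 0 := by
    rw [Units.val_inv_eq_inv_val, Units.val_inv_eq_inv_val] at h
    field_simp at h
    linear_combination h
  rcases mul_eq_zero.1 e with e | e
  · exact .inl (Units.ext (sub_eq_zero.1 e))
  · exact .inr (Units.ext (by push_cast; linear_combination e))

/-- An irreducible character attached to a character of order greater than two of the torus. -/
theorem torus_irr (hodd : Odd (Fintype.card F)) (hC : IsCyclic C) (hcard : Nat.card C = Fintype.card F + 1)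
    (θ : C →* ℂˣ) (h : ∃ c, θ c * θ c ≠ 1) :
    ∃ χ : Cfsg.IrrCharacter SL(2, F), IsCusp (χ : SL(2, F) → ℂ) ∧ deg (χ : SL(2, F) → ℂ) = Fintype.card F - 1 ∧
      (∀ c : C, (c : SL(2, F)) ≠ 1 → (c : SL(2, F)) ≠ -1 →
        (χ : SL(2, F) → ℂ) c = -((θ c : ℂ) + ((θ c)⁻¹ : ℂˣ))) ∧
      (∀ g, (χ : SL(2, F) → ℂ) (-g) = (θ ⟨-1, neg_one_mem hodd hcard⟩ : ℂ) * (χ : SL(2, F) → ℂ) g) ∧
      (∀ x : F, x ≠ 0 → (χ : SL(2, F) → ℂ) (bS 1 x) = -1) := by
  obtain ⟨X, -, h1, hn, -, hu, hc, hps, -, -, hirr⟩ := torus_char θ hodd hC hcard (fun e => by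
    obtain ⟨c, hc⟩ := h
    exact hc (by rw [e]; simp))
  refine ⟨⟨X, hirr h⟩, hps, Nat.cast_injective (R := ℂ) ?_, hc, hn, hu⟩
  rw [← irr_apply_one_eq_deg]
  exact h1

/-- Every cuspidal character of degree `q - 1` comes from a character of the torus. -/
theorem torus_exhaust (hodd : Odd (Fintype.card F)) (hC : IsCyclic C) (hcard : Nat.card C = Fintype.card F + 1)
    {χ : Cfsg.IrrCharacter SL(2, F)} (hc : IsCusp (χ : SL(2, F) → ℂ))
    (hd : deg (χ : SL(2, F) → ℂ) = Fintype.card F - 1) :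
    ∃ θ : C →* ℂˣ, (∃ c, θ c * θ c ≠ 1) ∧ ∀ c : C, (c : SL(2, F)) ≠ 1 → (c : SL(2, F)) ≠ -1 →
      (χ : SL(2, F) → ℂ) c = -((θ c : ℂ) + ((θ c)⁻¹ : ℂˣ)) := by
  classical
  obtain ⟨ν, hν⟩ := exists_nonsquare_unit hodd
  obtain ⟨h, h1, hh, hh1, hh2, hh3⟩ := odd_deg_ne (F := F) hodd
  obtain ⟨g0, hg0⟩ := IsCyclic.exists_generator (α := C)
  have hord : orderOf g0 = Fintype.card F + 1 := (orderOf_eq_card_of_forall_mem_zpowers hg0).trans hcard
  have hg1 : (g0 : SL(2, F)) ≠ 1 := fun e => by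
    rw [show g0 = 1 from Subtype.ext e, orderOf_one] at hord; omega
  have hgm : (g0 : SL(2, F)) ≠ -1 := fun e => by
    have := orderOf_dvd_of_pow_eq_one (x := g0) (n := 2) (Subtype.ext (by simp [e, sq]))
    rw [hord] at this
    have := Nat.le_of_dvd two_pos this
    omega
  have hprim := Complex.isPrimitiveRoot_exp (Fintype.card F + 1) (by omega)
  generalize Complex.exp (2 * Real.pi * Complex.I / (Fintype.card F + 1 : ℕ)) = ζ at hprim
  let u : ℂˣ := Units.mk0 ζ (hprim.ne_zero (by omega))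
  have hu : IsPrimitiveRoot u (Fintype.card F + 1) := IsPrimitiveRoot.coe_units_iff.1 hprim
  have hdvd : ∀ i : ℕ, orderOf (u ^ i) ∣ orderOf g0 := fun i => by
    rw [hord]
    refine orderOf_dvd_of_pow_eq_one ?_
    rw [← pow_mul, mul_comm, pow_mul, hu.pow_eq_one, one_pow]
  let θ : ℕ → (C →* ℂˣ) := fun i => monoidHomOfForallMemZpowers hg0 (hdvd i)
  have hθ0 : ∀ i, θ i g0 = u ^ i := fun i => monoidHomOfForallMemZpowers_apply_gen hg0 (hdvd i)
  have hsq : ∀ i ∈ Finset.Icc 1 h, θ i g0 * θ i g0 ≠ 1 := by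
    intro i hi e
    rw [Finset.mem_Icc] at hi
    rw [hθ0, ← pow_add, hu.pow_eq_one_iff_dvd] at e
    have := Nat.le_of_dvd (by omega) e
    omega
  let X : (i : ℕ) → i ∈ Finset.Icc 1 h → Cfsg.IrrCharacter SL(2, F) :=
    fun i hi => (torus_irr hodd hC hcard (θ i) ⟨g0, hsq i hi⟩).choose
  have hX := fun i hi => (torus_irr hodd hC hcard (θ i) ⟨g0, hsq i hi⟩).choose_spec
  let T : Finset (Cfsg.IrrCharacter SL(2, F)) := (Finset.Icc 1 h).attach.image fun i => X i.1 i.2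
  have hTcard : T.card = h := by
    rw [Finset.card_image_of_injective, Finset.card_attach, Nat.card_Icc, Nat.add_sub_cancel]
    intro i j e
    have ei := (hX i.1 i.2).2.2.1 g0 hg1 hgm
    have ej := (hX j.1 j.2).2.2.1 g0 hg1 hgm
    change (X i.1 i.2 : SL(2, F) → ℂ) g0 = _ at ei
    change (X j.1 j.2 : SL(2, F) → ℂ) g0 = _ at ej
    rw [show X i.1 i.2 = X j.1 j.2 from e] at ei
    rw [ei, neg_inj, hθ0, hθ0] at ej
    have hi' := Finset.mem_Icc.1 i.2
    have hj' := Finset.mem_Icc.1 j.2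
    refine Subtype.ext ?_
    rcases units_eq_of_add_inv ej with e' | e'
    · exact hu.pow_inj (by omega) (by omega) e'
    · rw [← pow_add, hu.pow_eq_one_iff_dvd] at e'
      have := Nat.le_of_dvd (by omega) e'
      omega
  obtain ⟨-, -, hcnt, -⟩ := table_odd hodd hν
  rw [Nat.card_eq_fintype_card, Fintype.card_subtype] at hcnt
  have hTeq : T = Finset.univ.filter fun χ : Cfsg.IrrCharacter SL(2, F) =>
      IsCusp (χ : SL(2, F) → ℂ) ∧ deg (χ : SL(2, F) → ℂ) = Fintype.card F - 1 := by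
    refine Finset.eq_of_subset_of_card_le (fun χ hχ => ?_) (by omega)
    obtain ⟨i, -, rfl⟩ := Finset.mem_image.1 hχ
    simp only [Finset.mem_filter, Finset.mem_univ, true_and]
    exact ⟨(hX i.1 i.2).1, (hX i.1 i.2).2.1⟩
  have hmem : χ ∈ T := by rw [hTeq]; simp [hc, hd]
  obtain ⟨i, -, hi⟩ := Finset.mem_image.1 hmem
  rw [← hi]
  exact ⟨θ i.1, ⟨g0, hsq i.1 i.2⟩, (hX i.1 i.2).2.2.1⟩

omit [Fintype F] [DecidableEq F] in
theorem eq_unip {g : SL(2, F)} (h10 : (g : Matrix (Fin 2) (Fin 2) F) 1 0 = 0)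
    (h00 : (g : Matrix (Fin 2) (Fin 2) F) 0 0 = 1) (h11 : (g : Matrix (Fin 2) (Fin 2) F) 1 1 = 1) :
    g = bS 1 ((g : Matrix (Fin 2) (Fin 2) F) 0 1) := by
  refine Subtype.ext ?_
  ext i j; fin_cases i <;> fin_cases j <;> simp [h10, h00, h11]

omit [DecidableEq F] in
theorem center_cases {g : SL(2, F)} :
    g ∈ Subgroup.center SL(2, F) ↔ g = 1 ∨ g = -1 := mem_center_iff_pm g

/-- The characters of degree `q - 1`. -/
theorem deligne_lusztig (hodd : Odd (Fintype.card F)) (hC : IsCyclic C) (hcard : Nat.card C = Fintype.card F + 1) :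
    (∀ θ : C →* ℂˣ, (∃ c : C, θ c ^ 2 ≠ 1) →
      ∃ χ : SL(2, F) → ℂ, Cfsg.IsIrrCharacter SL(2, F) χ ∧ χ 1 = (Fintype.card F : ℂ) - 1 ∧
        (∀ c : C, (c : SL(2, F)) ∉ Subgroup.center SL(2, F) → χ c = -((θ c).val + (θ c)⁻¹.val)) ∧
        (∀ c : C, (c : SL(2, F)) ∈ Subgroup.center SL(2, F) → ∀ g : SL(2, F), χ ((c : SL(2, F)) * g) = (θ c).val * χ g) ∧
        (∀ g : SL(2, F), (g : Matrix (Fin 2) (Fin 2) F) 0 1 = 0 → (g : Matrix (Fin 2) (Fin 2) F) 1 0 = 0 →
          (g : Matrix (Fin 2) (Fin 2) F) 0 0 ^ 2 ≠ 1 → χ g = 0) ∧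
        (∀ g : SL(2, F), (g : Matrix (Fin 2) (Fin 2) F) 1 0 = 0 → (g : Matrix (Fin 2) (Fin 2) F) 0 0 = 1 →
          (g : Matrix (Fin 2) (Fin 2) F) 1 1 = 1 → (g : Matrix (Fin 2) (Fin 2) F) 0 1 ≠ 0 → χ g = -1)) ∧
    (∀ χ : SL(2, F) → ℂ, Cfsg.IsIrrCharacter SL(2, F) χ → χ 1 = (Fintype.card F : ℂ) - 1 →
      ∃ θ : C →* ℂˣ, (∃ c : C, θ c ^ 2 ≠ 1) ∧
        ∀ c : C, (c : SL(2, F)) ∉ Subgroup.center SL(2, F) → χ c = -((θ c).val + (θ c)⁻¹.val)) := by
  classical
  simp only [sq, center_cases, not_or]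
  refine ⟨fun θ hθ => ?_, fun χ hχ hd => ?_⟩
  · obtain ⟨χ, hc, hd, hv, hn, hu⟩ := torus_irr hodd hC hcard θ hθ
    refine ⟨χ, χ.2, by rw [irr_apply_one_eq_deg, hd, cast_pred], fun c h => hv c h.1 h.2, fun c h g => ?_,
      fun g h01 h10 h00 => ?_, fun g h10 h00 h11 h01 => ?_⟩
    · rcases h with e | e
      · rw [e, one_mul, show c = 1 from Subtype.ext e, map_one, Units.val_one, one_mul]
      · rw [e, neg_one_mul, hn, show c = ⟨-1, neg_one_mem hodd hcard⟩ from Subtype.ext e]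
    · obtain ⟨a, ha, rfl, -⟩ := eq_diag h01 h10 (by simpa [sq] using h00)
      exact cusp_diag χ.2 hc ha
    · rw [eq_unip h10 h00 h11]
      exact hu _ h01
  · obtain ⟨ν, hν⟩ := exists_nonsquare_unit hodd
    obtain ⟨h, h1, hh, hh1, hh2, hh3⟩ := odd_deg_ne (F := F) hodd
    by_cases hc : IsCusp χ
    · obtain ⟨θ, hθ, hv⟩ := torus_exhaust hodd hC hcard (χ := ⟨χ, hχ⟩) hc
        (Nat.cast_injective (R := ℂ) (by rw [← irr_apply_one_eq_deg]; exact hd.trans cast_pred.symm))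
      exact ⟨θ, hθ, fun c h => hv c h.1 h.2⟩
    · have hd' := hd
      rw [← cast_pred] at hd'
      rcases kinds_odd hodd hν hχ with e | e | ⟨α, -, e⟩ | e | e | e
      · rw [e, ← Nat.cast_one, cast_eq_iff] at hd'; omega
      · rw [e, St_one, cast_eq_iff] at hd'; omega
      · rw [e, PS_one, ← Nat.cast_add_one, cast_eq_iff] at hd'; omega
      · have h3 : h = 1 := by rw [e.1, cast_eq_iff] at hd'; omega
        obtain ⟨ν', hν'⟩ := exists_nonsquare_unit hodd
        obtain ⟨g0, hg0⟩ := IsCyclic.exists_generator (α := C)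
        have hord : orderOf g0 = 4 := (orderOf_eq_card_of_forall_mem_zpowers hg0).trans (by omega)
        have hI : (Units.mk0 Complex.I Complex.I_ne_zero) ^ 4 = 1 := Units.ext (by simp [Complex.I_pow_four])
        let θ : C →* ℂˣ := monoidHomOfForallMemZpowers hg0 (hord ▸ orderOf_dvd_of_pow_eq_one hI)
        have hθ : ∃ c, θ c * θ c ≠ 1 := ⟨g0, fun e' => by
          rw [monoidHomOfForallMemZpowers_apply_gen hg0, Units.ext_iff] at e'
          simp at e'
          norm_num at e'⟩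
        obtain ⟨X, hXc, hXd, hXv, -, -⟩ := torus_irr hodd hC hcard θ hθ
        refine ⟨θ, hθ, fun c hcn => ?_⟩
        have hell := (torus_elt hodd hC hcard c.2 hcn.1 hcn.2).2.1
        rw [← hXv c hcn.1 hcn.2, e.2.2.2.2.2 _ hell,
          (zeros hodd X.2 (c : SL(2, F))).2 (.inr (by rw [irr_apply_one_eq_deg, hXd, Nat.cast_inj]; omega)) hell]
      · exact absurd e.1 hc
      · exact absurd e.1 hc

/-- The values on non-split tori of the characters of degree `(q - 1)/2`. -/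
theorem half_minus_ell (hodd : Odd (Fintype.card F)) (hq : 5 ≤ Fintype.card F) {χ : SL(2, F) → ℂ}
    (hχ : Cfsg.IsIrrCharacter SL(2, F) χ) (hd : χ 1 = (((Fintype.card F - 1) / 2 : ℕ) : ℂ))
    {g : SL(2, F)} (hg : Ell g) :
    (g ^ ((Fintype.card F + 1) / 2) = 1 → χ g = -1) ∧ (g ^ ((Fintype.card F + 1) / 2) ≠ 1 → χ g = 1) := by
  classical
  obtain ⟨ν, hν⟩ := exists_nonsquare_unit hodd
  obtain ⟨h, h1, hh, hh1, hh2, hh3⟩ := odd_deg_ne (F := F) hodd
  obtain ⟨hns, hi⟩ := irred_of_no_eigen hg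
  have hreg := reg_of_irred (two_ne_zero_of_odd hodd) ⟨hns, hi⟩
  have hcard : Nat.card ↥(Subgroup.centralizer ({g} : Set SL(2, F))) = Fintype.card F + 1 := by
    rw [card_centSL hns, card_one_irred hi]
  have hC := hreg.cyclic
  obtain ⟨g0, hg0⟩ := hC.exists_generator
  have hord : orderOf g0 = Fintype.card F + 1 := (orderOf_eq_card_of_forall_mem_zpowers hg0).trans hcard
  have h2 : orderOf (-1 : ℂˣ) ∣ orderOf g0 := by
    rw [hord]
    exact (orderOf_dvd_of_pow_eq_one (show (-1 : ℂˣ) ^ 2 = 1 by simp)).trans ⟨h + 1, by omega⟩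
  let θ : ↥(Subgroup.centralizer ({g} : Set SL(2, F))) →* ℂˣ := monoidHomOfForallMemZpowers hg0 h2
  have hθ0 : θ g0 = -1 := monoidHomOfForallMemZpowers_apply_gen hg0 h2
  have hsq : ∀ c, θ c * θ c = 1 := by
    intro c
    obtain ⟨k, rfl⟩ := hg0 c
    rw [map_zpow, hθ0, ← mul_zpow, neg_mul_neg, one_mul, _root_.one_zpow]
  have hne : θ ≠ 1 := fun e => by
    rw [e] at hθ0
    simp [Units.ext_iff] at hθ0
    norm_num at hθ0
  obtain ⟨X, hgen, hX1, -, -, -, hXc, hXps, hX0, hn2, -⟩ := torus_char θ hodd hC hcard hne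
  obtain ⟨μ, ν', a, b, hμν, ha, hb, hX⟩ := exists_signed_of_norm_two hgen (hn2 hsq)
  have hXμ : ∀ f : SL(2, F) → ℂ, Cfsg.classInner f X =
      (a : ℂ) * Cfsg.classInner f (μ : SL(2, F) → ℂ) + (b : ℂ) * Cfsg.classInner f (ν' : SL(2, F) → ℂ) := by
    intro f
    rw [hX, classInner_add_right, classInner_smul_right, classInner_smul_right]
    simp
  have hdeg : (a : ℂ) * (deg (μ : SL(2, F) → ℂ) : ℂ) + (b : ℂ) * (deg (ν' : SL(2, F) → ℂ) : ℂ) = ((2 * h : ℕ) : ℂ) := by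
    rw [← hh3, ← hX1, hX]
    simp [irr_apply_one_eq_deg]
  have hdegZ : a * (deg (μ : SL(2, F) → ℂ) : ℤ) + b * (deg (ν' : SL(2, F) → ℂ) : ℤ) = 2 * (h : ℤ) := by
    exact_mod_cast hdeg
  let one' : Cfsg.IrrCharacter SL(2, F) := ⟨fun _ => 1, isIrrCharacter_one⟩
  have hno1 : μ ≠ one' ∧ ν' ≠ one' := by
    have h0 : (a : ℂ) * Cfsg.classInner (one' : SL(2, F) → ℂ) (μ : SL(2, F) → ℂ) +
        (b : ℂ) * Cfsg.classInner (one' : SL(2, F) → ℂ) (ν' : SL(2, F) → ℂ) = 0 := by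
      rw [← hXμ, show ((one' : SL(2, F) → ℂ)) = fun _ => 1 from rfl, ← classInner_conj_symm X, hX0, map_zero]
    constructor <;> intro e <;> subst e
    · rw [classInner_irr_self, classInner_irr_ne hμν] at h0
      rcases ha with rfl | rfl <;> simp at h0
    · rw [classInner_irr_self, classInner_irr_ne hμν.symm] at h0
      rcases hb with rfl | rfl <;> simp at h0
  have hsplit : ∀ (x y : Cfsg.IrrCharacter SL(2, F)) (s t : ℤ), x ≠ y → (s = 1 ∨ s = -1) → (t = 1 ∨ t = -1) →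
      x ≠ one' → y ≠ one' → s * (deg (x : SL(2, F) → ℂ) : ℤ) + t * (deg (y : SL(2, F) → ℂ) : ℤ) = 2 * (h : ℤ) →
      (∀ α : MulChar F ℂ, (s : ℂ) * Cfsg.classInner (PS α) (x : SL(2, F) → ℂ) +
        (t : ℂ) * Cfsg.classInner (PS α) (y : SL(2, F) → ℂ) = 0) → IsCusp (x : SL(2, F) → ℂ) := by
    intro x y s t hxy hs ht hx1 hy1 hdg hps
    by_contra hc
    simp only [IsCusp, not_forall] at hc
    obtain ⟨α, hα⟩ := hc
    have hy : Cfsg.classInner (PS α) (y : SL(2, F) → ℂ) ≠ 0 := by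
      intro e
      have := hps α
      rw [e, mul_zero, add_zero] at this
      rcases mul_eq_zero.1 this with e' | e'
      · rcases hs with rfl | rfl <;> simp at e'
      · exact hα e'
    by_cases hα1 : α = 1
    · subst hα1
      have key : ∀ z : Cfsg.IrrCharacter SL(2, F), z ≠ one' →
          Cfsg.classInner (PS (1 : MulChar F ℂ)) (z : SL(2, F) → ℂ) ≠ 0 → (z : SL(2, F) → ℂ) = St := by
        intro z hz hzi
        by_contra hne'
        rw [show PS (1 : MulChar F ℂ) = St + (fun _ => 1) by simp [St], classInner_add_left,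
          classInner_irrChar isIrr_St z.2, classInner_irrChar isIrrCharacter_one z.2,
          if_neg fun e => hne' e.symm, if_neg fun e => hz (Subtype.ext e.symm), add_zero] at hzi
        exact hzi rfl
      exact hxy (Subtype.ext ((key x hx1 hα).trans (key y hy1 hy).symm))
    by_cases hαi : α = α⁻¹
    · obtain rfl := eq_quad hodd ((sq_eq_one_iff α).2 hαi) hα1
      obtain ⟨η₁, η₂, -, -, p1, p2, hcov⟩ := exists_half_pair hodd hν
      have key : ∀ z : Cfsg.IrrCharacter SL(2, F), Cfsg.classInner (PS (quad F)) (z : SL(2, F) → ℂ) ≠ 0 →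
          (deg (z : SL(2, F) → ℂ) : ℤ) = (h : ℤ) + 1 := by
        intro z hz
        have e : deg (z : SL(2, F) → ℂ) = h + 1 := by
          refine Nat.cast_injective (R := ℂ) ?_
          rw [← irr_apply_one_eq_deg, ← hh2]
          rcases hcov z hz with rfl | rfl
          · exact p1.1
          · exact p2.1
        rw [e]; push_cast; ring
      rw [key x hα, key y hy] at hdg
      rcases hs with rfl | rfl <;> rcases ht with rfl | rfl <;> omega
    · rw [classInner_irrChar (isIrr_PS hαi) x.2] at hα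
      rw [classInner_irrChar (isIrr_PS hαi) y.2] at hy
      simp only [ne_eq, ite_eq_right_iff, one_ne_zero, imp_false, not_not] at hα hy
      exact hxy (Subtype.ext (hα.symm.trans hy))
  have hps0 : ∀ α : MulChar F ℂ, (a : ℂ) * Cfsg.classInner (PS α) (μ : SL(2, F) → ℂ) +
      (b : ℂ) * Cfsg.classInner (PS α) (ν' : SL(2, F) → ℂ) = 0 := fun α => by rw [← hXμ, hXps α]
  have cμ := hsplit μ ν' a b hμν ha hb hno1.1 hno1.2 hdegZ hps0
  have cν := hsplit ν' μ b a hμν.symm hb ha hno1.2 hno1.1 (by linear_combination hdegZ)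
    (fun α => by linear_combination hps0 α)
  have hdeg2 : ∀ z : Cfsg.IrrCharacter SL(2, F), IsCusp (z : SL(2, F) → ℂ) →
      deg (z : SL(2, F) → ℂ) = h ∨ deg (z : SL(2, F) → ℂ) = 2 * h := by
    intro z hz
    rcases (table_odd hodd hν).1 _ z.2 hz with e | e
    · exact .inr (Nat.cast_injective (R := ℂ) (by rw [← irr_apply_one_eq_deg, ← hh3]; exact e.1))
    · exact .inl (Nat.cast_injective (R := ℂ) (by rw [← irr_apply_one_eq_deg, ← hh1]; exact e.1))
  have hboth : a = 1 ∧ b = 1 ∧ deg (μ : SL(2, F) → ℂ) = h ∧ deg (ν' : SL(2, F) → ℂ) = h := by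
    rcases hdeg2 μ cμ with e1 | e1 <;> rcases hdeg2 ν' cν with e2 | e2 <;>
      rcases ha with rfl | rfl <;> rcases hb with rfl | rfl <;> (rw [e1, e2] at hdegZ; push_cast at hdegZ; omega)
  obtain ⟨rfl, rfl, dμ, dν⟩ := hboth
  have hgap : ∀ z : Cfsg.IrrCharacter SL(2, F), IsCusp (z : SL(2, F) → ℂ) → deg (z : SL(2, F) → ℂ) = h →
      (z : SL(2, F) → ℂ) (bS 1 1) ≠ (z : SL(2, F) → ℂ) (bS 1 (ν : F)) := by
    intro z hz hzd e
    have hd' := (deg_half_minus hodd hq hν z.2 (by rw [irr_apply_one_eq_deg, hzd, hh1])).2.2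
    rw [e, sub_self, zero_pow two_ne_zero] at hd'
    exact mul_ne_zero (pow_ne_zero _ (by norm_num)) (Nat.cast_ne_zero.2 (Fintype.card_ne_zero (α := F))) hd'.symm
  have hswap := half_minus_twist hodd hν hμν cμ cν (dμ.trans hh1.symm) (dν.trans hh1.symm) (hgap μ cμ dμ) g
  rw [← classFunction_eq_of_isConj (isClassFunction_irr μ) (twist_conj_ell hg ν)] at hswap
  have hg1 : g ≠ 1 := fun e => not_nonScalar_pm (.inl e) hns
  have hgm : g ≠ -1 := fun e => not_nonScalar_pm (.inr e) hns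
  let gC : ↥(Subgroup.centralizer ({g} : Set SL(2, F))) := ⟨g, self_mem_cen g⟩
  have hv : (μ : SL(2, F) → ℂ) g = -(θ gC : ℂ) := by
    have e := hXc gC hg1 hgm
    rw [hX, show (θ gC)⁻¹ = θ gC from inv_eq_of_mul_eq_one_right (hsq gC)] at e
    simp only [Pi.add_apply, Pi.smul_apply, smul_eq_mul, Int.cast_one, one_mul, gC] at e
    rw [hswap] at e
    linear_combination (1 / 2 : ℂ) * e
  have hχv : χ g = -(θ gC : ℂ) := by
    obtain ⟨-, hcnt, -⟩ := table_odd hodd hν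
    rw [Nat.card_eq_fintype_card, Fintype.card_subtype] at hcnt
    have hsub : ({μ, ν'} : Finset (Cfsg.IrrCharacter SL(2, F))) = Finset.univ.filter fun z : Cfsg.IrrCharacter SL(2, F) =>
        IsCusp (z : SL(2, F) → ℂ) ∧ deg (z : SL(2, F) → ℂ) = (Fintype.card F - 1) / 2 := by
      refine Finset.eq_of_subset_of_card_le (fun z hz => ?_) (by rw [hcnt, Finset.card_pair hμν])
      simp only [Finset.mem_insert, Finset.mem_singleton] at hz
      simp only [Finset.mem_filter, Finset.mem_univ, true_and, hh1]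
      rcases hz with rfl | rfl
      · exact ⟨cμ, dμ⟩
      · exact ⟨cν, dν⟩
    have hm : (⟨χ, hχ⟩ : Cfsg.IrrCharacter SL(2, F)) ∈ ({μ, ν'} : Finset (Cfsg.IrrCharacter SL(2, F))) := by
      rw [hsub]
      simp only [Finset.mem_filter, Finset.mem_univ, true_and]
      exact ⟨(deg_half_minus hodd hq hν hχ hd).1, Nat.cast_injective (R := ℂ) ((irr_apply_one_eq_deg ⟨χ, hχ⟩).symm.trans hd)⟩
    simp only [Finset.mem_insert, Finset.mem_singleton] at hm
    rcases hm with e | e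
    · rw [show χ = (μ : SL(2, F) → ℂ) from congrArg Subtype.val e, hv]
    · rw [show χ = (ν' : SL(2, F) → ℂ) from congrArg Subtype.val e, hswap, hv]
  obtain ⟨k, hk⟩ := hg0 gC
  have hpow : g ^ ((Fintype.card F + 1) / 2) = 1 ↔ Even k := by
    rw [hh2, show g ^ (h + 1) = ((gC ^ (h + 1) : ↥(Subgroup.centralizer ({g} : Set SL(2, F)))) : SL(2, F)) from rfl,
      OneMemClass.coe_eq_one, ← hk, ← zpow_natCast, ← _root_.zpow_mul, ← orderOf_dvd_iff_zpow_eq_one, hord,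
      show ((Fintype.card F + 1 : ℕ) : ℤ) = 2 * ((h + 1 : ℕ) : ℤ) by rw [hh]; push_cast; ring,
      mul_dvd_mul_iff_right (by positivity), even_iff_two_dvd]
  have hθk : (θ gC : ℂ) = (-1 : ℂ) ^ k := by
    rw [← hk, map_zpow, hθ0]; simp
  refine ⟨fun e => ?_, fun e => ?_⟩
  · rw [hχv, hθk, (hpow.1 e).neg_one_zpow]
  · rw [hχv, hθk, (Int.not_even_iff_odd.1 (mt hpow.2 e)).neg_one_zpow, neg_neg]

/-- The values of the half series on the split and non-split tori. -/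
theorem half_values (hodd : Odd (Fintype.card F)) (hq : 5 ≤ Fintype.card F) {χ : SL(2, F) → ℂ}
    (hχ : Cfsg.IsIrrCharacter SL(2, F) χ) (g : SL(2, F)) :
    (χ 1 = (((Fintype.card F + 1) / 2 : ℕ) : ℂ) → (g : Matrix (Fin 2) (Fin 2) F) 0 1 = 0 →
      (g : Matrix (Fin 2) (Fin 2) F) 1 0 = 0 → (g : Matrix (Fin 2) (Fin 2) F) 0 0 ^ 2 ≠ 1 →
      (IsSquare ((g : Matrix (Fin 2) (Fin 2) F) 0 0) → χ g = 1) ∧
        (¬ IsSquare ((g : Matrix (Fin 2) (Fin 2) F) 0 0) → χ g = -1)) ∧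
    (χ 1 = (((Fintype.card F - 1) / 2 : ℕ) : ℂ) → Ell g →
      (((g ^ ((Fintype.card F + 1) / 2)) : Matrix (Fin 2) (Fin 2) F) = 1 → χ g = -1) ∧
        (((g ^ ((Fintype.card F + 1) / 2)) : Matrix (Fin 2) (Fin 2) F) ≠ 1 → χ g = 1)) := by
  refine ⟨fun hd h01 h10 h00 => ?_, fun hd hg => ?_⟩
  · obtain ⟨ν, hν⟩ := exists_nonsquare_unit hodd
    obtain ⟨a, ha, rfl, hav⟩ := eq_diag h01 h10 h00
    rw [← hav, (deg_half_plus hodd hq hν hχ hd).2.2.2.2.1 a ha, quad_apply]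
    refine ⟨fun h => ?_, fun h => ?_⟩
    · rw [(quadraticChar_one_iff_isSquare a.ne_zero).2 h]; simp
    · rw [quadraticChar_neg_one_iff_not_isSquare.2 h]; simp
  · have h := half_minus_ell hodd hq hχ hd hg
    have e : ((g ^ ((Fintype.card F + 1) / 2) : SL(2, F)) : Matrix (Fin 2) (Fin 2) F) = 1 ↔
        g ^ ((Fintype.card F + 1) / 2) = 1 :=
      ⟨fun e => Subtype.ext e, fun e => by rw [e]; rfl⟩
    simp only [Matrix.SpecialLinearGroup.coe_pow] at e
    exact ⟨fun h1 => h.1 (e.1 h1), fun h1 => h.2 (mt e.2 h1)⟩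

end Cfsg.Lib.GLTwo.SCh
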