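import Cfsg.Agent.Known.SLTwo.Chars.GLTable

/-! Consequences of the character table of GL₂. -/

set_option autoImplicit false
set_option linter.unusedSectionVars false

open Matrix

namespace Cfsg.Lib.GLTwo.Ch

open Cfsg.Lib.CharTools Cfsg.Lib.Chars

variable {F : Type*} [Field F] [Fintype F]

/-- The degrees of the four series. -/
theorem deg_series [DecidableEq F] {χ : GL (Fin 2) F → ℂ} (hχ : Cfsg.IsIrrCharacter (GL (Fin 2) F) χ) :
    ((∃ α, χ = lin α) ∧ χ 1 = 1) ∨ ((∃ α, χ = St α) ∧ χ 1 = (Fintype.card F : ℂ)) ∨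
      ((∃ α β, α ≠ β ∧ χ = PS α β) ∧ χ 1 = (Fintype.card F : ℂ) + 1) ∨
        (IsCusp χ ∧ χ 1 = (Fintype.card F : ℂ) - 1) := by
  rcases cases_irr hχ with ⟨α, rfl⟩ | ⟨α, rfl⟩ | ⟨α, β, h, rfl⟩ | h
  · exact .inl ⟨⟨α, rfl⟩, lin_one α⟩
  · exact .inr (.inl ⟨⟨α, rfl⟩, St_one α⟩)
  · exact .inr (.inr (.inl ⟨⟨α, β, h, rfl⟩, PS_one α β⟩))
  · exact .inr (.inr (.inr ⟨h, (cusp_deg hχ h).1⟩))

theorem degrees {χ : GL (Fin 2) F → ℂ} (hχ : Cfsg.IsIrrCharacter (GL (Fin 2) F) χ) :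
    χ 1 = 1 ∨ χ 1 = (Fintype.card F : ℂ) - 1 ∨ χ 1 = (Fintype.card F : ℂ) ∨ χ 1 = (Fintype.card F : ℂ) + 1 := by
  classical
  rcases deg_series hχ with ⟨-, h⟩ | ⟨-, h⟩ | ⟨-, h⟩ | ⟨-, h⟩
  exacts [.inl h, .inr (.inr (.inl h)), .inr (.inr (.inr h)), .inr (.inl h)]

theorem nat_ne {a b : ℕ} (h : a ≠ b) : (a : ℂ) ≠ (b : ℂ) := fun e => h (Nat.cast_injective e)

theorem deg_counts (hq : 3 ≤ Fintype.card F) :
    Nat.card {χ : Cfsg.IrrCharacter (GL (Fin 2) F) // (χ : GL (Fin 2) F → ℂ) 1 = 1} = Fintype.card F - 1 ∧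
    Nat.card {χ : Cfsg.IrrCharacter (GL (Fin 2) F) // (χ : GL (Fin 2) F → ℂ) 1 = (Fintype.card F : ℂ)} =
      Fintype.card F - 1 ∧
    Nat.card {χ : Cfsg.IrrCharacter (GL (Fin 2) F) // (χ : GL (Fin 2) F → ℂ) 1 = (Fintype.card F : ℂ) + 1} =
      (Fintype.card F - 1) * (Fintype.card F - 2) / 2 ∧
    Nat.card {χ : Cfsg.IrrCharacter (GL (Fin 2) F) // (χ : GL (Fin 2) F → ℂ) 1 = (Fintype.card F : ℂ) - 1} =
      Fintype.card F * (Fintype.card F - 1) / 2 := by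
  classical
  have n1 : (1 : ℂ) ≠ (Fintype.card F : ℂ) := by
    have := nat_ne (show 1 ≠ Fintype.card F by omega); simpa using this
  have n2 : (1 : ℂ) ≠ (Fintype.card F : ℂ) + 1 := by
    have := nat_ne (show 1 ≠ Fintype.card F + 1 by omega); push_cast at this; exact this
  have n3 : (1 : ℂ) ≠ (Fintype.card F : ℂ) - 1 := by
    have := nat_ne (show 2 ≠ Fintype.card F by omega); push_cast at this
    intro e; exact this (by linear_combination e)
  have n4 : (Fintype.card F : ℂ) ≠ (Fintype.card F : ℂ) + 1 := fun e => one_ne_zero (by linear_combination -e)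
  have n5 : (Fintype.card F : ℂ) ≠ (Fintype.card F : ℂ) - 1 := fun e => one_ne_zero (by linear_combination e)
  have n6 : (Fintype.card F : ℂ) + 1 ≠ (Fintype.card F : ℂ) - 1 :=
    fun e => two_ne_zero (α := ℂ) (by linear_combination e)
  refine ⟨?_, ?_, ?_, ?_⟩
  · refine (Nat.card_congr (Equiv.ofBijective (fun α : MulChar F ℂ => (⟨⟨lin α, isIrr_lin α⟩, lin_one α⟩ :
      {χ : Cfsg.IrrCharacter (GL (Fin 2) F) // (χ : GL (Fin 2) F → ℂ) 1 = 1})) ⟨?_, ?_⟩)).symm.trans card_mulChar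
    · intro a b h; exact lin_inj (congrArg (fun z => z.1.1) h)
    · rintro ⟨χ, h⟩
      rcases deg_series χ.2 with ⟨⟨α, e⟩, -⟩ | ⟨-, e⟩ | ⟨-, e⟩ | ⟨-, e⟩
      · exact ⟨α, Subtype.ext (Subtype.ext e.symm)⟩
      exacts [absurd (h.symm.trans e) n1, absurd (h.symm.trans e) n2, absurd (h.symm.trans e) n3]
  · refine (Nat.card_congr (Equiv.ofBijective (fun α : MulChar F ℂ => (⟨⟨St α, isIrr_St α⟩, St_one α⟩ :
      {χ : Cfsg.IrrCharacter (GL (Fin 2) F) // (χ : GL (Fin 2) F → ℂ) 1 = (Fintype.card F : ℂ)})) ⟨?_, ?_⟩)).symm.trans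
        card_mulChar
    · intro a b h; exact St_inj (congrArg (fun z => z.1.1) h)
    · rintro ⟨χ, h⟩
      rcases deg_series χ.2 with ⟨-, e⟩ | ⟨⟨α, e⟩, -⟩ | ⟨-, e⟩ | ⟨-, e⟩
      · exact absurd (e.symm.trans h) n1
      · exact ⟨α, Subtype.ext (Subtype.ext e.symm)⟩
      exacts [absurd (h.symm.trans e) n4, absurd (h.symm.trans e) n5]
  · have hb : Function.Bijective (fun s : {s : Sym2 (MulChar F ℂ) // ¬ s.IsDiag} =>
        (⟨ofLabel (.inr (.inr s)), by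
          obtain ⟨s, hs⟩ := s
          induction s using Sym2.ind with
          | _ α β => rw [ofLabel_mk]; exact PS_one α β⟩ :
          {χ : Cfsg.IrrCharacter (GL (Fin 2) F) // (χ : GL (Fin 2) F → ℂ) 1 = (Fintype.card F : ℂ) + 1})) := by
      refine ⟨fun s t h => ?_, ?_⟩
      · have h1 : ofLabel (F := F) (.inr (.inr s)) = ofLabel (.inr (.inr t)) := congrArg Subtype.val h
        simpa using ofLabel_injective h1
      rintro ⟨χ, h⟩
      rcases deg_series χ.2 with ⟨-, e⟩ | ⟨-, e⟩ | ⟨⟨α, β, hne, e⟩, -⟩ | ⟨-, e⟩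
      · exact absurd (e.symm.trans h) n2
      · exact absurd (e.symm.trans h) n4
      · exact ⟨⟨s(α, β), by simpa using hne⟩, Subtype.ext (Subtype.ext ((ofLabel_mk _).trans e.symm))⟩
      · exact absurd (h.symm.trans e) n6
    rw [← Nat.card_congr (Equiv.ofBijective _ hb)]
    have := card_pairs (F := F)
    omega
  · have e : Nat.card {χ : Cfsg.IrrCharacter (GL (Fin 2) F) // (χ : GL (Fin 2) F → ℂ) 1 = (Fintype.card F : ℂ) - 1} =
        Nat.card {χ : Cfsg.IrrCharacter (GL (Fin 2) F) // IsCusp (χ : GL (Fin 2) F → ℂ)} := by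
      refine Nat.card_congr (Equiv.subtypeEquivRight fun χ => ⟨fun h => ?_, fun h => (cusp_deg χ.2 h).1⟩)
      rcases deg_series χ.2 with ⟨-, e⟩ | ⟨-, e⟩ | ⟨-, e⟩ | ⟨hc, -⟩
      · exact absurd (e.symm.trans h) n3
      · exact absurd (e.symm.trans h) n5
      · exact absurd (e.symm.trans h) n6
      · exact hc
    rw [e]
    have := (cusp_main (F := F)).1
    omega

theorem eq_diag {g : GL (Fin 2) F} (h01 : (g : Matrix (Fin 2) (Fin 2) F) 0 1 = 0)
    (h10 : (g : Matrix (Fin 2) (Fin 2) F) 1 0 = 0)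
    (hne : (g : Matrix (Fin 2) (Fin 2) F) 0 0 ≠ (g : Matrix (Fin 2) (Fin 2) F) 1 1) :
    ∃ a d : Fˣ, a ≠ d ∧ g = bG a d 0 := by
  obtain ⟨a, d, x, rfl⟩ := eq_bG h10
  refine ⟨a, d, fun e => hne (by simp [e]), ?_⟩
  simp at h01
  rw [h01]

theorem zeros {χ : GL (Fin 2) F → ℂ} (hχ : Cfsg.IsIrrCharacter (GL (Fin 2) F) χ) (g : GL (Fin 2) F) :
    (χ 1 = (Fintype.card F : ℂ) - 1 → (g : Matrix (Fin 2) (Fin 2) F) 0 1 = 0 →
      (g : Matrix (Fin 2) (Fin 2) F) 1 0 = 0 →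
      (g : Matrix (Fin 2) (Fin 2) F) 0 0 ≠ (g : Matrix (Fin 2) (Fin 2) F) 1 1 → χ g = 0) ∧
    (χ 1 = (Fintype.card F : ℂ) + 1 →
      (∀ (c : F) (v : Fin 2 → F), v ≠ 0 → (g : Matrix (Fin 2) (Fin 2) F).mulVec v ≠ c • v) → χ g = 0) := by
  classical
  refine ⟨fun hd h01 h10 hne => ?_, fun hd he => ?_⟩
  · obtain ⟨a, d, had, rfl⟩ := eq_diag h01 h10 hne
    rcases deg_series hχ with ⟨-, e⟩ | ⟨-, e⟩ | ⟨-, e⟩ | ⟨hc, -⟩
    · exfalso
      have h2 : (Fintype.card F : ℂ) = ((2 : ℕ) : ℂ) := by push_cast; linear_combination e - hd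
      have hc2 : Fintype.card F = 2 := Nat.cast_injective h2
      refine had (Units.ext ?_)
      have h01' : ∀ x : F, x ≠ 0 → x = 1 := fun x hx => by
        have := FiniteField.pow_card_sub_one_eq_one x hx
        rwa [hc2, pow_one] at this
      rw [h01' _ a.ne_zero, h01' _ d.ne_zero]
    · exact absurd (e.symm.trans hd) fun e => one_ne_zero (by linear_combination e)
    · exact absurd (e.symm.trans hd) fun e => two_ne_zero (α := ℂ) (by linear_combination e)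
    · exact cusp_split hχ hc had
  · rcases deg_series hχ with ⟨-, e⟩ | ⟨-, e⟩ | ⟨⟨α, β, -, rfl⟩, -⟩ | ⟨-, e⟩
    · have h0 : ((Fintype.card F : ℕ) : ℂ) = ((0 : ℕ) : ℂ) := by
        push_cast; linear_combination e - hd
      exact absurd (Nat.cast_injective h0) Fintype.card_ne_zero
    · exact absurd (e.symm.trans hd) fun e => one_ne_zero (by linear_combination -e)
    · exact PS_ell α β he
    · exact absurd (e.symm.trans hd) fun e => two_ne_zero (α := ℂ) (by linear_combination -e)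

theorem transvection (hq : 3 ≤ Fintype.card F) {χ : GL (Fin 2) F → ℂ} (hχ : Cfsg.IsIrrCharacter (GL (Fin 2) F) χ)
    {u : GL (Fin 2) F} (hu : (u : Matrix (Fin 2) (Fin 2) F) = !![1, 1; 0, 1]) :
    (χ 1 = 1 → χ u = 1) ∧ (χ 1 = (Fintype.card F : ℂ) + 1 → χ u = 1) ∧
    (χ 1 = (Fintype.card F : ℂ) - 1 → χ u = -1) ∧ (χ 1 = (Fintype.card F : ℂ) → χ u = 0) := by
  classical
  obtain rfl : u = bG 1 1 (1 : F) := Units.ext (hu.trans (by rw [coe_bG]; simp))
  have hPS : ∀ α β : MulChar F ℂ, PS α β (bG 1 1 (1 : F)) = 1 := fun α β => by rw [PS_bG]; simp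
  have n1 : (1 : ℂ) ≠ (Fintype.card F : ℂ) := by
    have := nat_ne (show 1 ≠ Fintype.card F by omega); simpa using this
  have n2 : (1 : ℂ) ≠ (Fintype.card F : ℂ) + 1 := by
    have := nat_ne (show 1 ≠ Fintype.card F + 1 by omega); push_cast at this; exact this
  have n3 : (1 : ℂ) ≠ (Fintype.card F : ℂ) - 1 := by
    have := nat_ne (show 2 ≠ Fintype.card F by omega); push_cast at this
    intro e; exact this (by linear_combination e)
  have n4 : (Fintype.card F : ℂ) ≠ (Fintype.card F : ℂ) + 1 := fun e => one_ne_zero (by linear_combination -e)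
  have n5 : (Fintype.card F : ℂ) ≠ (Fintype.card F : ℂ) - 1 := fun e => one_ne_zero (by linear_combination e)
  have n6 : (Fintype.card F : ℂ) + 1 ≠ (Fintype.card F : ℂ) - 1 :=
    fun e => two_ne_zero (α := ℂ) (by linear_combination e)
  rcases deg_series hχ with ⟨⟨α, rfl⟩, e⟩ | ⟨⟨α, rfl⟩, e⟩ | ⟨⟨α, β, -, rfl⟩, e⟩ | ⟨hc, e⟩ <;> simp only [e]
  · refine ⟨fun _ => by rw [lin_bG]; simp, fun h => absurd h n2, fun h => absurd h n3, fun h => absurd h n1⟩
  · refine ⟨fun h => absurd h.symm n1, fun h => absurd h n4, fun h => absurd h n5, fun _ => ?_⟩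
    show PS α α (bG 1 1 (1 : F)) - lin α (bG 1 1 (1 : F)) = 0
    rw [hPS, lin_bG]; simp
  · exact ⟨fun h => absurd h.symm n2, fun _ => hPS α β, fun h => absurd h n6, fun h => absurd h.symm n4⟩
  · exact ⟨fun h => absurd h.symm n3, fun h => absurd h.symm n6, fun _ => (cusp_deg hχ hc).2,
      fun h => absurd h.symm n5⟩

theorem steinberg_values {χ : GL (Fin 2) F → ℂ} (hχ : Cfsg.IsIrrCharacter (GL (Fin 2) F) χ)
    (hdeg : χ 1 = (Fintype.card F : ℂ)) (g : GL (Fin 2) F) :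
    ((g : Matrix (Fin 2) (Fin 2) F) 0 1 = 0 → (g : Matrix (Fin 2) (Fin 2) F) 1 0 = 0 →
      (g : Matrix (Fin 2) (Fin 2) F) 0 0 ≠ (g : Matrix (Fin 2) (Fin 2) F) 1 1 → ‖χ g‖ = 1) ∧
    ((∀ (c : F) (v : Fin 2 → F), v ≠ 0 → (g : Matrix (Fin 2) (Fin 2) F).mulVec v ≠ c • v) → ‖χ g‖ = 1) := by
  classical
  rcases deg_series hχ with ⟨-, e⟩ | ⟨⟨α, rfl⟩, -⟩ | ⟨-, e⟩ | ⟨-, e⟩
  · have := Fintype.one_lt_card (α := F)
    have h1 : ((1 : ℕ) : ℂ) = (Fintype.card F : ℂ) := by push_cast; exact e.symm.trans hdeg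
    exact absurd (Nat.cast_injective h1) (by omega)
  · refine ⟨fun h01 h10 hne => ?_, fun he => ?_⟩
    · obtain ⟨a, d, had, rfl⟩ := eq_diag h01 h10 hne
      have hne' : (d : F) - a ≠ 0 := sub_ne_zero.2 fun e => had (Units.ext e.symm)
      have hf : (Finset.univ.filter fun c : F => c * ((d : F) - a) = 0) = {0} := by
        ext c; simp [hne']
      show ‖PS α α (bG a d 0) - lin α (bG a d 0)‖ = 1
      rw [PS_bG, lin_bG, hf, Finset.card_singleton]
      rw [show α a * α d + ((1 : ℕ) : ℂ) * (α d * α a) - α a * α d = α d * α a by push_cast; ring, norm_mul,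
        norm_apply α d.ne_zero, norm_apply α a.ne_zero, one_mul]
    · show ‖PS α α g - lin α g‖ = 1
      rw [PS_ell α α he, zero_sub, norm_neg, lin, norm_apply α (Matrix.GeneralLinearGroup.det_ne_zero g)]
  · exact absurd (e.symm.trans hdeg) fun e => one_ne_zero (by linear_combination e)
  · exact absurd (e.symm.trans hdeg) fun e => one_ne_zero (by linear_combination -e)

end Cfsg.Lib.GLTwo.Ch
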