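import Cfsg.Agent.Chars.Core
import Cfsg.Agent.Chars.IrrTools
import Mathlib

/-! General tools for computing character tables of rank one groups. -/

set_option autoImplicit false
set_option linter.unusedSectionVars false

open scoped ComplexConjugate

namespace Cfsg.Lib.CharTools

open Cfsg.Lib.Chars

universe u v

variable {G : Type u} [Group G] {H : Type v} [Group H] [Fintype H]

/-- If the average of a character over the image of `φ` vanishes, so does the average over each translate. -/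
theorem sum_translate_eq_zero {f : G → ℂ} (hf : Cfsg.IsCharacter G f) (φ : H →* G) (h : ∑ k : H, f (φ k) = 0)
    (x : G) : ∑ k : H, f (x * φ k) = 0 := by
  obtain ⟨n, ρ, rfl⟩ := hf
  have hfin := Representation.card_inv_mul_sum_char_eq_finrank (ρ.comp φ)
  have hbot : Representation.invariants (ρ.comp φ) = ⊥ := by
    refine Submodule.finrank_eq_zero.1 (Nat.cast_injective (R := ℂ) ?_)
    rw [← hfin, show ∑ g : H, Representation.character (ρ.comp φ) g = ∑ k : H, ρ.character (φ k) from rfl, h]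
    simp
  have he : ∑ k : H, ρ (φ k) = 0 := by
    refine LinearMap.ext fun v => ?_
    have hv : (∑ k : H, ρ (φ k)) v ∈ Representation.invariants (ρ.comp φ) := by
      intro g
      show ρ (φ g) ((∑ k : H, ρ (φ k)) v) = _
      rw [LinearMap.sum_apply, map_sum]
      refine Eq.trans (Finset.sum_congr rfl fun k _ => ?_) (Equiv.sum_comp (Equiv.mulLeft g) fun k => ρ (φ k) v)
      simp [map_mul]
    rw [hbot, Submodule.mem_bot] at hv
    simpa using hv
  show ∑ k : H, LinearMap.trace ℂ _ (ρ (x * φ k)) = 0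
  rw [← map_sum]
  simp only [map_mul, ← Finset.mul_sum, he, mul_zero, map_zero]

/-- The multiplicity of a linear character in a pulled back character. -/
theorem exists_mult_linear {f : G → ℂ} (hf : Cfsg.IsCharacter G f) (φ : H →* G) (ψ : H →* ℂˣ) :
    ∃ m : ℕ, ∑ k : H, f (φ k) * conj ((ψ k : ℂ)) = (Nat.card H : ℂ) * m := by
  obtain ⟨m, hm⟩ := IsCharacter.exists_mult (IsCharacter.comp_hom hf φ) (isIrrCharacter_linear ψ)
  refine ⟨m, ?_⟩
  have hne : (Nat.card H : ℂ) ≠ 0 := by exact_mod_cast Nat.card_pos.ne'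
  rw [← hm, classInner_def, ← mul_assoc, mul_inv_cancel₀ hne, one_mul]

theorem exists_mult_one {f : G → ℂ} (hf : Cfsg.IsCharacter G f) (φ : H →* G) :
    ∃ m : ℕ, ∑ k : H, f (φ k) = (Nat.card H : ℂ) * m := by
  simpa using exists_mult_linear hf φ 1

/-- A character whose average over the image of `φ` is its degree is trivial on the image. -/
theorem eq_one_of_sum_eq [Finite G] {f : G → ℂ} (hf : Cfsg.IsCharacter G f) (φ : H →* G)
    (h : ∑ k : H, f (φ k) = (Nat.card H : ℂ) * f 1) (k : H) : f (φ k) = f 1 := by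
  obtain ⟨n, hn⟩ := IsCharacter.apply_one hf
  have hle : ∀ k : H, (f (φ k)).re ≤ (f 1).re := fun k => IsCharacter.re_le hf _
  have hre : ∑ k : H, ((f 1).re - (f (φ k)).re) = 0 := by
    rw [Finset.sum_sub_distrib, Finset.sum_const, Finset.card_univ, nsmul_eq_mul, ← Complex.re_sum, h,
      Nat.card_eq_fintype_card, hn]
    simp
  exact IsCharacter.eq_apply_one_of_re_eq hf
    ((sub_eq_zero.1 ((Finset.sum_eq_zero_iff_of_nonneg fun k _ => sub_nonneg.2 (hle k)).1 hre k (Finset.mem_univ k))).symm)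

theorem int_of_mul {v : ℂ} (hv : IsIntegral ℤ v) {n : ℕ} (hn : n ≠ 0) {m : ℤ} (h : (n : ℂ) * v = m) :
    ∃ z : ℤ, v = z := by
  have hn' : (n : ℂ) ≠ 0 := Nat.cast_ne_zero.2 hn
  have hv' : v = (((m : ℚ) / n : ℚ) : ℂ) := by
    push_cast
    rw [← h, mul_div_cancel_left₀ _ hn']
  obtain ⟨z, hz⟩ := int_of_isIntegral_rat (q := (m : ℚ) / n) (hv' ▸ hv)
  exact ⟨z, by rw [hv', hz]; simp⟩

/-- Induced class functions through a transversal. -/
theorem indFun_transversal [Fintype G] (B : Subgroup G) (θ : B → ℂ) (hθ : ∀ b c : B, θ (b⁻¹ * c * b) = θ c)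
    {ι : Type*} [Fintype ι] (t : ι → G) (ht : Function.Bijective fun i => (QuotientGroup.mk (t i) : G ⧸ B)) (g : G) :
    Cfsg.indFun B θ g = ∑ i, Cfsg.extendByZero B θ ((t i)⁻¹ * g * t i) := by
  classical
  have hbij : Function.Bijective fun ib : ι × ↥B => t ib.1 * (ib.2 : G) := by
    constructor
    · rintro ⟨i, b⟩ ⟨j, c⟩ h
      have h1 : i = j := ht.1 <| QuotientGroup.eq.2 <| by
        have e : (t i)⁻¹ * t j = (b : G) * (c : G)⁻¹ := by
          rw [eq_mul_inv_iff_mul_eq, mul_assoc, inv_mul_eq_iff_eq_mul]; exact h.symm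
        rw [e]
        exact mul_mem b.2 (inv_mem c.2)
      subst h1
      exact Prod.ext rfl (Subtype.ext (mul_left_cancel h))
    · intro x
      obtain ⟨i, hi⟩ := ht.2 (QuotientGroup.mk x)
      exact ⟨(i, ⟨(t i)⁻¹ * x, QuotientGroup.eq.1 hi⟩), mul_inv_cancel_left _ _⟩
  have hterm : ∀ (i : ι) (b : ↥B), Cfsg.extendByZero B θ ((t i * (b : G))⁻¹ * g * (t i * (b : G))) =
      Cfsg.extendByZero B θ ((t i)⁻¹ * g * t i) := by
    intro i b
    rw [show (t i * (b : G))⁻¹ * g * (t i * (b : G)) = (b : G)⁻¹ * ((t i)⁻¹ * g * t i) * b by group]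
    generalize (t i)⁻¹ * g * t i = y
    by_cases hy : y ∈ B
    · rw [extendByZero_mem θ hy, show (b : G)⁻¹ * y * b = ((b⁻¹ * ⟨y, hy⟩ * b : B) : G) from rfl,
        extendByZero_apply]
      exact hθ b ⟨y, hy⟩
    · rw [extendByZero_not_mem θ hy, extendByZero_not_mem]
      exact fun h => hy (by have := mul_mem (mul_mem b.2 h) (inv_mem b.2); simpa [mul_assoc] using this)
  rw [indFun_apply, ← Equiv.sum_comp (Equiv.ofBijective _ hbij), Fintype.sum_prod_type]
  simp only [Equiv.ofBijective_apply, hterm, Finset.sum_const, Finset.card_univ, nsmul_eq_mul, ← Finset.mul_sum,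
    ← Nat.card_eq_fintype_card]
  rw [← mul_assoc, inv_mul_cancel₀ (Nat.cast_ne_zero.2 Nat.card_pos.ne'), one_mul]

variable {F : Type*} [Field F] [Fintype F]

theorem sum_units_mulChar [DecidableEq F] {χ : MulChar F ℂ} (hχ : χ ≠ 1) : ∑ a : Fˣ, χ a = 0 := by
  have h := MulChar.sum_eq_zero_of_ne_one hχ
  rw [← Finset.sum_erase_add _ _ (Finset.mem_univ (0 : F)), MulChar.map_zero, add_zero] at h
  rw [← h]
  exact Finset.sum_bij (fun (a : Fˣ) _ => (a : F)) (fun a _ => by simp) (fun a _ b _ e => Units.ext e)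
    (fun b hb => ⟨Units.mk0 b (Finset.mem_erase.1 hb).1, Finset.mem_univ _, rfl⟩) (fun a _ => rfl)

theorem conj_apply (χ : MulChar F ℂ) (a : F) : conj (χ a) = χ⁻¹ a := MulChar.star_apply' χ a

/-- Orthogonality of multiplicative characters. -/
theorem sum_mul_conj [DecidableEq F] (α β : MulChar F ℂ) [Decidable (α = β)] :
    ∑ a : Fˣ, α a * conj (β a) = if α = β then ((Fintype.card F - 1 : ℕ) : ℂ) else 0 := by
  have e : ∀ a : Fˣ, α a * conj (β a) = (α * β⁻¹) a := fun a => by rw [conj_apply, MulChar.mul_apply]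
  simp only [e]
  split_ifs with h
  · subst h
    rw [mul_inv_cancel]
    simp [Fintype.card_units]
  · exact sum_units_mulChar fun h1 => h (mul_inv_eq_one.1 h1)

theorem card_mulChar : Nat.card (MulChar F ℂ) = Fintype.card F - 1 := by
  classical
  rw [MulChar.card_eq_card_units_of_hasEnoughRootsOfUnity F ℂ, Nat.card_eq_fintype_card, Fintype.card_units]

theorem sum_over_chars [DecidableEq F] [Fintype (MulChar F ℂ)] (a : Fˣ) :
    ∑ α : MulChar F ℂ, α a = if a = 1 then ((Fintype.card F - 1 : ℕ) : ℂ) else 0 := by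
  split_ifs with h
  · subst h
    simp [← card_mulChar (F := F), Nat.card_eq_fintype_card]
  · obtain ⟨χ, hχ⟩ := MulChar.exists_apply_ne_one_of_hasEnoughRootsOfUnity F ℂ (a := (a : F))
      (fun e => h (Units.ext e))
    have := Equiv.sum_comp (Equiv.mulLeft χ) fun α : MulChar F ℂ => α a
    simp only [Equiv.coe_mulLeft, MulChar.mul_apply, ← Finset.mul_sum] at this
    by_contra hne
    exact hχ ((mul_eq_right₀ hne).1 this)

theorem norm_apply (χ : MulChar F ℂ) {a : F} (ha : a ≠ 0) : ‖χ a‖ = 1 := by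
  classical
  refine Complex.norm_eq_one_of_pow_eq_one (n := Fintype.card F - 1) ?_ (by
    have := Fintype.one_lt_card (α := F); omega)
  rw [← map_pow, FiniteField.pow_card_sub_one_eq_one a ha, map_one]

theorem apply_mul_conj (χ : MulChar F ℂ) {a : F} (ha : a ≠ 0) : χ a * conj (χ a) = 1 := by
  rw [Complex.mul_conj, Complex.normSq_eq_norm_sq, norm_apply χ ha]; simp

end Cfsg.Lib.CharTools
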