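import Cfsg.Agent.Known.SLTwo.GL
import Cfsg.Agent.Known.SLTwo.Chars.Tools

/-! The principal series of GL₂. -/

set_option autoImplicit false
set_option linter.unusedSectionVars false

open Matrix
open scoped ComplexConjugate

namespace Cfsg.Lib.GLTwo.Ch

open Cfsg.Lib.CharTools Cfsg.Lib.Chars

variable {F : Type*} [Field F]

/-- An upper triangular element. -/
def bG (a d : Fˣ) (x : F) : GL (Fin 2) F :=
  Matrix.GeneralLinearGroup.mkOfDetNeZero !![(a : F), x; 0, (d : F)] (by
    rw [Matrix.det_fin_two]; simp)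

@[simp] theorem coe_bG (a d : Fˣ) (x : F) :
    ((bG a d x : GL (Fin 2) F) : Matrix (Fin 2) (Fin 2) F) = !![(a : F), x; 0, (d : F)] := rfl

theorem bG_mul (a d a' d' : Fˣ) (x x' : F) :
    bG a d x * bG a' d' x' = bG (a * a') (d * d') ((a : F) * x' + x * (d' : F)) := by
  refine Units.ext ?_
  simp only [Units.val_mul, coe_bG]
  ext i j; fin_cases i <;> fin_cases j <;> simp [Matrix.mul_apply, Fin.sum_univ_two]

theorem bG_one : bG (1 : Fˣ) 1 (0 : F) = 1 := by
  refine Units.ext ?_
  simp only [coe_bG, Units.val_one]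
  ext i j; fin_cases i <;> fin_cases j <;> simp

theorem bG_det (a d : Fˣ) (x : F) : ((bG a d x : GL (Fin 2) F) : Matrix (Fin 2) (Fin 2) F).det = a * d := by
  simp [Matrix.det_fin_two]

/-- The unipotent upper triangular group. -/
def uG : Multiplicative F →* GL (Fin 2) F where
  toFun x := bG 1 1 x.toAdd
  map_one' := bG_one
  map_mul' x y := by rw [bG_mul]; simp [add_comm]

theorem uG_apply (x : F) : uG (Multiplicative.ofAdd x) = bG 1 1 x := rfl

theorem bG_mem (a d : Fˣ) (x : F) : bG a d x ∈ Cfsg.upperTriangularGL 2 F := (mem_borel _).2 (by simp)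

theorem eq_bG {g : GL (Fin 2) F} (h : (g : Matrix (Fin 2) (Fin 2) F) 1 0 = 0) :
    ∃ a d x, g = bG a d x := by
  have hd := Matrix.GeneralLinearGroup.det_ne_zero g
  rw [Matrix.det_fin_two, h, mul_zero, sub_zero] at hd
  refine ⟨Units.mk0 _ (left_ne_zero_of_mul hd), Units.mk0 _ (right_ne_zero_of_mul hd),
    (g : Matrix (Fin 2) (Fin 2) F) 0 1, Units.ext ?_⟩
  rw [coe_bG]
  ext i j; fin_cases i <;> fin_cases j <;> simp [h]

/-- The parametrization of the Borel subgroup. -/
def borelMap (p : (Fˣ × Fˣ) × F) : ↥(Cfsg.upperTriangularGL 2 F) := ⟨bG p.1.1 p.1.2 p.2, bG_mem _ _ _⟩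

theorem borelMap_bijective : Function.Bijective (borelMap (F := F)) := by
  constructor
  · rintro ⟨⟨a, d⟩, x⟩ ⟨⟨a', d'⟩, x'⟩ h
    have e := congrArg (fun z : ↥(Cfsg.upperTriangularGL 2 F) => ((z : GL (Fin 2) F) : Matrix (Fin 2) (Fin 2) F)) h
    simp only [borelMap, coe_bG] at e
    have e00 := congrFun (congrFun e 0) 0
    have e11 := congrFun (congrFun e 1) 1
    have e01 := congrFun (congrFun e 0) 1
    simp at e00 e11 e01
    rw [Units.ext e00, Units.ext e11, e01]
  · rintro ⟨g, hg⟩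
    obtain ⟨a, d, x, rfl⟩ := eq_bG ((mem_borel g).1 hg)
    exact ⟨((a, d), x), rfl⟩

variable [Fintype F] [DecidableEq F]

theorem card_borel : Nat.card ↥(Cfsg.upperTriangularGL 2 F) =
    (Fintype.card F - 1) * (Fintype.card F - 1) * Fintype.card F := by
  rw [← Nat.card_congr (Equiv.ofBijective _ (borelMap_bijective (F := F))), Nat.card_prod, Nat.card_prod,
    Nat.card_units, Nat.card_eq_fintype_card]

/-- A character of the diagonal as a character of the Borel subgroup. -/
noncomputable def chB (α β : MulChar F ℂ) (b : ↥(Cfsg.upperTriangularGL 2 F)) : ℂ :=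
  α (((b : GL (Fin 2) F) : Matrix (Fin 2) (Fin 2) F) 0 0) * β (((b : GL (Fin 2) F) : Matrix (Fin 2) (Fin 2) F) 1 1)

theorem chB_borelMap (α β : MulChar F ℂ) (p : (Fˣ × Fˣ) × F) :
    chB α β (borelMap p) = α p.1.1 * β p.1.2 := by
  simp [chB, borelMap]

theorem chB_mul (α β : MulChar F ℂ) (b c : ↥(Cfsg.upperTriangularGL 2 F)) :
    chB α β (b * c) = chB α β b * chB α β c := by
  obtain ⟨p, rfl⟩ := borelMap_bijective.2 b
  obtain ⟨r, rfl⟩ := borelMap_bijective.2 c
  have e : borelMap p * borelMap r = borelMap ((p.1.1 * r.1.1, p.1.2 * r.1.2), (p.1.1 : F) * r.2 + p.2 * (r.1.2 : F)) :=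
    Subtype.ext (bG_mul _ _ _ _ _ _)
  rw [e, chB_borelMap, chB_borelMap, chB_borelMap, Units.val_mul, Units.val_mul, map_mul, map_mul]
  ring

theorem chB_one (α β : MulChar F ℂ) : chB α β 1 = 1 := by simp [chB]

/-- The same, as a linear character. -/
noncomputable def chHom (α β : MulChar F ℂ) : ↥(Cfsg.upperTriangularGL 2 F) →* ℂˣ :=
  MonoidHom.toHomUnits { toFun := chB α β, map_one' := chB_one α β, map_mul' := chB_mul α β }

/-- The principal series. -/
noncomputable def PS (α β : MulChar F ℂ) : GL (Fin 2) F → ℂ :=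
  Cfsg.indFun (Cfsg.upperTriangularGL 2 F) (chB α β)

theorem isCharacter_chB (α β : MulChar F ℂ) : Cfsg.IsCharacter ↥(Cfsg.upperTriangularGL 2 F) (chB α β) := by
  have := isCharacter_linear (chHom α β)
  exact this

theorem isCharacter_PS (α β : MulChar F ℂ) : Cfsg.IsCharacter (GL (Fin 2) F) (PS α β) :=
  IsCharacter.indFun (isCharacter_chB α β)

theorem PS_eq_sum (α β : MulChar F ℂ) (g : GL (Fin 2) F) :
    PS α β g = ∑ o : Option F, if (colAt (g : Matrix (Fin 2) (Fin 2) F) o).2 = 0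
      then α (colAt (g : Matrix (Fin 2) (Fin 2) F) o).1 *
        β ((g : Matrix (Fin 2) (Fin 2) F).det / (colAt (g : Matrix (Fin 2) (Fin 2) F) o).1) else 0 := by
  classical
  have hθ : ∀ b c : ↥(Cfsg.upperTriangularGL 2 F), chB α β (b⁻¹ * c * b) = chB α β c := fun b c => by
    rw [chB_mul, chB_mul, mul_right_comm, ← chB_mul, inv_mul_cancel, chB_one, one_mul]
  rw [PS, indFun_transversal _ _ hθ (fun o => Matrix.SpecialLinearGroup.toGL (pointRep o)) pointRep_bijective]
  refine Finset.sum_congr rfl fun o _ => ?_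
  have hval : (((Matrix.SpecialLinearGroup.toGL (pointRep o))⁻¹ * g * Matrix.SpecialLinearGroup.toGL (pointRep o) :
      GL (Fin 2) F) : Matrix (Fin 2) (Fin 2) F) =
      (((pointRep o)⁻¹ : Matrix.SpecialLinearGroup (Fin 2) F) : Matrix (Fin 2) (Fin 2) F) *
        (g : Matrix (Fin 2) (Fin 2) F) * (pointRep o : Matrix (Fin 2) (Fin 2) F) := by
    rw [← map_inv, Units.val_mul, Units.val_mul]; rfl
  generalize ((Matrix.SpecialLinearGroup.toGL (pointRep o))⁻¹ * g * Matrix.SpecialLinearGroup.toGL (pointRep o) :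
      GL (Fin 2) F) = y at hval ⊢
  have h00 : (colAt (g : Matrix (Fin 2) (Fin 2) F) o).1 = (y : Matrix (Fin 2) (Fin 2) F) 0 0 := by rw [colAt_eq, hval]
  have h10 : (colAt (g : Matrix (Fin 2) (Fin 2) F) o).2 = (y : Matrix (Fin 2) (Fin 2) F) 1 0 := by rw [colAt_eq, hval]
  have hdet : (g : Matrix (Fin 2) (Fin 2) F).det = (y : Matrix (Fin 2) (Fin 2) F).det := by
    rw [hval, Matrix.det_mul, Matrix.det_mul, ((pointRep o)⁻¹).2, (pointRep o).2, one_mul, mul_one]
  by_cases hy : y ∈ Cfsg.upperTriangularGL 2 F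
  · rw [extendByZero_mem _ hy, if_pos (h10.trans ((mem_borel y).1 hy))]
    obtain ⟨a, d, x, rfl⟩ := eq_bG ((mem_borel y).1 hy)
    rw [h00, hdet, bG_det]
    simp [chB, mul_div_cancel_left₀]
  · rw [extendByZero_not_mem _ hy, if_neg (h10 ▸ fun e => hy ((mem_borel y).2 e))]

theorem colAt_bG (a d : Fˣ) (x c : F) :
    colAt ((bG a d x : GL (Fin 2) F) : Matrix (Fin 2) (Fin 2) F) (some c) =
      ((d : F), c * ((d : F) - a) - x) := by
  simp [colAt]; ring

theorem PS_bG (α β : MulChar F ℂ) (a d : Fˣ) (x : F) :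
    PS α β (bG a d x) = α a * β d +
      ((Finset.univ.filter fun c : F => c * ((d : F) - a) = x).card : ℂ) * (α d * β a) := by
  rw [PS_eq_sum, Fintype.sum_option]
  congr 1
  · simp [colAt, bG_det, mul_div_cancel_left₀]
  · simp only [colAt_bG, sub_eq_zero, bG_det, mul_div_cancel_right₀ _ d.ne_zero]
    rw [← Finset.sum_filter, Finset.sum_const, nsmul_eq_mul]

theorem sum_PS_bG (α β : MulChar F ℂ) (a d : Fˣ) :
    ∑ x : F, PS α β (bG a d x) = (Fintype.card F : ℂ) * (α a * β d + α d * β a) := by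
  simp only [PS_bG, Finset.sum_add_distrib, Finset.sum_const, Finset.card_univ, nsmul_eq_mul, ← Finset.sum_mul]
  rw [← Nat.cast_sum, ← Finset.card_eq_sum_card_fiberwise (f := fun c : F => c * ((d : F) - a)) (t := Finset.univ)
    (fun c _ => Finset.mem_univ _), Finset.card_univ, mul_add]

theorem PS_one (α β : MulChar F ℂ) : PS α β 1 = (Fintype.card F : ℂ) + 1 := by
  rw [← bG_one, PS_bG]
  simp [add_comm]

theorem PS_ell (α β : MulChar F ℂ) {g : GL (Fin 2) F}
    (h : ∀ (c : F) (v : Fin 2 → F), v ≠ 0 → (g : Matrix (Fin 2) (Fin 2) F).mulVec v ≠ c • v) : PS α β g = 0 := by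
  rw [PS_eq_sum]
  refine Finset.sum_eq_zero fun o _ => if_neg fun e => ?_
  rcases o with _ | c
  · refine h ((g : Matrix (Fin 2) (Fin 2) F) 0 0) ![1, 0] (fun e' => one_ne_zero (congrFun e' 0)) ?_
    ext i; fin_cases i <;> simp [Matrix.mulVec, dotProduct, Fin.sum_univ_two]
    simpa [colAt] using e
  · simp only [colAt] at e
    refine h ((g : Matrix (Fin 2) (Fin 2) F) 1 0 * c + (g : Matrix (Fin 2) (Fin 2) F) 1 1) ![c, 1]
      (fun e' => one_ne_zero (congrFun e' 1)) ?_
    ext i; fin_cases i <;> simp [Matrix.mulVec, dotProduct, Fin.sum_univ_two]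
    linear_combination -e

theorem classInner_PS_fun (α β : MulChar F ℂ) {f : GL (Fin 2) F → ℂ} (hf : Cfsg.IsClassFunction (GL (Fin 2) F) f) :
    Cfsg.classInner (PS α β) f = (Nat.card ↥(Cfsg.upperTriangularGL 2 F) : ℂ)⁻¹ *
      ∑ a : Fˣ, ∑ d : Fˣ, α a * β d * conj (∑ x : F, f (bG a d x)) := by
  classical
  rw [PS, frobenius_reciprocity _ _ hf, classInner_def]
  congr 1
  rw [← Equiv.sum_comp (Equiv.ofBijective _ (borelMap_bijective (F := F))), Fintype.sum_prod_type,
    Fintype.sum_prod_type]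
  refine Finset.sum_congr rfl fun a _ => Finset.sum_congr rfl fun d _ => ?_
  rw [map_sum, Finset.mul_sum]
  refine Finset.sum_congr rfl fun x _ => ?_
  rw [Equiv.ofBijective_apply, chB_borelMap]
  rfl

open Classical in
theorem classInner_PS (α β α' β' : MulChar F ℂ) :
    Cfsg.classInner (PS α β) (PS α' β') =
      (if α = α' ∧ β = β' then 1 else 0) + (if α = β' ∧ β = α' then 1 else 0) := by
  rw [classInner_PS_fun α β (show Cfsg.IsClassFunction _ (PS α' β') from isClassFunction_indFun _ _)]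
  simp only [sum_PS_bG, map_mul, map_add, Complex.conj_natCast]
  have e : ∀ a d : Fˣ, α a * β d * ((Fintype.card F : ℂ) * (conj (α' a) * conj (β' d) + conj (α' d) * conj (β' a))) =
      (Fintype.card F : ℂ) * ((α a * conj (α' a)) * (β d * conj (β' d)) + (α a * conj (β' a)) * (β d * conj (α' d))) :=
    fun a d => by ring
  simp only [e, ← Finset.mul_sum, Finset.sum_add_distrib, ← Finset.sum_mul, sum_mul_conj, card_borel]
  have hq := Fintype.one_lt_card (α := F)
  have h1 : ((Fintype.card F - 1 : ℕ) : ℂ) ≠ 0 := Nat.cast_ne_zero.2 (by omega)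
  have h0 : (Fintype.card F : ℂ) ≠ 0 := Nat.cast_ne_zero.2 (by omega)
  push_cast
  split_ifs <;> simp_all <;> field_simp

theorem isIrr_PS {α β : MulChar F ℂ} (h : α ≠ β) : Cfsg.IsIrrCharacter (GL (Fin 2) F) (PS α β) := by
  classical
  refine isIrrCharacter_of_norm_one (isCharacter_PS α β) ?_
  rw [classInner_PS, if_pos ⟨rfl, rfl⟩, if_neg fun e => h e.1, add_zero]

theorem PS_swap (α β : MulChar F ℂ) : PS α β = PS β α := by
  classical
  have key : Cfsg.classInner (PS α β - PS β α) (PS α β - PS β α) = 0 := by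
    rw [classInner_sub_left, classInner_sub_right, classInner_sub_right, classInner_PS, classInner_PS,
      classInner_PS, classInner_PS]
    by_cases h : α = β
    · subst h; simp
    · simp [h, Ne.symm h]
  exact sub_eq_zero.1 ((classInner_self_eq_zero _).1 key)

theorem PS_eq_iff (α β α' β' : MulChar F ℂ) :
    PS α β = PS α' β' ↔ (α = α' ∧ β = β') ∨ (α = β' ∧ β = α') := by
  classical
  refine ⟨fun h => ?_, ?_⟩
  · by_contra hne
    push Not at hne
    have h1 := classInner_PS α β α' β'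
    rw [if_neg (fun e => hne.1 e.1 e.2), if_neg (fun e => hne.2 e.1 e.2), add_zero, ← h, classInner_PS,
      if_pos ⟨rfl, rfl⟩] at h1
    split_ifs at h1 <;> norm_num at h1
  · rintro (⟨rfl, rfl⟩ | ⟨rfl, rfl⟩)
    · rfl
    · exact PS_swap _ _

end Cfsg.Lib.GLTwo.Ch
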