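import Cfsg.Agent.Known.SLTwo.Chars.GLSeries

/-! The character table of GL₂. -/

set_option autoImplicit false
set_option linter.unusedSectionVars false

open Matrix
open scoped ComplexConjugate

namespace Cfsg.Lib.GLTwo.Ch

open Cfsg.Lib.CharTools Cfsg.Lib.Chars

variable {F : Type*} [Field F] [Fintype F] [DecidableEq F]

local notation "𝔾" => GL (Fin 2) F
local notation "𝕢" => Fintype.card F

/-- A character of the determinant. -/
noncomputable def linHom (α : MulChar F ℂ) : 𝔾 →* ℂˣ := α.toUnitHom.comp Matrix.GeneralLinearGroup.det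

/-- A character of the determinant, as a function. -/
noncomputable def lin (α : MulChar F ℂ) : 𝔾 → ℂ := fun g => α (g : Matrix (Fin 2) (Fin 2) F).det

theorem lin_eq (α : MulChar F ℂ) : lin α = fun g : 𝔾 => (linHom α g : ℂ) := by
  funext g
  simp [lin, linHom, MulChar.coe_toUnitHom]

theorem isIrr_lin (α : MulChar F ℂ) : Cfsg.IsIrrCharacter 𝔾 (lin α) := by
  rw [lin_eq]; exact isIrrCharacter_linear _

theorem lin_one (α : MulChar F ℂ) : lin α (1 : 𝔾) = 1 := by simp [lin]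

theorem lin_bG (α : MulChar F ℂ) (a d : Fˣ) (x : F) : lin α (bG a d x) = α a * α d := by
  simp [lin, bG_det]

theorem isClassFunction_PS (α β : MulChar F ℂ) : Cfsg.IsClassFunction 𝔾 (PS α β) := isClassFunction_indFun _ _

open Classical in
theorem classInner_PS_lin (α β α' : MulChar F ℂ) :
    Cfsg.classInner (PS α β) (lin α') = if α = α' ∧ β = α' then 1 else 0 := by
  rw [classInner_PS_fun α β (isClassFunction_isChar (isCharacter_of_irr (isIrr_lin α')))]
  simp only [lin_bG, Finset.sum_const, Finset.card_univ, nsmul_eq_mul, map_mul, Complex.conj_natCast]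
  have e : ∀ a d : Fˣ, α a * β d * ((𝕢 : ℂ) * (conj (α' a) * conj (α' d))) =
      (𝕢 : ℂ) * ((α a * conj (α' a)) * (β d * conj (α' d))) := fun a d => by ring
  simp only [e, ← Finset.mul_sum, ← Finset.sum_mul, sum_mul_conj, card_borel]
  have hq := Fintype.one_lt_card (α := F)
  have h1 : ((𝕢 - 1 : ℕ) : ℂ) ≠ 0 := Nat.cast_ne_zero.2 (by omega)
  have h0 : (𝕢 : ℂ) ≠ 0 := Nat.cast_ne_zero.2 (by omega)
  push_cast
  split_ifs <;> simp_all <;> field_simp

/-- The twisted Steinberg character. -/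
noncomputable def St (α : MulChar F ℂ) : 𝔾 → ℂ := PS α α - lin α

theorem St_one (α : MulChar F ℂ) : St α (1 : 𝔾) = (𝕢 : ℂ) := by simp [St, PS_one, lin_one]

theorem lin_inj {α α' : MulChar F ℂ} (h : lin α = (lin α' : 𝔾 → ℂ)) : α = α' := by
  refine MulChar.ext fun a => ?_
  have e := congrFun h (bG a 1 0)
  simpa [lin_bG] using e

open Classical in
theorem classInner_lin (α α' : MulChar F ℂ) :
    Cfsg.classInner (lin α : 𝔾 → ℂ) (lin α') = if α = α' then 1 else 0 := by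
  rw [classInner_irrChar (isIrr_lin α) (isIrr_lin α')]
  exact if_congr ⟨lin_inj, fun e => e ▸ rfl⟩ rfl rfl

open Classical in
theorem classInner_PS_St (α α' : MulChar F ℂ) :
    Cfsg.classInner (PS α α) (St α') = if α = α' then 1 else 0 := by
  rw [St, classInner_sub_right, classInner_PS, classInner_PS_lin]
  split_ifs <;> simp_all

theorem isIrr_St (α : MulChar F ℂ) : Cfsg.IsIrrCharacter 𝔾 (St α) := by
  classical
  have hgen : Cfsg.IsGeneralizedCharacter 𝔾 (St α) :=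
    IsGeneralizedCharacter.sub (IsCharacter.isGeneralized (isCharacter_PS α α)) (IsCharacter.isGeneralized (isCharacter_of_irr (isIrr_lin α)))
  have hn : Cfsg.classInner (St α : 𝔾 → ℂ) (St α) = 1 := by
    conv_lhs => rw [St]
    rw [classInner_sub_left, classInner_sub_right, classInner_sub_right, classInner_PS, classInner_PS_lin,
      ← classInner_conj_symm (PS α α) (lin α), classInner_PS_lin, classInner_lin]
    simp
  rcases isIrr_or_neg_of_norm_one hgen hn with h | h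
  · exact h
  · exfalso
    obtain ⟨n, hn'⟩ := IsCharacter.apply_one (isCharacter_of_irr h)
    rw [Pi.neg_apply, St_one, neg_eq_iff_add_eq_zero, ← Nat.cast_add, Nat.cast_eq_zero] at hn'
    have := Fintype.one_lt_card (α := F)
    omega

theorem St_inj {α α' : MulChar F ℂ} (h : St α = (St α' : 𝔾 → ℂ)) : α = α' := by
  classical
  have e := classInner_PS_St α α'
  rw [← h, classInner_PS_St, if_pos rfl] at e
  by_contra hne
  rw [if_neg hne] at e
  exact one_ne_zero e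

/-- The cuspidal characters: those orthogonal to all principal series. -/
def IsCusp (χ : 𝔾 → ℂ) : Prop := ∀ α β : MulChar F ℂ, Cfsg.classInner (PS α β) χ = 0

theorem cases_irr {χ : 𝔾 → ℂ} (hχ : Cfsg.IsIrrCharacter 𝔾 χ) :
    (∃ α, χ = lin α) ∨ (∃ α, χ = St α) ∨ (∃ α β, α ≠ β ∧ χ = PS α β) ∨ IsCusp χ := by
  classical
  by_contra hne
  push Not at hne
  obtain ⟨h1, h2, h3, h4⟩ := hne
  refine h4 fun α β => ?_
  by_cases h : α = β
  · subst h
    rw [show PS α α = St α + lin α by simp [St], classInner_add_left, classInner_irrChar (isIrr_St α) hχ,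
      classInner_irrChar (isIrr_lin α) hχ, if_neg fun e => h2 α e.symm, if_neg fun e => h1 α e.symm, add_zero]
  · rw [classInner_irrChar (isIrr_PS h) hχ, if_neg fun e => h3 α β h e.symm]

variable {χ : GL (Fin 2) F → ℂ}

theorem cusp_sum_one (hχ : Cfsg.IsIrrCharacter 𝔾 χ) (hc : IsCusp χ) : ∑ x : F, χ (bG 1 1 x) = 0 := by
  classical
  haveI : Fintype (MulChar F ℂ) := Fintype.ofFinite _
  have hB : (Nat.card ↥(Cfsg.upperTriangularGL 2 F) : ℂ) ≠ 0 := by exact_mod_cast Nat.card_pos.ne'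
  have h : ∑ α : MulChar F ℂ, ∑ β : MulChar F ℂ,
      ∑ a : Fˣ, ∑ d : Fˣ, α a * β d * conj (∑ x : F, χ (bG a d x)) = 0 := by
    refine Finset.sum_eq_zero fun α _ => Finset.sum_eq_zero fun β _ => ?_
    have := hc α β
    rw [classInner_PS_fun α β (isClassFunction_isChar (isCharacter_of_irr hχ))] at this
    exact (mul_eq_zero.1 this).resolve_left (inv_ne_zero hB)
  have e : ∀ a d : Fˣ, ∑ α : MulChar F ℂ, ∑ β : MulChar F ℂ, α a * β d * conj (∑ x : F, χ (bG a d x)) =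
      (if a = 1 then ((𝕢 - 1 : ℕ) : ℂ) else 0) * (if d = 1 then ((𝕢 - 1 : ℕ) : ℂ) else 0) *
        conj (∑ x : F, χ (bG a d x)) := fun a d => by
    simp only [← Finset.sum_mul, ← Finset.mul_sum, sum_over_chars]
  rw [Finset.sum_congr rfl fun α _ => Finset.sum_comm] at h
  rw [Finset.sum_comm] at h
  rw [Finset.sum_congr rfl fun a _ => Finset.sum_congr rfl fun α _ => Finset.sum_comm] at h
  rw [Finset.sum_congr rfl fun a _ => Finset.sum_comm] at h
  simp only [e, ite_mul, zero_mul, mul_ite, mul_zero, Finset.sum_ite_eq', Finset.mem_univ, if_true] at h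
  have hq := Fintype.one_lt_card (α := F)
  have h1 : ((𝕢 - 1 : ℕ) : ℂ) ≠ 0 := Nat.cast_ne_zero.2 (by omega)
  simpa [h1, ← map_sum] using h

theorem cusp_sum (hχ : Cfsg.IsIrrCharacter 𝔾 χ) (hc : IsCusp χ) (a d : Fˣ) : ∑ x : F, χ (bG a d x) = 0 := by
  have h := sum_translate_eq_zero (isCharacter_of_irr hχ) uG
    (by rw [← cusp_sum_one hχ hc, ← Equiv.sum_comp Multiplicative.toAdd fun x : F => χ (bG 1 1 x)]; rfl) (bG a d 0)
  rw [← h, ← Equiv.sum_comp Multiplicative.ofAdd fun k => χ (bG a d 0 * uG k),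
    ← Equiv.sum_comp (Equiv.mulLeft₀ (a : F) a.ne_zero) fun x : F => χ (bG a d x)]
  refine Finset.sum_congr rfl fun y _ => ?_
  rw [uG_apply, bG_mul]
  simp

theorem isConj_bG_regular {a d : Fˣ} (h : a ≠ d) (x : F) : IsConj (bG a d 0) (bG a d x) := by
  have hne : (d : F) - a ≠ 0 := sub_ne_zero.2 fun e => h (Units.ext e.symm)
  refine isConj_iff.2 ⟨bG 1 1 (x / ((d : F) - a)), ?_⟩
  rw [mul_inv_eq_iff_eq_mul, bG_mul, bG_mul]
  congr 1
  · simp
  · simp
  · simp; field_simp; ring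

theorem isConj_bG_unip {x : F} (h : x ≠ 0) : IsConj (bG 1 1 (1 : F)) (bG 1 1 x) := by
  refine isConj_iff.2 ⟨bG (Units.mk0 x h) 1 0, ?_⟩
  rw [mul_inv_eq_iff_eq_mul, bG_mul, bG_mul]
  simp

theorem apply_unip_const (hχ : Cfsg.IsIrrCharacter 𝔾 χ) {x : F} (h : x ≠ 0) : χ (bG 1 1 x) = χ (bG 1 1 (1 : F)) :=
  (classFunction_eq_of_isConj (isClassFunction_isChar (isCharacter_of_irr hχ)) (isConj_bG_unip h)).symm

theorem sum_bG_regular (hχ : Cfsg.IsIrrCharacter 𝔾 χ) {a d : Fˣ} (h : a ≠ d) :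
    ∑ x : F, χ (bG a d x) = (𝕢 : ℂ) * χ (bG a d 0) := by
  rw [Finset.sum_congr rfl fun x _ => (classFunction_eq_of_isConj (isClassFunction_isChar (isCharacter_of_irr hχ))
    (isConj_bG_regular h x)).symm]
  simp

theorem cusp_split (hχ : Cfsg.IsIrrCharacter 𝔾 χ) (hc : IsCusp χ) {a d : Fˣ} (h : a ≠ d) : χ (bG a d 0) = 0 := by
  have e := cusp_sum hχ hc a d
  rw [sum_bG_regular hχ h] at e
  exact (mul_eq_zero.1 e).resolve_left (Nat.cast_ne_zero.2 Fintype.card_ne_zero)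

theorem sum_unip (hχ : Cfsg.IsIrrCharacter 𝔾 χ) :
    ∑ x : F, χ (bG 1 1 x) = χ 1 + ((𝕢 - 1 : ℕ) : ℂ) * χ (bG 1 1 (1 : F)) := by
  rw [← Finset.add_sum_erase _ _ (Finset.mem_univ (0 : F)), bG_one,
    Finset.sum_congr rfl fun x hx => apply_unip_const hχ (Finset.mem_erase.1 hx).1, Finset.sum_const,
    Finset.card_erase_of_mem (Finset.mem_univ _), Finset.card_univ, nsmul_eq_mul]

theorem cusp_deg_exists (hχ : Cfsg.IsIrrCharacter 𝔾 χ) (hc : IsCusp χ) :
    ∃ k : ℕ, 1 ≤ k ∧ χ 1 = (k : ℂ) * ((𝕢 - 1 : ℕ) : ℂ) ∧ χ (bG 1 1 (1 : F)) = -(k : ℂ) := by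
  obtain ⟨n, hn⟩ := IsCharacter.apply_one (isCharacter_of_irr hχ)
  have h0 := cusp_sum_one hχ hc
  rw [sum_unip hχ, hn] at h0
  have hq := Fintype.one_lt_card (α := F)
  obtain ⟨z, hz⟩ := int_of_mul (IsCharacter.isIntegral (isCharacter_of_irr hχ) (bG 1 1 (1 : F))) (n := 𝕢 - 1) (by omega)
    (m := -(n : ℤ)) (by push_cast; linear_combination h0)
  rw [hz] at h0
  have h0' : (n : ℤ) + ((𝕢 - 1 : ℕ) : ℤ) * z = 0 := by exact_mod_cast h0
  have hn0 : n ≠ 0 := fun e => IsIrrCharacter.apply_one_ne_zero hχ (by rw [hn, e, Nat.cast_zero])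
  have hz0 : z < 0 := by
    by_contra hz0
    have h1 : (0 : ℤ) ≤ ((𝕢 - 1 : ℕ) : ℤ) * z := mul_nonneg (by positivity) (by omega)
    omega
  obtain ⟨k, rfl⟩ : ∃ k : ℕ, z = -(k : ℤ) := ⟨z.natAbs, by omega⟩
  refine ⟨k, by omega, ?_, by rw [hz]; push_cast; ring⟩
  rw [hn]
  push_cast at h0 ⊢
  linear_combination h0

variable (F) in
/-- Labels of the noncuspidal characters. -/
abbrev Label : Type _ := MulChar F ℂ ⊕ MulChar F ℂ ⊕ {s : Sym2 (MulChar F ℂ) // ¬ s.IsDiag}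

/-- The noncuspidal character with a given label. -/
noncomputable def ofLabel : Label F → Cfsg.IrrCharacter 𝔾
  | .inl α => ⟨lin α, isIrr_lin α⟩
  | .inr (.inl α) => ⟨St α, isIrr_St α⟩
  | .inr (.inr s) => ⟨Sym2.lift ⟨PS, PS_swap⟩ s.1, by
      obtain ⟨s, hs⟩ := s
      induction s using Sym2.ind with
      | _ α β =>
        rw [Sym2.lift_mk]
        exact isIrr_PS (by simpa using hs)⟩

theorem ofLabel_mk {α β : MulChar F ℂ} (h : ¬ (s(α, β)).IsDiag) :
    (ofLabel (.inr (.inr ⟨s(α, β), h⟩)) : 𝔾 → ℂ) = PS α β := rfl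

theorem deg_ofLabel (l : Label F) : deg ((ofLabel l : Cfsg.IrrCharacter 𝔾) : 𝔾 → ℂ) =
    Sum.elim (fun _ => 1) (Sum.elim (fun _ => 𝕢) (fun _ => 𝕢 + 1)) l := by
  rcases l with α | α | ⟨s, hs⟩
  · refine Nat.cast_injective (R := ℂ) ?_
    rw [← irr_apply_one_eq_deg]
    simpa [ofLabel] using lin_one (F := F) α
  · refine Nat.cast_injective (R := ℂ) ?_
    rw [← irr_apply_one_eq_deg]
    simpa [ofLabel] using St_one (F := F) α
  · induction s using Sym2.ind with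
    | _ α β =>
      refine Nat.cast_injective (R := ℂ) ?_
      rw [← irr_apply_one_eq_deg, ofLabel_mk]
      simpa using PS_one α β

theorem ofLabel_injective : Function.Injective (ofLabel (F := F)) := by
  have hq := Fintype.one_lt_card (α := F)
  intro l l' h
  have hd := congrArg (fun c : Cfsg.IrrCharacter 𝔾 => deg (c : 𝔾 → ℂ)) h
  simp only [deg_ofLabel] at hd
  have e := congrArg Subtype.val h
  rcases l with α | α | ⟨s, hs⟩ <;> rcases l' with α' | α' | ⟨s', hs'⟩ <;> simp at hd <;> try omega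
  · rw [lin_inj (by exact e : lin α = (lin α' : 𝔾 → ℂ))]
  · rw [St_inj (by exact e : St α = (St α' : 𝔾 → ℂ))]
  · induction s using Sym2.ind with
    | _ α β =>
      induction s' using Sym2.ind with
      | _ α' β' =>
        rw [ofLabel_mk, ofLabel_mk] at e
        refine congrArg Sum.inr (congrArg Sum.inr (Subtype.ext ?_))
        rw [Sym2.eq_iff]
        exact (PS_eq_iff α β α' β').1 e

theorem mem_range_iff (χ : Cfsg.IrrCharacter 𝔾) : χ ∈ Set.range (ofLabel (F := F)) ↔ ¬ IsCusp (χ : 𝔾 → ℂ) := by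
  classical
  constructor
  · rintro ⟨l, rfl⟩ hc
    rcases l with α | α | ⟨s, hs⟩
    · have := hc α α
      rw [show (ofLabel (.inl α) : 𝔾 → ℂ) = lin α from rfl, classInner_PS_lin, if_pos ⟨rfl, rfl⟩] at this
      exact one_ne_zero this
    · have := hc α α
      rw [show (ofLabel (.inr (.inl α)) : 𝔾 → ℂ) = St α from rfl, classInner_PS_St, if_pos rfl] at this
      exact one_ne_zero this
    · induction s using Sym2.ind with
      | _ α β =>
        have := hc α β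
        rw [ofLabel_mk, classInner_irr_self ⟨PS α β, isIrr_PS (by simpa using hs)⟩] at this
        exact one_ne_zero this
  · intro hc
    rcases cases_irr χ.2 with ⟨α, e⟩ | ⟨α, e⟩ | ⟨α, β, hne, e⟩ | h
    · exact ⟨.inl α, Subtype.ext e.symm⟩
    · exact ⟨.inr (.inl α), Subtype.ext e.symm⟩
    · exact ⟨.inr (.inr ⟨s(α, β), by simpa using hne⟩), Subtype.ext ((ofLabel_mk _).trans e.symm)⟩
    · exact absurd h hc

theorem card_pairs : 2 * Nat.card {s : Sym2 (MulChar F ℂ) // ¬ s.IsDiag} = (𝕢 - 1) * (𝕢 - 2) := by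
  classical
  haveI : Fintype (MulChar F ℂ) := Fintype.ofFinite _
  rw [Nat.card_eq_fintype_card, Sym2.card_subtype_not_diag, ← Nat.card_eq_fintype_card, card_mulChar,
    Nat.choose_two_right, Nat.mul_div_cancel' (Nat.even_mul_pred_self _).two_dvd, Nat.sub_sub]

theorem card_group : Nat.card 𝔾 = (𝕢 ^ 2 - 1) * (𝕢 ^ 2 - 𝕢) := by
  rw [Matrix.card_GL_field]
  simp [Fin.prod_univ_two, Nat.card_eq_fintype_card]

theorem cusp_main : 2 * Nat.card {χ : Cfsg.IrrCharacter 𝔾 // IsCusp (χ : 𝔾 → ℂ)} = 𝕢 * (𝕢 - 1) ∧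
    ∀ χ : Cfsg.IrrCharacter 𝔾, IsCusp (χ : 𝔾 → ℂ) → deg (χ : 𝔾 → ℂ) = 𝕢 - 1 := by
  classical
  haveI : Fintype (MulChar F ℂ) := Fintype.ofFinite _
  let S : Finset (Cfsg.IrrCharacter 𝔾) := Finset.univ.image ofLabel
  have hS : ∀ χ, χ ∈ S ↔ ¬ IsCusp (χ : 𝔾 → ℂ) := fun χ => by
    simpa [S, Set.mem_range] using mem_range_iff χ
  have hSc : Sᶜ = Finset.univ.filter fun χ : Cfsg.IrrCharacter 𝔾 => IsCusp (χ : 𝔾 → ℂ) := by
    ext χ; simp [hS]
  have hk : ∀ χ ∈ Sᶜ, ∃ k : ℕ, 1 ≤ k ∧ deg (χ : 𝔾 → ℂ) = k * (𝕢 - 1) := by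
    intro χ hχ
    obtain ⟨k, hk, h1, -⟩ := cusp_deg_exists χ.2 (by simpa [hSc] using hχ)
    exact ⟨k, hk, Nat.cast_injective (R := ℂ) (by rw [← irr_apply_one_eq_deg, h1, Nat.cast_mul])⟩
  have hsumS : ∑ χ ∈ S, deg (χ : 𝔾 → ℂ) ^ 2 =
      (𝕢 - 1) + (𝕢 - 1) * 𝕢 ^ 2 + Nat.card {s : Sym2 (MulChar F ℂ) // ¬ s.IsDiag} * (𝕢 + 1) ^ 2 := by
    rw [Finset.sum_image fun l _ l' _ h => ofLabel_injective h, Fintype.sum_sum_type, Fintype.sum_sum_type]
    simp [deg_ofLabel, Finset.card_univ, ← Nat.card_eq_fintype_card, card_mulChar, add_assoc]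
  have hcardS : S.card = (𝕢 - 1) + (𝕢 - 1) + Nat.card {s : Sym2 (MulChar F ℂ) // ¬ s.IsDiag} := by
    rw [Finset.card_image_of_injective _ ofLabel_injective, Finset.card_univ, ← Nat.card_eq_fintype_card,
      Nat.card_sum, Nat.card_sum, card_mulChar, add_assoc]
  have hall := sum_deg_sq_nat (G := 𝔾)
  rw [← Finset.sum_add_sum_compl S, hsumS, card_group] at hall
  have hcl : Nat.card (Cfsg.IrrCharacter 𝔾) = 𝕢 ^ 2 - 1 := by rw [card_irrCharacter, card_classes_GL]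
  rw [Nat.card_eq_fintype_card, ← Finset.card_add_card_compl S, hcardS] at hcl
  have hP := card_pairs (F := F)
  have hq := Fintype.one_lt_card (α := F)
  have hlow : ∀ χ ∈ Sᶜ, (𝕢 - 1) ^ 2 ≤ deg (χ : 𝔾 → ℂ) ^ 2 := fun χ hχ => by
    obtain ⟨k, hk1, hk2⟩ := hk χ hχ
    rw [hk2]
    exact Nat.pow_le_pow_left (Nat.le_mul_of_pos_left _ hk1) 2
  generalize hP' : Nat.card {s : Sym2 (MulChar F ℂ) // ¬ s.IsDiag} = P at hP hall hcl
  obtain ⟨p, hp⟩ : ∃ p, 𝕢 = p + 2 := ⟨𝕢 - 2, by omega⟩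
  have e1 : 𝕢 - 1 = p + 1 := by omega
  have e2 : 𝕢 - 2 = p := by omega
  have e3 : 𝕢 ^ 2 - 1 = (p + 1) * (p + 3) := by rw [hp, show (p + 2) ^ 2 = (p + 1) * (p + 3) + 1 by ring]; omega
  have e4 : 𝕢 ^ 2 - 𝕢 = (p + 2) * (p + 1) := by rw [hp, show (p + 2) ^ 2 = (p + 2) * (p + 1) + (p + 2) by ring]; omega
  rw [e3, e4, e1, hp] at hall
  rw [e3, e1] at hcl
  rw [e1, e2] at hP
  rw [e1] at hlow
  have hcount : 2 * Sᶜ.card = (p + 2) * (p + 1) := by nlinarith
  have hsum : ∑ χ ∈ Sᶜ, deg (χ : 𝔾 → ℂ) ^ 2 = Sᶜ.card * (p + 1) ^ 2 := by nlinarith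
  refine ⟨?_, fun χ hχ => ?_⟩
  · rw [Nat.card_eq_fintype_card, Fintype.card_subtype, ← hSc, hcount, e1, hp]
  · have hmem : χ ∈ Sᶜ := by simp [hSc, hχ]
    have := (Finset.sum_eq_sum_iff_of_le hlow).1 (by rw [hsum, Finset.sum_const, smul_eq_mul]) χ hmem
    rw [e1]
    exact (Nat.pow_left_injective two_ne_zero this).symm

theorem cusp_deg (hχ : Cfsg.IsIrrCharacter 𝔾 χ) (hc : IsCusp χ) :
    χ 1 = (𝕢 : ℂ) - 1 ∧ χ (bG 1 1 (1 : F)) = -1 := by
  obtain ⟨k, hk, h1, h2⟩ := cusp_deg_exists hχ hc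
  have hd := cusp_main.2 ⟨χ, hχ⟩ hc
  have hq := Fintype.one_lt_card (α := F)
  have hk1 : k = 1 := by
    have : ((k * (𝕢 - 1) : ℕ) : ℂ) = ((𝕢 - 1 : ℕ) : ℂ) := by
      rw [Nat.cast_mul, ← h1, ← hd]
      exact irr_apply_one_eq_deg (⟨χ, hχ⟩ : Cfsg.IrrCharacter 𝔾)
    exact Nat.eq_of_mul_eq_mul_right (by omega) ((Nat.cast_injective this).trans (one_mul _).symm)
  subst hk1
  rw [h1, h2, Nat.cast_sub (by omega)]
  simp

end Cfsg.Lib.GLTwo.Ch
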