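import Cfsg.Agent.Known.SLTwo.Chars.SLTable

/-! Degrees and values of the irreducible characters of SL₂. -/

set_option autoImplicit false
set_option linter.unusedSectionVars false

open Matrix
open scoped ComplexConjugate MatrixGroups

namespace Cfsg.Lib.GLTwo.SCh

open Cfsg.Lib.CharTools Cfsg.Lib.Chars

variable {F : Type*} [Field F] [Fintype F] [DecidableEq F]

/-- The half series for the quadratic character. -/
def IsHalfPlus (ν : Fˣ) (η : SL(2, F) → ℂ) : Prop :=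
  η 1 = (((Fintype.card F + 1) / 2 : ℕ) : ℂ) ∧
    ∑ x : F, η (bS 1 x) = (Fintype.card F : ℂ) ∧
    η (bS 1 1) + η (bS 1 (ν : F)) = 1 ∧
    (η (bS 1 1) - η (bS 1 (ν : F))) ^ 2 = (-1 : ℂ) ^ ((Fintype.card F - 1) / 2) * (Fintype.card F : ℂ) ∧
    (∀ a : Fˣ, a ≠ a⁻¹ → η (bS a 0) = quad F a) ∧ ∀ g, Ell g → η g = 0

theorem exists_half_pair (hodd : Odd (Fintype.card F)) {ν : Fˣ} (hν : quadraticChar F (ν : F) = -1) :
    ∃ η₁ η₂ : Cfsg.IrrCharacter SL(2, F), η₁ ≠ η₂ ∧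
      (η₁ : SL(2, F) → ℂ) (bS 1 1) + (η₂ : SL(2, F) → ℂ) (bS 1 1) = 1 ∧
      IsHalfPlus ν (η₁ : SL(2, F) → ℂ) ∧ IsHalfPlus ν (η₂ : SL(2, F) → ℂ) ∧
      ∀ χ : Cfsg.IrrCharacter SL(2, F), Cfsg.classInner (PS (quad F)) (χ : SL(2, F) → ℂ) ≠ 0 → χ = η₁ ∨ χ = η₂ := by
  classical
  obtain ⟨η₁, η₂, i₁, i₂, hne, hadd, -, e12, hp⟩ := halves hodd hν
  refine ⟨⟨η₁, i₁⟩, ⟨η₂, i₂⟩, fun e => hne (congrArg Subtype.val e), ?_, hp η₁ (.inl rfl), hp η₂ (.inr rfl),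
    fun χ h => ?_⟩
  · show η₁ (bS 1 1) + η₂ (bS 1 1) = 1
    rw [← e12, twist_bS, mul_one]
    exact (hp η₁ (.inl rfl)).2.2.1
  · rw [hadd, classInner_add_left, classInner_irrChar i₁ χ.2, classInner_irrChar i₂ χ.2] at h
    split_ifs at h with ha hb hb
    · exact .inl (Subtype.ext ha.symm)
    · exact .inl (Subtype.ext ha.symm)
    · exact .inr (Subtype.ext hb.symm)
    · simp at h

/-- The irreducible characters of SL₂, odd `q`. -/
theorem kinds_odd (hodd : Odd (Fintype.card F)) {ν : Fˣ} (hν : quadraticChar F (ν : F) = -1)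
    {χ : SL(2, F) → ℂ} (hχ : Cfsg.IsIrrCharacter SL(2, F) χ) :
    (χ = fun _ => 1) ∨ χ = St ∨ (∃ α : MulChar F ℂ, α ≠ α⁻¹ ∧ χ = PS α) ∨ IsHalfPlus ν χ ∨
      (IsCusp χ ∧ χ 1 = ((Fintype.card F - 1 : ℕ) : ℂ) ∧ χ (bS 1 1) = -1 ∧ χ (bS 1 (ν : F)) = -1) ∨
      (IsCusp χ ∧ χ 1 = (((Fintype.card F - 1) / 2 : ℕ) : ℂ) ∧ χ (bS 1 1) + χ (bS 1 (ν : F)) = -1 ∧
        (χ (bS 1 1) - χ (bS 1 (ν : F))) ^ 2 = (-1 : ℂ) ^ ((Fintype.card F - 1) / 2) * (Fintype.card F : ℂ)) := by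
  rcases cases_irr hχ with h | h | h | ⟨-, h⟩ | h
  · exact .inl h
  · exact .inr (.inl h)
  · exact .inr (.inr (.inl h))
  · obtain ⟨η₁, η₂, -, -, h1, h2, hcov⟩ := exists_half_pair hodd hν
    rcases hcov ⟨χ, hχ⟩ h with e | e
    · exact .inr (.inr (.inr (.inl (by rw [show χ = (η₁ : SL(2, F) → ℂ) from congrArg Subtype.val e]; exact h1))))
    · exact .inr (.inr (.inr (.inl (by rw [show χ = (η₂ : SL(2, F) → ℂ) from congrArg Subtype.val e]; exact h2))))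
  · rcases (table_odd hodd hν).1 χ hχ h with h1 | h1
    · exact .inr (.inr (.inr (.inr (.inl ⟨h, h1⟩))))
    · exact .inr (.inr (.inr (.inr (.inr ⟨h, h1⟩))))

theorem odd_deg_ne {F : Type*} [Field F] [Fintype F] (hodd : Odd (Fintype.card F)) :
    ∃ h : ℕ, 1 ≤ h ∧ Fintype.card F = 2 * h + 1 ∧ (Fintype.card F - 1) / 2 = h ∧ (Fintype.card F + 1) / 2 = h + 1 ∧
      Fintype.card F - 1 = 2 * h := by
  obtain ⟨h, hh⟩ := hodd
  have := Fintype.one_lt_card (α := F)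
  exact ⟨h, by omega, hh, by omega, by omega, by omega⟩

omit [DecidableEq F] in
theorem cast_pred : ((Fintype.card F - 1 : ℕ) : ℂ) = (Fintype.card F : ℂ) - 1 := by
  rw [Nat.cast_sub Fintype.card_pos, Nat.cast_one]

theorem cast_eq_iff {a b : ℕ} : (a : ℂ) = (b : ℂ) ↔ a = b := Nat.cast_inj

/-- A cuspidal character is determined by its degree, odd `q`. -/
theorem deg_pred (hodd : Odd (Fintype.card F)) (hq : 5 ≤ Fintype.card F) {ν : Fˣ}
    (hν : quadraticChar F (ν : F) = -1) {χ : SL(2, F) → ℂ} (hχ : Cfsg.IsIrrCharacter SL(2, F) χ)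
    (hdeg : χ 1 = (Fintype.card F : ℂ) - 1) : IsCusp χ ∧ χ (bS 1 1) = -1 ∧ χ (bS 1 (ν : F)) = -1 := by
  obtain ⟨h, h1, hh, hh1, hh2, hh3⟩ := odd_deg_ne (F := F) hodd
  rw [← cast_pred] at hdeg
  rcases kinds_odd hodd hν hχ with e | e | ⟨α, -, e⟩ | e | e | e
  · rw [e, ← Nat.cast_one, cast_eq_iff] at hdeg; omega
  · rw [e, St_one, cast_eq_iff] at hdeg; omega
  · rw [e, PS_one, ← Nat.cast_add_one, cast_eq_iff] at hdeg; omega
  · rw [e.1, cast_eq_iff] at hdeg; omega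
  · exact ⟨e.1, e.2.2⟩
  · rw [e.2.1, cast_eq_iff] at hdeg; omega

theorem deg_half_minus (hodd : Odd (Fintype.card F)) (hq : 5 ≤ Fintype.card F) {ν : Fˣ}
    (hν : quadraticChar F (ν : F) = -1) {χ : SL(2, F) → ℂ} (hχ : Cfsg.IsIrrCharacter SL(2, F) χ)
    (hdeg : χ 1 = (((Fintype.card F - 1) / 2 : ℕ) : ℂ)) :
    IsCusp χ ∧ χ (bS 1 1) + χ (bS 1 (ν : F)) = -1 ∧
        (χ (bS 1 1) - χ (bS 1 (ν : F))) ^ 2 = (-1 : ℂ) ^ ((Fintype.card F - 1) / 2) * (Fintype.card F : ℂ) := by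
  obtain ⟨h, h1, hh, hh1, hh2, hh3⟩ := odd_deg_ne (F := F) hodd
  rcases kinds_odd hodd hν hχ with e | e | ⟨α, -, e⟩ | e | e | e
  · rw [e, ← Nat.cast_one, cast_eq_iff] at hdeg; omega
  · rw [e, St_one, cast_eq_iff] at hdeg; omega
  · rw [e, PS_one, ← Nat.cast_add_one, cast_eq_iff] at hdeg; omega
  · rw [e.1, cast_eq_iff] at hdeg; omega
  · rw [e.2.1, cast_eq_iff] at hdeg; omega
  · exact ⟨e.1, e.2.2⟩

theorem deg_half_plus (hodd : Odd (Fintype.card F)) (hq : 5 ≤ Fintype.card F) {ν : Fˣ}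
    (hν : quadraticChar F (ν : F) = -1) {χ : SL(2, F) → ℂ} (hχ : Cfsg.IsIrrCharacter SL(2, F) χ)
    (hdeg : χ 1 = (((Fintype.card F + 1) / 2 : ℕ) : ℂ)) : IsHalfPlus ν χ := by
  obtain ⟨h, h1, hh, hh1, hh2, hh3⟩ := odd_deg_ne (F := F) hodd
  rcases kinds_odd hodd hν hχ with e | e | ⟨α, -, e⟩ | e | e | e
  · rw [e, ← Nat.cast_one, cast_eq_iff] at hdeg; omega
  · rw [e, St_one, cast_eq_iff] at hdeg; omega
  · rw [e, PS_one, ← Nat.cast_add_one, cast_eq_iff] at hdeg; omega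
  · exact e
  · rw [e.2.1, cast_eq_iff] at hdeg; omega
  · rw [e.2.1, cast_eq_iff] at hdeg; omega

theorem even_of_two [CharP F 2] : Even (Fintype.card F) :=
  Nat.even_iff.2 (FiniteField.even_card_of_char_two (ringChar.eq F 2))

/-- Only the Steinberg character has degree `q`. -/
theorem eq_St {χ : SL(2, F) → ℂ} (hχ : Cfsg.IsIrrCharacter SL(2, F) χ) (hdeg : χ 1 = (Fintype.card F : ℂ)) :
    χ = St := by
  have hq := Fintype.one_lt_card (α := F)
  rcases Nat.even_or_odd (Fintype.card F) with he | ho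
  · rcases cases_irr hχ with e | e | ⟨α, -, e⟩ | ⟨ho, -⟩ | e
    · rw [e, ← Nat.cast_one, cast_eq_iff] at hdeg; omega
    · exact e
    · rw [e, PS_one, ← Nat.cast_add_one, cast_eq_iff] at hdeg; omega
    · exact absurd he (Nat.not_even_iff_odd.2 ho)
    · rw [((table_even he).1 χ hχ e).1, cast_eq_iff] at hdeg; omega
  · obtain ⟨ν, hν⟩ := exists_nonsquare_unit ho
    obtain ⟨h, h1, hh, hh1, hh2, hh3⟩ := odd_deg_ne (F := F) ho
    rcases kinds_odd ho hν hχ with e | e | ⟨α, -, e⟩ | e | e | e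
    · rw [e, ← Nat.cast_one, cast_eq_iff] at hdeg; omega
    · exact e
    · rw [e, PS_one, ← Nat.cast_add_one, cast_eq_iff] at hdeg; omega
    · rw [e.1, cast_eq_iff] at hdeg; omega
    · rw [e.2.1, cast_eq_iff] at hdeg; omega
    · rw [e.2.1, cast_eq_iff] at hdeg; omega

/-- Characters of degree `q + 1` are principal series. -/
theorem eq_PS {χ : SL(2, F) → ℂ} (hχ : Cfsg.IsIrrCharacter SL(2, F) χ)
    (hdeg : χ 1 = (Fintype.card F : ℂ) + 1) : ∃ α : MulChar F ℂ, α ≠ α⁻¹ ∧ χ = PS α := by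
  have hq := Fintype.one_lt_card (α := F)
  rcases Nat.even_or_odd (Fintype.card F) with he | ho
  · rcases cases_irr hχ with e | e | e | ⟨ho, -⟩ | e
    · rw [e, ← Nat.cast_add_one, ← Nat.cast_one, cast_eq_iff] at hdeg; omega
    · rw [e, St_one, ← Nat.cast_add_one, cast_eq_iff] at hdeg; omega
    · exact e
    · exact absurd he (Nat.not_even_iff_odd.2 ho)
    · rw [((table_even he).1 χ hχ e).1, ← Nat.cast_add_one, cast_eq_iff] at hdeg; omega
  · obtain ⟨ν, hν⟩ := exists_nonsquare_unit ho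
    obtain ⟨h, h1, hh, hh1, hh2, hh3⟩ := odd_deg_ne (F := F) ho
    rw [← Nat.cast_add_one] at hdeg
    rcases kinds_odd ho hν hχ with e | e | e | e | e | e
    · rw [e, ← Nat.cast_one, cast_eq_iff] at hdeg; omega
    · rw [e, St_one, cast_eq_iff] at hdeg; omega
    · exact e
    · rw [e.1, cast_eq_iff] at hdeg; omega
    · rw [e.2.1, cast_eq_iff] at hdeg; omega
    · rw [e.2.1, cast_eq_iff] at hdeg; omega

omit [Fintype F] [DecidableEq F] in
theorem eq_diag {g : SL(2, F)} (h01 : (g : Matrix (Fin 2) (Fin 2) F) 0 1 = 0)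
    (h10 : (g : Matrix (Fin 2) (Fin 2) F) 1 0 = 0) (h : (g : Matrix (Fin 2) (Fin 2) F) 0 0 ^ 2 ≠ 1) :
    ∃ a : Fˣ, a ≠ a⁻¹ ∧ g = bS a 0 ∧ (a : F) = (g : Matrix (Fin 2) (Fin 2) F) 0 0 := by
  obtain ⟨a, x, rfl⟩ := eq_bS h10
  obtain rfl : x = 0 := by simpa using h01
  refine ⟨a, fun e => h ?_, rfl, by simp⟩
  have e' : a * a = 1 := eq_inv_iff_mul_eq_one.1 e
  have := congrArg Units.val e'
  simpa [sq] using this

omit [DecidableEq F] in
theorem not_ell_bS (a : Fˣ) (x : F) : ¬ Ell (bS a x) := fun h =>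
  h (a : F) ![1, 0] (fun e => one_ne_zero (congrFun e 0))
    (by ext i; fin_cases i <;> simp [Matrix.mulVec, dotProduct, Fin.sum_univ_two])

/-- The values of the Steinberg character. -/
theorem steinberg_values {χ : SL(2, F) → ℂ} (hχ : Cfsg.IsIrrCharacter SL(2, F) χ)
    (hdeg : χ 1 = (Fintype.card F : ℂ)) (g : SL(2, F)) :
    ((g : Matrix (Fin 2) (Fin 2) F) 0 1 = 0 → (g : Matrix (Fin 2) (Fin 2) F) 1 0 = 0 →
      (g : Matrix (Fin 2) (Fin 2) F) 0 0 ^ 2 ≠ 1 → χ g = 1) ∧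
    (Ell g → χ g = -1) ∧
    ((g : Matrix (Fin 2) (Fin 2) F) 1 0 = 0 → (g : Matrix (Fin 2) (Fin 2) F) 0 0 = (g : Matrix (Fin 2) (Fin 2) F) 1 1 →
      (g : Matrix (Fin 2) (Fin 2) F) 0 1 ≠ 0 → χ g = 0) := by
  rw [eq_St hχ hdeg]
  refine ⟨fun h01 h10 h => ?_, fun h => ?_, fun h10 he h01 => ?_⟩
  · obtain ⟨a, ha, rfl, -⟩ := eq_diag h01 h10 h
    rw [St, Pi.sub_apply, PS_diag _ ha, MulChar.one_apply_coe, MulChar.one_apply_coe]
    ring
  · rw [St, Pi.sub_apply, PS_ell _ h, zero_sub]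
  · obtain ⟨a, x, rfl⟩ := eq_bS h10
    simp only [coe_bS, Matrix.of_apply, Matrix.cons_val', Matrix.cons_val_zero, Matrix.cons_val_one,
      Matrix.empty_val', Matrix.cons_val_fin_one] at he h01
    rw [St, Pi.sub_apply, PS_bS, MulChar.one_apply_coe]
    simp [← he, Ne.symm h01]

/-- The value at a transvection of the characters of degree `q ± 1`. -/
theorem value_unip (hq : 4 ≤ Fintype.card F) {χ : SL(2, F) → ℂ} (hχ : Cfsg.IsIrrCharacter SL(2, F) χ) :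
    (χ 1 = (Fintype.card F : ℂ) + 1 → χ (bS 1 1) = 1) ∧ (χ 1 = (Fintype.card F : ℂ) - 1 → χ (bS 1 1) = -1) := by
  refine ⟨fun h => ?_, fun h => ?_⟩
  · obtain ⟨α, -, rfl⟩ := eq_PS hχ h
    exact PS_bS_unip α one_ne_zero
  · rcases Nat.even_or_odd (Fintype.card F) with he | ho
    · rw [← cast_pred] at h
      rcases cases_irr hχ with e | e | ⟨α, -, e⟩ | ⟨ho, -⟩ | e
      · rw [e, ← Nat.cast_one, cast_eq_iff] at h; omega
      · rw [e, St_one, cast_eq_iff] at h; omega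
      · rw [e, PS_one, ← Nat.cast_add_one, cast_eq_iff] at h; omega
      · exact absurd he (Nat.not_even_iff_odd.2 ho)
      · exact ((table_even he).1 χ hχ e).2
    · obtain ⟨ν, hν⟩ := exists_nonsquare_unit ho
      obtain ⟨r, hr⟩ := id ho
      exact (deg_pred ho (by omega) hν hχ h).2.1

theorem isCusp_twist {χ : SL(2, F) → ℂ} (hχ : IsCusp χ) (ν : Fˣ) : IsCusp (fun g => χ (twist ν g)) := by
  intro α
  have h := classInner_comp_equiv (twist ν).toEquiv (PS α) χ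
  have h' : Cfsg.classInner (fun g => PS α (twist ν g)) (fun g => χ (twist ν g)) = Cfsg.classInner (PS α) χ := h
  rw [PS_twist] at h'
  exact h'.trans (hχ α)

/-- The two characters of degree `(q - 1)/2` are exchanged by the diagonal automorphism. -/
theorem half_minus_twist (hodd : Odd (Fintype.card F)) {ν : Fˣ} (hν : quadraticChar F (ν : F) = -1)
    {χ₁ χ₂ : Cfsg.IrrCharacter SL(2, F)} (hne : χ₁ ≠ χ₂)
    (hc₁ : IsCusp (χ₁ : SL(2, F) → ℂ)) (hc₂ : IsCusp (χ₂ : SL(2, F) → ℂ))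
    (h₁ : deg (χ₁ : SL(2, F) → ℂ) = (Fintype.card F - 1) / 2) (h₂ : deg (χ₂ : SL(2, F) → ℂ) = (Fintype.card F - 1) / 2)
    (hd : (χ₁ : SL(2, F) → ℂ) (bS 1 1) ≠ (χ₁ : SL(2, F) → ℂ) (bS 1 (ν : F))) (g : SL(2, F)) :
    (χ₂ : SL(2, F) → ℂ) g = (χ₁ : SL(2, F) → ℂ) (twist ν g) := by
  classical
  obtain ⟨-, hcard, -⟩ := table_odd hodd hν
  let χ₃ : Cfsg.IrrCharacter SL(2, F) :=
    ⟨fun g => (χ₁ : SL(2, F) → ℂ) (twist ν g), IsIrrCharacter.comp_mulEquiv χ₁.2 (twist ν)⟩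
  have h13 : χ₁ ≠ χ₃ := fun e => hd <| by
    have e' := congrFun (congrArg Subtype.val e) (bS 1 1)
    rw [show ((χ₃ : SL(2, F) → ℂ)) (bS 1 1) = (χ₁ : SL(2, F) → ℂ) (twist ν (bS 1 1)) from rfl, twist_bS, mul_one]
      at e'
    exact e'
  have hc₃ : IsCusp (χ₃ : SL(2, F) → ℂ) := isCusp_twist hc₁ ν
  have h₃ : deg (χ₃ : SL(2, F) → ℂ) = (Fintype.card F - 1) / 2 := by
    refine Nat.cast_injective (R := ℂ) ?_
    rw [← irr_apply_one_eq_deg, ← h₁, ← irr_apply_one_eq_deg]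
    show (χ₁ : SL(2, F) → ℂ) (twist ν 1) = _
    rw [map_one]
  suffices χ₂ = χ₃ by rw [this]
  by_contra h23
  rw [Nat.card_eq_fintype_card, Fintype.card_subtype] at hcard
  have hle := Finset.card_le_card (s := {χ₁, χ₂, χ₃}) (t := Finset.univ.filter fun χ : Cfsg.IrrCharacter SL(2, F) =>
    IsCusp (χ : SL(2, F) → ℂ) ∧ deg (χ : SL(2, F) → ℂ) = (Fintype.card F - 1) / 2) (by
      intro χ hχ
      simp only [Finset.mem_insert, Finset.mem_singleton] at hχ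
      simp only [Finset.mem_filter, Finset.mem_univ, true_and]
      rcases hχ with rfl | rfl | rfl
      · exact ⟨hc₁, h₁⟩
      · exact ⟨hc₂, h₂⟩
      · exact ⟨hc₃, h₃⟩)
  rw [hcard, Finset.card_insert_of_notMem (by simp [hne, h13]), Finset.card_pair h23] at hle
  omega

/-- Vanishing of the characters of degree `2` at elliptic elements for three elements. -/
theorem ell_three (h3 : Fintype.card F = 3) {χ : Cfsg.IrrCharacter SL(2, F)}
    (hc : IsCusp (χ : SL(2, F) → ℂ)) (hd : deg (χ : SL(2, F) → ℂ) = 2) {g : SL(2, F)} (hg : Ell g) :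
    (χ : SL(2, F) → ℂ) g = 0 := by
  classical
  have hodd : Odd (Fintype.card F) := by rw [h3]; decide
  obtain ⟨ν, hν⟩ := exists_nonsquare_unit hodd
  obtain ⟨-, hcard, -⟩ := table_odd hodd hν
  rw [Nat.card_eq_fintype_card, Fintype.card_subtype, h3] at hcard
  obtain ⟨ζ₁, ζ₂, hne, hζ⟩ := Finset.card_eq_two.1 hcard
  have hmem : ∀ ζ, ζ = ζ₁ ∨ ζ = ζ₂ → IsCusp (ζ : SL(2, F) → ℂ) ∧ deg (ζ : SL(2, F) → ℂ) = 1 := by
    intro ζ h
    have : ζ ∈ ({ζ₁, ζ₂} : Finset _) := by simpa using h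
    rw [← hζ] at this
    simpa using this
  have hn : ∀ ζ, ζ = ζ₁ ∨ ζ = ζ₂ → ‖(ζ : SL(2, F) → ℂ) g‖ ^ 2 = 1 := by
    intro ζ h
    obtain ⟨f, hf⟩ := exists_hom_of_deg_one (isCharacter_of_irr ζ.2)
      (by rw [irr_apply_one_eq_deg, (hmem ζ h).2, Nat.cast_one])
    rw [hf, Complex.norm_eq_one_of_pow_eq_one (n := Nat.card SL(2, F)) _ Nat.card_pos.ne', one_pow]
    show ((f g : ℂˣ) : ℂ) ^ Nat.card SL(2, F) = 1
    rw [← Units.val_pow_eq_pow_val, ← map_pow, pow_card_eq_one', map_one, Units.val_one]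
  let one' : Cfsg.IrrCharacter SL(2, F) := ⟨fun _ => 1, isIrrCharacter_one⟩
  let st' : Cfsg.IrrCharacter SL(2, F) := ⟨St, isIrr_St⟩
  have hd1 : deg ((one' : SL(2, F) → ℂ)) = 1 := Nat.cast_injective (R := ℂ) (by rw [← irr_apply_one_eq_deg]; simp [one'])
  have hdst : deg ((st' : SL(2, F) → ℂ)) = 3 :=
    Nat.cast_injective (R := ℂ) (by rw [← irr_apply_one_eq_deg, ← h3]; exact St_one)
  have hoc : ¬ IsCusp ((one' : SL(2, F) → ℂ)) := fun h => by
    have := h 1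
    rw [show ((one' : SL(2, F) → ℂ)) = fun _ => 1 from rfl, classInner_PS_one, if_pos rfl] at this
    exact one_ne_zero this
  have hcent : Nat.card ↥(Subgroup.centralizer ({g} : Set SL(2, F))) = 4 := by
    obtain ⟨hns, hi⟩ := irred_of_no_eigen hg
    rw [card_centSL hns, card_one_irred hi, h3]
  have hsum := sum_norm_sq_irr g
  rw [hcent] at hsum
  have hle : ∑ ψ ∈ ({χ, one', st', ζ₁, ζ₂} : Finset (Cfsg.IrrCharacter SL(2, F))),
      ‖(ψ : SL(2, F) → ℂ) g‖ ^ 2 ≤ (4 : ℝ) := by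
    push_cast at hsum
    rw [← hsum]
    exact Finset.sum_le_sum_of_subset_of_nonneg (Finset.subset_univ _) fun _ _ _ => by positivity
  have d1 := (hmem ζ₁ (.inl rfl))
  have d2 := (hmem ζ₂ (.inr rfl))
  have n1 : χ ∉ ({one', st', ζ₁, ζ₂} : Finset (Cfsg.IrrCharacter SL(2, F))) := by
    simp only [Finset.mem_insert, Finset.mem_singleton, not_or]
    refine ⟨?_, ?_, ?_, ?_⟩ <;> rintro rfl <;> omega
  have n2 : one' ∉ ({st', ζ₁, ζ₂} : Finset (Cfsg.IrrCharacter SL(2, F))) := by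
    simp only [Finset.mem_insert, Finset.mem_singleton, not_or]
    exact ⟨fun e => by rw [e] at hd1; omega, fun e => hoc (e ▸ d1.1), fun e => hoc (e ▸ d2.1)⟩
  have n3 : st' ∉ ({ζ₁, ζ₂} : Finset (Cfsg.IrrCharacter SL(2, F))) := by
    simp only [Finset.mem_insert, Finset.mem_singleton, not_or]
    exact ⟨fun e => by rw [e] at hdst; omega, fun e => by rw [e] at hdst; omega⟩
  rw [Finset.sum_insert n1, Finset.sum_insert n2, Finset.sum_insert n3, Finset.sum_pair hne,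
    hn ζ₁ (.inl rfl), hn ζ₂ (.inr rfl), show ((one' : SL(2, F) → ℂ)) g = 1 from rfl,
    show ((st' : SL(2, F) → ℂ)) g = -1 by show St g = -1; rw [St, Pi.sub_apply, PS_ell _ hg, zero_sub]] at hle
  simp only [norm_one, norm_neg, one_pow] at hle
  have h0 := sq_nonneg ‖(χ : SL(2, F) → ℂ) g‖
  exact norm_eq_zero.1 ((pow_eq_zero_iff two_ne_zero).1 (le_antisymm (by linarith) h0))

/-- The zeros of the series, odd `q`. -/
theorem zeros (hodd : Odd (Fintype.card F)) {χ : SL(2, F) → ℂ} (hχ : Cfsg.IsIrrCharacter SL(2, F) χ) (g : SL(2, F)) :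
    ((χ 1 = (Fintype.card F : ℂ) - 1 ∨ χ 1 = (((Fintype.card F - 1) / 2 : ℕ) : ℂ)) →
      (g : Matrix (Fin 2) (Fin 2) F) 0 1 = 0 → (g : Matrix (Fin 2) (Fin 2) F) 1 0 = 0 →
      (g : Matrix (Fin 2) (Fin 2) F) 0 0 ^ 2 ≠ 1 → χ g = 0) ∧
    ((χ 1 = (Fintype.card F : ℂ) + 1 ∨ χ 1 = (((Fintype.card F + 1) / 2 : ℕ) : ℂ)) → Ell g → χ g = 0) := by
  obtain ⟨ν, hν⟩ := exists_nonsquare_unit hodd
  obtain ⟨h, h1, hh, hh1, hh2, hh3⟩ := odd_deg_ne (F := F) hodd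
  refine ⟨fun hd h01 h10 h00 => ?_, fun hd hg => ?_⟩
  · obtain ⟨a, ha, rfl, -⟩ := eq_diag h01 h10 h00
    by_cases h5 : 5 ≤ Fintype.card F
    · rcases hd with hd | hd
      · exact cusp_diag hχ (deg_pred hodd h5 hν hχ hd).1 ha
      · exact cusp_diag hχ (deg_half_minus hodd h5 hν hχ hd).1 ha
    · exfalso
      refine h00 ?_
      have := FiniteField.pow_card_sub_one_eq_one (a : F) a.ne_zero
      rw [show Fintype.card F - 1 = 2 by omega] at this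
      simpa using this
  · rcases hd with hd | hd
    · obtain ⟨α, -, rfl⟩ := eq_PS hχ hd
      exact PS_ell α hg
    · rcases kinds_odd hodd hν hχ with e | e | ⟨α, -, e⟩ | e | e | e
      · rw [e, ← Nat.cast_one, cast_eq_iff] at hd; omega
      · rw [e, St_one, cast_eq_iff] at hd; omega
      · rw [e]; exact PS_ell α hg
      · exact e.2.2.2.2.2 g hg
      · rw [e.2.1, cast_eq_iff] at hd
        refine ell_three (χ := ⟨χ, hχ⟩) (by omega) e.1 (Nat.cast_injective (R := ℂ) ?_) hg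
        rw [← irr_apply_one_eq_deg]
        exact e.2.1.trans (by rw [show Fintype.card F - 1 = 2 by omega])
      · rw [e.2.1, cast_eq_iff] at hd; omega

end Cfsg.Lib.GLTwo.SCh
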