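import Cfsg.Agent.Known.SLTwo.GL
import Cfsg.Agent.Known.SLTwo.SL
import Cfsg.Agent.Known.SLTwo.Chars.Tools

/-! The principal series of SL₂. -/

set_option autoImplicit false
set_option linter.unusedSectionVars false

open Matrix
open scoped ComplexConjugate MatrixGroups

namespace Cfsg.Lib.GLTwo.SCh

open Cfsg.Lib.CharTools Cfsg.Lib.Chars

variable {F : Type*} [Field F]

/-- An upper triangular element of SL₂. -/
def bS (a : Fˣ) (x : F) : SL(2, F) :=
  ⟨!![(a : F), x; 0, ((a⁻¹ : Fˣ) : F)], by simp [Matrix.det_fin_two]⟩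

@[simp] theorem coe_bS (a : Fˣ) (x : F) :
    ((bS a x : SL(2, F)) : Matrix (Fin 2) (Fin 2) F) = !![(a : F), x; 0, ((a⁻¹ : Fˣ) : F)] := rfl

theorem bS_mul (a a' : Fˣ) (x x' : F) :
    bS a x * bS a' x' = bS (a * a') ((a : F) * x' + x * ((a'⁻¹ : Fˣ) : F)) := by
  refine Subtype.ext ?_
  simp only [Matrix.SpecialLinearGroup.coe_mul, coe_bS]
  ext i j; fin_cases i <;> fin_cases j <;> simp [Matrix.mul_apply, Fin.sum_univ_two, mul_comm]

theorem bS_one : bS (1 : Fˣ) (0 : F) = 1 := by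
  refine Subtype.ext ?_
  simp only [coe_bS, Matrix.SpecialLinearGroup.coe_one]
  ext i j; fin_cases i <;> fin_cases j <;> simp

/-- The unipotent upper triangular group. -/
def uS : Multiplicative F →* SL(2, F) where
  toFun x := bS 1 x.toAdd
  map_one' := bS_one
  map_mul' x y := by rw [bS_mul]; simp [add_comm]

theorem uS_apply (x : F) : uS (Multiplicative.ofAdd x) = bS 1 x := rfl

theorem bS_mem (a : Fˣ) (x : F) : bS a x ∈ borel F := (mem_borelSL _).2 (by simp)

theorem eq_bS {g : SL(2, F)} (h : (g : Matrix (Fin 2) (Fin 2) F) 1 0 = 0) : ∃ a x, g = bS a x := by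
  have hd := g.2
  rw [Matrix.det_fin_two, h, mul_zero, sub_zero] at hd
  refine ⟨Units.mk0 _ (left_ne_zero_of_mul_eq_one hd), (g : Matrix (Fin 2) (Fin 2) F) 0 1, Subtype.ext ?_⟩
  rw [coe_bS]
  ext i j; fin_cases i <;> fin_cases j <;> simp [h]
  exact eq_inv_of_mul_eq_one_right hd

/-- The parametrization of the Borel subgroup of SL₂. -/
def borelMapS (p : Fˣ × F) : ↥(borel F) := ⟨bS p.1 p.2, bS_mem _ _⟩

theorem borelMapS_bijective : Function.Bijective (borelMapS (F := F)) := by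
  constructor
  · rintro ⟨a, x⟩ ⟨a', x'⟩ h
    have e := congrArg (fun z : ↥(borel F) => ((z : SL(2, F)) : Matrix (Fin 2) (Fin 2) F)) h
    simp only [borelMapS, coe_bS] at e
    have e00 := congrFun (congrFun e 0) 0
    have e01 := congrFun (congrFun e 0) 1
    simp at e00 e01
    rw [Units.ext e00, e01]
  · rintro ⟨g, hg⟩
    obtain ⟨a, x, rfl⟩ := eq_bS ((mem_borelSL g).1 hg)
    exact ⟨(a, x), rfl⟩

variable [Fintype F] [DecidableEq F]

theorem card_borelS : Nat.card ↥(borel F) = (Fintype.card F - 1) * Fintype.card F := by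
  rw [← Nat.card_congr (Equiv.ofBijective _ (borelMapS_bijective (F := F))), Nat.card_prod, Nat.card_units,
    Nat.card_eq_fintype_card]

/-- The function inducing the principal series. -/
noncomputable abbrev chS (α : MulChar F ℂ) : ↥(borel F) → ℂ :=
  fun b => α (((b : SL(2, F)) : Matrix (Fin 2) (Fin 2) F) 0 0)

theorem chS_borelMapS (α : MulChar F ℂ) (p : Fˣ × F) : chS α (borelMapS p) = α p.1 := rfl

theorem chS_mul (α : MulChar F ℂ) (b c : ↥(borel F)) : chS α (b * c) = chS α b * chS α c := by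
  obtain ⟨p, rfl⟩ := borelMapS_bijective.2 b
  obtain ⟨r, rfl⟩ := borelMapS_bijective.2 c
  have e : borelMapS p * borelMapS r = borelMapS (p.1 * r.1, (p.1 : F) * r.2 + p.2 * ((r.1⁻¹ : Fˣ) : F)) :=
    Subtype.ext (bS_mul _ _ _ _)
  rw [e, chS_borelMapS, chS_borelMapS, chS_borelMapS, Units.val_mul, map_mul]

theorem chS_one (α : MulChar F ℂ) : chS α 1 = 1 := by simp [chS]

/-- The same, as a linear character. -/
noncomputable def chHomS (α : MulChar F ℂ) : ↥(borel F) →* ℂˣ :=
  MonoidHom.toHomUnits { toFun := chS α, map_one' := chS_one α, map_mul' := chS_mul α }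

/-- The principal series. -/
noncomputable abbrev PS (α : MulChar F ℂ) : SL(2, F) → ℂ := Cfsg.indFun (borel F) (chS α)

theorem isCharacter_chS (α : MulChar F ℂ) : Cfsg.IsCharacter ↥(borel F) (chS α) := by
  have := isCharacter_linear (chHomS α)
  exact this

theorem isCharacter_PS (α : MulChar F ℂ) : Cfsg.IsCharacter SL(2, F) (PS α) :=
  IsCharacter.indFun (isCharacter_chS α)

theorem isClassFunction_PS (α : MulChar F ℂ) : Cfsg.IsClassFunction SL(2, F) (PS α) :=
  isClassFunction_indFun _ _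

theorem PS_eq_sum (α : MulChar F ℂ) (g : SL(2, F)) :
    PS α g = ∑ o : Option F, if (colAt (g : Matrix (Fin 2) (Fin 2) F) o).2 = 0
      then α (colAt (g : Matrix (Fin 2) (Fin 2) F) o).1 else 0 := by
  classical
  exact indFun_eq α.toMonoidHom g

theorem colAt_bS (a : Fˣ) (x c : F) :
    colAt ((bS a x : SL(2, F)) : Matrix (Fin 2) (Fin 2) F) (some c) =
      (((a⁻¹ : Fˣ) : F), c * (((a⁻¹ : Fˣ) : F) - a) - x) := by
  simp [colAt]; ring

theorem PS_bS (α : MulChar F ℂ) (a : Fˣ) (x : F) :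
    PS α (bS a x) = α a +
      ((Finset.univ.filter fun c : F => c * (((a⁻¹ : Fˣ) : F) - a) = x).card : ℂ) * α ((a⁻¹ : Fˣ) : F) := by
  rw [PS_eq_sum, Fintype.sum_option]
  congr 1
  · simp [colAt]
  · simp only [colAt_bS, sub_eq_zero]
    rw [← Finset.sum_filter, Finset.sum_const, nsmul_eq_mul]

theorem sum_PS_bS (α : MulChar F ℂ) (a : Fˣ) :
    ∑ x : F, PS α (bS a x) = (Fintype.card F : ℂ) * (α a + α ((a⁻¹ : Fˣ) : F)) := by
  simp only [PS_bS, Finset.sum_add_distrib, Finset.sum_const, Finset.card_univ, nsmul_eq_mul, ← Finset.sum_mul]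
  rw [← Nat.cast_sum, ← Finset.card_eq_sum_card_fiberwise (f := fun c : F => c * (((a⁻¹ : Fˣ) : F) - a)) (t := Finset.univ)
    (fun c _ => Finset.mem_univ _), Finset.card_univ, mul_add]

theorem PS_one (α : MulChar F ℂ) : PS α 1 = (Fintype.card F : ℂ) + 1 := by
  rw [← bS_one, PS_bS]
  simp [add_comm]

theorem PS_ell (α : MulChar F ℂ) {g : SL(2, F)}
    (h : ∀ (c : F) (v : Fin 2 → F), v ≠ 0 → (g : Matrix (Fin 2) (Fin 2) F).mulVec v ≠ c • v) : PS α g = 0 := by
  rw [PS_eq_sum]
  refine Finset.sum_eq_zero fun o _ => if_neg fun e => ?_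
  rcases o with _ | c
  · refine h ((g : Matrix (Fin 2) (Fin 2) F) 0 0) ![1, 0] (fun e' => one_ne_zero (congrFun e' 0)) ?_
    ext i; fin_cases i <;> simp [Matrix.mulVec, dotProduct, Fin.sum_univ_two]
    simpa [colAt] using e
  · simp only [colAt] at e
    refine h ((g : Matrix (Fin 2) (Fin 2) F) 1 0 * c + (g : Matrix (Fin 2) (Fin 2) F) 1 1) ![c, 1]
      (fun e' => one_ne_zero (congrFun e' 1)) ?_
    ext i; fin_cases i <;> simp [Matrix.mulVec, dotProduct, Fin.sum_univ_two]
    linear_combination -e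

theorem classInner_PS_fun (α : MulChar F ℂ) {f : SL(2, F) → ℂ} (hf : Cfsg.IsClassFunction SL(2, F) f) :
    Cfsg.classInner (PS α) f = (Nat.card ↥(borel F) : ℂ)⁻¹ * ∑ a : Fˣ, α a * conj (∑ x : F, f (bS a x)) := by
  classical
  rw [frobenius_reciprocity _ _ hf, classInner_def]
  congr 1
  rw [← Equiv.sum_comp (Equiv.ofBijective _ (borelMapS_bijective (F := F))), Fintype.sum_prod_type]
  refine Finset.sum_congr rfl fun a _ => ?_
  rw [map_sum, Finset.mul_sum]
  refine Finset.sum_congr rfl fun x _ => ?_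
  rw [Equiv.ofBijective_apply, chS_borelMapS]
  rfl

open scoped _root_.Classical in
theorem classInner_PS (α β : MulChar F ℂ) :
    Cfsg.classInner (PS α) (PS β) = (if α = β then 1 else 0) + (if α = β⁻¹ then 1 else 0) := by
  rw [classInner_PS_fun α (isClassFunction_PS β)]
  simp only [sum_PS_bS, map_mul, map_add, Complex.conj_natCast]
  have e : ∀ a : Fˣ, α a * ((Fintype.card F : ℂ) * (conj (β a) + conj (β ((a⁻¹ : Fˣ) : F)))) =
      (Fintype.card F : ℂ) * (α a * conj (β a) + α a * conj (β⁻¹ a)) := fun a => by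
    rw [MulChar.inv_apply' β (a : F), Units.val_inv_eq_inv_val]; ring
  simp only [e, ← Finset.mul_sum, Finset.sum_add_distrib, sum_mul_conj, card_borelS]
  have hq := Fintype.one_lt_card (α := F)
  have h1 : ((Fintype.card F - 1 : ℕ) : ℂ) ≠ 0 := Nat.cast_ne_zero.2 (by omega)
  have h0 : (Fintype.card F : ℂ) ≠ 0 := Nat.cast_ne_zero.2 (by omega)
  push_cast
  split_ifs <;> field_simp <;> ring

theorem sq_eq_one_iff (α : MulChar F ℂ) : α ^ 2 = 1 ↔ α = α⁻¹ := by
  rw [sq, eq_inv_iff_mul_eq_one]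

theorem isIrr_PS {α : MulChar F ℂ} (h : α ≠ α⁻¹) : Cfsg.IsIrrCharacter SL(2, F) (PS α) := by
  classical
  refine isIrrCharacter_of_norm_one (isCharacter_PS α) ?_
  rw [classInner_PS, if_pos rfl, if_neg h, add_zero]

theorem isIrr_PS_iff (α : MulChar F ℂ) : Cfsg.IsIrrCharacter SL(2, F) (PS α) ↔ α ^ 2 ≠ 1 := by
  classical
  rw [Ne, sq_eq_one_iff]
  refine ⟨fun h e => ?_, isIrr_PS⟩
  have := classInner_self_irr h
  rw [classInner_PS, if_pos rfl, if_pos e] at this
  norm_num at this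

theorem PS_inv (α : MulChar F ℂ) : PS α⁻¹ = PS α := by
  classical
  have key : Cfsg.classInner (PS α⁻¹ - PS α) (PS α⁻¹ - PS α) = 0 := by
    rw [classInner_sub_left, classInner_sub_right, classInner_sub_right, classInner_PS, classInner_PS,
      classInner_PS, classInner_PS, inv_inv]
    by_cases h : α = α⁻¹
    · simp [← h]
    · simp [h, Ne.symm h]
  exact sub_eq_zero.1 ((classInner_self_eq_zero _).1 key)

end Cfsg.Lib.GLTwo.SCh
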