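import Cfsg.Agent.Known.SLTwo.Chars.SLHalves

/-! The character degrees of SL₂. -/

set_option autoImplicit false
set_option linter.unusedSectionVars false

open Matrix
open scoped ComplexConjugate MatrixGroups

namespace Cfsg.Lib.GLTwo.SCh

open Cfsg.Lib.CharTools Cfsg.Lib.Chars

variable {F : Type*} [Field F] [Fintype F] [DecidableEq F]

/-- The characters orthogonal to all principal series. -/
def IsCusp (χ : SL(2, F) → ℂ) : Prop := ∀ α : MulChar F ℂ, Cfsg.classInner (PS α) χ = 0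

theorem even_quad_trivial (heven : Even (Fintype.card F)) {α : MulChar F ℂ} (h : α ^ 2 = 1) : α = 1 := by
  haveI : Fintype (MulChar F ℂ) := Fintype.ofFinite _
  obtain ⟨r, hr⟩ := heven
  have hq := Fintype.one_lt_card (α := F)
  have hpow : α ^ (Fintype.card F - 1) = 1 := by
    rw [← card_mulChar (F := F)]
    exact pow_card_eq_one'
  rw [show Fintype.card F - 1 = 2 * (r - 1) + 1 by omega, pow_succ, pow_mul, h, one_pow, one_mul] at hpow
  exact hpow

theorem cases_irr {χ : SL(2, F) → ℂ} (hχ : Cfsg.IsIrrCharacter SL(2, F) χ) :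
    (χ = fun _ => 1) ∨ χ = St ∨ (∃ α : MulChar F ℂ, α ≠ α⁻¹ ∧ χ = PS α) ∨
      (Odd (Fintype.card F) ∧ Cfsg.classInner (PS (quad F)) χ ≠ 0) ∨ IsCusp χ := by
  classical
  by_contra hne
  push Not at hne
  obtain ⟨h1, h2, h3, h4, h5⟩ := hne
  refine h5 fun α => ?_
  by_cases hα : α = 1
  · subst hα
    rw [show PS (1 : MulChar F ℂ) = St + (fun _ => 1) by simp [St], classInner_add_left,
      classInner_irrChar isIrr_St hχ, classInner_irrChar isIrrCharacter_one hχ, if_neg h2.symm, if_neg h1.symm,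
      add_zero]
  by_cases h : α = α⁻¹
  · rcases Nat.even_or_odd (Fintype.card F) with he | ho
    · exact absurd (even_quad_trivial he ((sq_eq_one_iff α).2 h)) hα
    · rw [eq_quad ho ((sq_eq_one_iff α).2 h) hα]
      exact h4 ho
  · rw [classInner_irrChar (isIrr_PS h) hχ, if_neg fun e => h3 α h e.symm]

theorem not_cusp_of_inner {χ : SL(2, F) → ℂ} (α : MulChar F ℂ) (h : Cfsg.classInner (PS α) χ ≠ 0) :
    ¬ IsCusp χ := fun hc => h (hc α)

theorem cusp_sum_one {χ : SL(2, F) → ℂ} (hχ : Cfsg.IsIrrCharacter SL(2, F) χ) (hc : IsCusp χ) :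
    ∑ x : F, χ (bS 1 x) = 0 := by
  classical
  haveI : Fintype (MulChar F ℂ) := Fintype.ofFinite _
  have hB : (Nat.card ↥(borel F) : ℂ) ≠ 0 := by exact_mod_cast Nat.card_pos.ne'
  have h : ∑ α : MulChar F ℂ, ∑ a : Fˣ, α a * conj (∑ x : F, χ (bS a x)) = 0 := by
    refine Finset.sum_eq_zero fun α _ => ?_
    have := hc α
    rw [classInner_PS_fun α (isClassFunction_isChar (isCharacter_of_irr hχ))] at this
    exact (mul_eq_zero.1 this).resolve_left (inv_ne_zero hB)
  rw [Finset.sum_comm] at h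
  simp only [← Finset.sum_mul, sum_over_chars, ite_mul, zero_mul, Finset.sum_ite_eq', Finset.mem_univ, if_true] at h
  have hq := Fintype.one_lt_card (α := F)
  have h1 : ((Fintype.card F - 1 : ℕ) : ℂ) ≠ 0 := Nat.cast_ne_zero.2 (by omega)
  simpa [h1, ← map_sum] using h

theorem sum_regular {f : SL(2, F) → ℂ} (hf : Cfsg.IsClassFunction SL(2, F) f) {a : Fˣ} (h : a ≠ a⁻¹) :
    ∑ x : F, f (bS a x) = (Fintype.card F : ℂ) * f (bS a 0) := by
  rw [Finset.sum_congr rfl fun x _ => (classFunction_eq_of_isConj hf (isConj_bS_regular h x)).symm]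
  simp

theorem cusp_diag {χ : SL(2, F) → ℂ} (hχ : Cfsg.IsIrrCharacter SL(2, F) χ) (hc : IsCusp χ) {a : Fˣ}
    (h : a ≠ a⁻¹) : χ (bS a 0) = 0 := by
  have e := sums_zero (isCharacter_of_irr hχ) (cusp_sum_one hχ hc) a
  rw [sum_regular (isClassFunction_isChar (isCharacter_of_irr hχ)) h] at e
  exact (mul_eq_zero.1 e).resolve_left (Nat.cast_ne_zero.2 Fintype.card_ne_zero)

/-- The parameters of a cuspidal character, odd `q`. -/
theorem cusp_params (hodd : Odd (Fintype.card F)) {ν : Fˣ} (hν : quadraticChar F (ν : F) = -1)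
    {χ : SL(2, F) → ℂ} (hχ : Cfsg.IsIrrCharacter SL(2, F) χ) (hc : IsCusp χ) :
    ∃ m j : ℕ, 1 ≤ m ∧ j ≤ m ∧ j % 2 = m % 2 ∧ χ 1 = ((Fintype.card F - 1) / 2 : ℕ) * (m : ℂ) ∧
      χ (bS 1 1) + χ (bS 1 (ν : F)) = -(m : ℂ) ∧
      (χ (bS 1 1) - χ (bS 1 (ν : F))) ^ 2 =
        (-1 : ℂ) ^ ((Fintype.card F - 1) / 2) * (Fintype.card F : ℂ) * (j : ℂ) ^ 2 := by
  obtain ⟨a, k, k', h1, h2, h3, h4⟩ := unip_data hodd (isCharacter_of_irr hχ) hν
  rw [cusp_sum_one hχ hc] at h1
  obtain rfl : a = 0 := by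
    rcases mul_eq_zero.1 h1.symm with h | h
    · exact absurd h (Nat.cast_ne_zero.2 Fintype.card_ne_zero)
    · exact_mod_cast h
  simp only [Nat.cast_zero, mul_zero, zero_add, zero_sub] at h2 h3
  refine ⟨k + k', max k k' - min k k', ?_, by omega, by omega, by push_cast; exact h2, by push_cast; exact h3, ?_⟩
  · by_contra hm
    obtain ⟨rfl, rfl⟩ : k = 0 ∧ k' = 0 := by omega
    exact IsIrrCharacter.apply_one_ne_zero hχ (by simpa using h2)
  · rw [h4]
    rcases le_total k k' with h | h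
    · rw [max_eq_right h, min_eq_left h, Nat.cast_sub h]; ring
    · rw [max_eq_left h, min_eq_right h, Nat.cast_sub h]

theorem isConj_bS_iff {ν : Fˣ} (hν : quadraticChar F (ν : F) = -1) : ¬ IsConj (bS 1 (1 : F)) (bS 1 (ν : F)) := by
  intro h
  have e : ∀ x : F, bS 1 x = upper (⟨1, mul_one 1⟩ : {r : F // r * r = 1}) x := fun x => Subtype.ext (by simp)
  rw [e, e] at h
  obtain ⟨s, -, hs⟩ := (isConj_upper_iff _ one_ne_zero).1 h
  exact not_isSquare_of hν ⟨s, by rw [hs, one_mul]⟩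

theorem card_cent_unip (hodd : Odd (Fintype.card F)) {x : F} (hx : x ≠ 0) :
    Nat.card ↥(Subgroup.centralizer ({bS 1 x} : Set SL(2, F))) = 2 * Fintype.card F := by
  rw [card_centSL (fun h => hx (by simpa using h.1)), card_one_double (r := 1) (by simp [Matrix.trace_fin_two])
    (mul_one 1).symm, card_sq_one (two_ne_zero_of_odd hodd)]

theorem gap_mul_conj (q : ℕ) (j : ℕ) (e : ℕ) {d : ℂ} (h : d ^ 2 = (-1 : ℂ) ^ e * (q : ℂ) * (j : ℂ) ^ 2) :
    d * conj d = (q : ℂ) * (j : ℂ) ^ 2 := by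
  have h1 := congrArg (fun z : ℂ => ‖z‖) h
  simp only [norm_pow, norm_mul, norm_neg, norm_one, one_pow, one_mul, Complex.norm_natCast] at h1
  rw [Complex.mul_conj, Complex.normSq_eq_norm_sq, h1]
  push_cast; ring

set_option maxHeartbeats 2000000 in
/-- The classification of the characters orthogonal to all principal series, odd `q`. -/
theorem table_odd (hodd : Odd (Fintype.card F)) {ν : Fˣ} (hν : quadraticChar F (ν : F) = -1) :
    (∀ χ : SL(2, F) → ℂ, Cfsg.IsIrrCharacter SL(2, F) χ → IsCusp χ →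
      (χ 1 = ((Fintype.card F - 1 : ℕ) : ℂ) ∧ χ (bS 1 1) = -1 ∧ χ (bS 1 (ν : F)) = -1) ∨
      (χ 1 = (((Fintype.card F - 1) / 2 : ℕ) : ℂ) ∧ χ (bS 1 1) + χ (bS 1 (ν : F)) = -1 ∧
        (χ (bS 1 1) - χ (bS 1 (ν : F))) ^ 2 = (-1 : ℂ) ^ ((Fintype.card F - 1) / 2) * (Fintype.card F : ℂ))) ∧
    Nat.card {χ : Cfsg.IrrCharacter SL(2, F) //
      IsCusp (χ : SL(2, F) → ℂ) ∧ deg (χ : SL(2, F) → ℂ) = (Fintype.card F - 1) / 2} = 2 ∧
    2 * Nat.card {χ : Cfsg.IrrCharacter SL(2, F) //
      IsCusp (χ : SL(2, F) → ℂ) ∧ deg (χ : SL(2, F) → ℂ) = Fintype.card F - 1} = Fintype.card F - 1 ∧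
    2 * Nat.card {χ : Cfsg.IrrCharacter SL(2, F) //
      deg (χ : SL(2, F) → ℂ) = Fintype.card F + 1 ∧ ¬ IsCusp (χ : SL(2, F) → ℂ)} = Fintype.card F - 3 := by
  classical
  haveI : Fintype (MulChar F ℂ) := Fintype.ofFinite _
  obtain ⟨η₁, η₂, i₁, i₂, hne12, hadd, -, -, hp⟩ := halves hodd hν
  have hq := Fintype.one_lt_card (α := F)
  obtain ⟨h, hh⟩ := id hodd
  have hh1 : (Fintype.card F - 1) / 2 = h := by omega
  have hh2 : (Fintype.card F + 1) / 2 = h + 1 := by omega
  let one' : Cfsg.IrrCharacter SL(2, F) := ⟨fun _ => 1, isIrrCharacter_one⟩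
  let st' : Cfsg.IrrCharacter SL(2, F) := ⟨St, isIrr_St⟩
  let e1 : Cfsg.IrrCharacter SL(2, F) := ⟨η₁, i₁⟩
  let e2 : Cfsg.IrrCharacter SL(2, F) := ⟨η₂, i₂⟩
  let ps' : {α : MulChar F ℂ // α ≠ α⁻¹} → Cfsg.IrrCharacter SL(2, F) := fun α => ⟨PS α.1, isIrr_PS α.2⟩
  let P : Finset (Cfsg.IrrCharacter SL(2, F)) := Finset.univ.image ps'
  let S : Finset (Cfsg.IrrCharacter SL(2, F)) := {one', st', e1, e2}
  let R : Finset (Cfsg.IrrCharacter SL(2, F)) := Finset.univ.filter fun χ => IsCusp (χ : SL(2, F) → ℂ)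
  have hd1 : deg ((one' : SL(2, F) → ℂ)) = 1 := Nat.cast_injective (R := ℂ) (by rw [← irr_apply_one_eq_deg]; simp [one'])
  have hdst : deg ((st' : SL(2, F) → ℂ)) = Fintype.card F :=
    Nat.cast_injective (R := ℂ) (by rw [← irr_apply_one_eq_deg]; exact St_one)
  have hde1 : deg ((e1 : SL(2, F) → ℂ)) = h + 1 :=
    Nat.cast_injective (R := ℂ) (by rw [← irr_apply_one_eq_deg, ← hh2]; exact (hp η₁ (.inl rfl)).1)
  have hde2 : deg ((e2 : SL(2, F) → ℂ)) = h + 1 :=
    Nat.cast_injective (R := ℂ) (by rw [← irr_apply_one_eq_deg, ← hh2]; exact (hp η₂ (.inr rfl)).1)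
  have hdP : ∀ χ ∈ P, deg (χ : SL(2, F) → ℂ) = Fintype.card F + 1 := by
    intro χ hχ
    obtain ⟨α, -, rfl⟩ := Finset.mem_image.1 hχ
    exact Nat.cast_injective (R := ℂ) (by rw [← irr_apply_one_eq_deg]; push_cast; exact PS_one α.1)
  have hnc : ∀ χ, χ ∈ S ∪ P → ¬ IsCusp (χ : SL(2, F) → ℂ) := by
    intro χ hχ
    rcases Finset.mem_union.1 hχ with hS | hP
    · simp only [S, Finset.mem_insert, Finset.mem_singleton] at hS
      rcases hS with rfl | rfl | rfl | rfl
      · refine not_cusp_of_inner 1 ?_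
        rw [show ((one' : SL(2, F) → ℂ)) = fun _ => 1 from rfl, classInner_PS_one, if_pos rfl]
        exact one_ne_zero
      · refine not_cusp_of_inner 1 ?_
        rw [show PS (1 : MulChar F ℂ) = St + (fun _ => 1) by simp [St], classInner_add_left,
          classInner_irrChar isIrr_St st'.2, classInner_irrChar isIrrCharacter_one st'.2, if_pos rfl]
        split_ifs <;> norm_num
      · refine not_cusp_of_inner (quad F) ?_
        rw [hadd, classInner_add_left, classInner_irrChar i₁ e1.2, classInner_irrChar i₂ e1.2, if_pos rfl]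
        split_ifs <;> norm_num
      · refine not_cusp_of_inner (quad F) ?_
        rw [hadd, classInner_add_left, classInner_irrChar i₁ e2.2, classInner_irrChar i₂ e2.2,
          show ((e2 : SL(2, F) → ℂ)) = η₂ from rfl, if_pos rfl]
        split_ifs <;> norm_num
    · obtain ⟨α, -, rfl⟩ := Finset.mem_image.1 hP
      refine not_cusp_of_inner α.1 ?_
      rw [classInner_irrChar (isIrr_PS α.2) (ps' α).2, if_pos rfl]
      exact one_ne_zero
  have hcover : ∀ χ : Cfsg.IrrCharacter SL(2, F), ¬ IsCusp (χ : SL(2, F) → ℂ) → χ ∈ S ∪ P := by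
    intro χ hc
    rcases cases_irr χ.2 with h1 | h1 | ⟨α, hα, h1⟩ | ⟨-, h1⟩ | h1
    · exact Finset.mem_union_left _ (by simp [S, show χ = one' from Subtype.ext h1])
    · exact Finset.mem_union_left _ (by simp [S, show χ = st' from Subtype.ext h1])
    · exact Finset.mem_union_right _ (Finset.mem_image.2 ⟨⟨α, hα⟩, Finset.mem_univ _, Subtype.ext h1.symm⟩)
    · refine Finset.mem_union_left _ ?_
      rw [hadd, classInner_add_left, classInner_irrChar i₁ χ.2, classInner_irrChar i₂ χ.2] at h1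
      split_ifs at h1 with ha hb hb
      · simp [S, show χ = e1 from Subtype.ext ha.symm]
      · simp [S, show χ = e1 from Subtype.ext ha.symm]
      · simp [S, show χ = e2 from Subtype.ext hb.symm]
      · simp at h1
    · exact absurd h1 hc
  have hR : (S ∪ P)ᶜ = R := by
    ext χ
    simp only [Finset.mem_compl, R, Finset.mem_filter, Finset.mem_univ, true_and]
    exact ⟨fun h' => by_contra fun h'' => h' (hcover χ h''), fun h' h'' => hnc χ h'' h'⟩
  have hdisj : Disjoint S P := by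
    rw [Finset.disjoint_left]
    intro χ hS hP
    have := hdP χ hP
    simp only [S, Finset.mem_insert, Finset.mem_singleton] at hS
    rcases hS with rfl | rfl | rfl | rfl <;> omega
  have hS4 : S = Finset.cons one' (Finset.cons st' (Finset.cons e1 {e2}
      (by simp [Subtype.ext_iff, e1, e2, hne12]))
      (by
        simp only [Finset.mem_cons, Finset.mem_singleton, not_or]
        constructor <;> intro e <;> rw [e] at hdst <;> omega))
      (by
        simp only [Finset.mem_cons, Finset.mem_singleton, not_or]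
        refine ⟨?_, ?_, ?_⟩ <;> intro e <;> rw [e] at hd1 <;> omega) := by
    simp [S, Finset.cons_eq_insert]
  have hScard : S.card = 4 := by
    rw [hS4, Finset.card_cons, Finset.card_cons, Finset.card_cons, Finset.card_singleton]
  have hPc : 2 * P.card = Fintype.card F - 3 := by
    have hfib : ∀ χ ∈ P, (Finset.univ.filter fun α => ps' α = χ).card = 2 := by
      intro χ hχ
      obtain ⟨α, -, rfl⟩ := Finset.mem_image.1 hχ
      have hα' : (α.1)⁻¹ ≠ ((α.1)⁻¹)⁻¹ := by rw [inv_inv]; exact α.2.symm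
      rw [show (Finset.univ.filter fun β => ps' β = ps' α) = {α, ⟨(α.1)⁻¹, hα'⟩} from ?_, Finset.card_pair]
      · exact fun e => α.2 (congrArg Subtype.val e)
      · ext β
        simp only [Finset.mem_filter, Finset.mem_univ, true_and, Finset.mem_insert, Finset.mem_singleton]
        constructor
        · intro e
          have e' : PS β.1 = PS α.1 := congrArg Subtype.val e
          have h1 := classInner_PS β.1 α.1
          rw [← e', classInner_PS, if_pos rfl, if_neg β.2] at h1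
          by_contra hno
          push Not at hno
          rw [if_neg fun e => hno.1 (Subtype.ext e), if_neg fun e => hno.2 (Subtype.ext e)] at h1
          norm_num at h1
        · rintro (rfl | rfl)
          · rfl
          · exact Subtype.ext (PS_inv α.1)
    have hcount := Finset.card_eq_sum_card_fiberwise (f := ps') (s := Finset.univ) (t := P)
      fun α _ => Finset.mem_image.2 ⟨α, Finset.mem_univ _, rfl⟩
    rw [Finset.sum_congr rfl hfib, Finset.sum_const, smul_eq_mul, Finset.card_univ, Fintype.card_subtype_compl] at hcount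
    have hinv : Fintype.card {α : MulChar F ℂ // α = α⁻¹} = 2 := by
      rw [Fintype.card_subtype, show (Finset.univ.filter fun α : MulChar F ℂ => α = α⁻¹) = {1, quad F} from ?_,
        Finset.card_pair (quad_ne_one hodd).symm]
      ext α
      simp only [Finset.mem_filter, Finset.mem_univ, true_and, Finset.mem_insert, Finset.mem_singleton]
      refine ⟨fun e => or_iff_not_imp_left.2 fun h1 => eq_quad hodd ((sq_eq_one_iff α).2 e) h1, ?_⟩
      rintro (rfl | rfl)
      · exact inv_one.symm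
      · exact (sq_eq_one_iff _).1 quad_sq
    rw [hinv, ← Nat.card_eq_fintype_card, card_mulChar] at hcount
    omega
  have hsum := sum_deg_sq_nat (G := SL(2, F))
  rw [← Finset.sum_add_sum_compl (S ∪ P), hR, Finset.sum_union hdisj,
    Finset.sum_congr (s₁ := P) rfl (fun (χ : Cfsg.IrrCharacter SL(2, F)) hχ => show deg (χ : SL(2, F) → ℂ) ^ 2 = (Fintype.card F + 1) ^ 2 by rw [hdP χ hχ]),
    Finset.sum_const, smul_eq_mul, Cfsg.Lib.Classical.SLTwoTori.card_SL2] at hsum
  rw [hS4] at hsum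
  simp only [Finset.sum_cons, Finset.sum_singleton, hd1, hdst, hde1, hde2] at hsum
  have hcl : Nat.card (Cfsg.IrrCharacter SL(2, F)) = Fintype.card F + 4 := by
    rw [card_irrCharacter, card_classes_odd hodd]
  rw [Nat.card_eq_fintype_card, ← Finset.card_add_card_compl (S ∪ P), hR, Finset.card_union_of_disjoint hdisj,
    hScard] at hcl
  choose! m j hm using fun (χ : Cfsg.IrrCharacter SL(2, F)) (hχ : IsCusp (χ : SL(2, F) → ℂ)) =>
    cusp_params hodd hν χ.2 hχ
  have hmem : ∀ {χ}, χ ∈ R → IsCusp ((χ : Cfsg.IrrCharacter SL(2, F)) : SL(2, F) → ℂ) :=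
    fun hχ => (Finset.mem_filter.1 hχ).2
  have hdm : ∀ χ ∈ R, deg (χ : SL(2, F) → ℂ) = h * m χ := fun χ hχ => by
    obtain ⟨-, -, -, h1, -⟩ := hm χ (hmem hχ)
    exact Nat.cast_injective (R := ℂ) (by rw [← irr_apply_one_eq_deg, h1, hh1]; push_cast; ring)
  rw [Finset.sum_congr (s₁ := R) rfl (fun (χ : Cfsg.IrrCharacter SL(2, F)) (hχ : χ ∈ R) => show deg (χ : SL(2, F) → ℂ) ^ 2 = h ^ 2 * m χ ^ 2 by
    rw [hdm χ hχ]; ring), ← Finset.mul_sum] at hsum
  obtain ⟨p, hp3⟩ : ∃ p, h = p + 1 := ⟨h - 1, by omega⟩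
  have hPc' : P.card = p := by omega
  have hm2 : ∑ χ ∈ R, m χ ^ 2 = 2 * Fintype.card F := by
    have hq2 : Fintype.card F ^ 2 - 1 = 4 * (h * (h + 1)) := by
      rw [hh, show (2 * h + 1) ^ 2 = 4 * (h * (h + 1)) + 1 by ring]; omega
    rw [hq2, hPc', hh] at hsum
    refine Nat.eq_of_mul_eq_mul_left (pow_pos (show 0 < h by omega) 2) ?_
    rw [hh]
    subst hp3
    nlinarith [hsum]
  have hj2 : ∑ χ ∈ R, j χ ^ 2 = 2 := by
    let d : Cfsg.IrrCharacter SL(2, F) → ℂ := fun χ =>
      (χ : SL(2, F) → ℂ) (bS 1 1) - (χ : SL(2, F) → ℂ) (bS 1 (ν : F))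
    have htot : ∑ χ, d χ * conj (d χ) = 4 * (Fintype.card F : ℂ) := by
      have hx : ∀ χ : Cfsg.IrrCharacter SL(2, F), d χ * conj (d χ) =
          (χ : SL(2, F) → ℂ) (bS 1 1) * conj ((χ : SL(2, F) → ℂ) (bS 1 1)) -
          (χ : SL(2, F) → ℂ) (bS 1 1) * conj ((χ : SL(2, F) → ℂ) (bS 1 (ν : F))) -
          (χ : SL(2, F) → ℂ) (bS 1 (ν : F)) * conj ((χ : SL(2, F) → ℂ) (bS 1 1)) +
          (χ : SL(2, F) → ℂ) (bS 1 (ν : F)) * conj ((χ : SL(2, F) → ℂ) (bS 1 (ν : F))) := fun χ => by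
        simp only [d, map_sub]; ring
      simp only [hx, Finset.sum_add_distrib, Finset.sum_sub_distrib, second_orthogonality,
        if_neg (isConj_bS_iff hν), if_neg (fun e => isConj_bS_iff hν (IsConj.symm e)), IsConj.refl, if_true,
        card_cent_unip hodd one_ne_zero, card_cent_unip hodd ν.ne_zero]
      push_cast; ring
    rw [← Finset.sum_add_sum_compl (S ∪ P), hR, Finset.sum_union hdisj, hS4] at htot
    simp only [Finset.sum_cons, Finset.sum_singleton] at htot
    have hd0 : d one' = 0 := by simp [d, one']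
    have hd1' : d st' = 0 := by
      simp [d, st', St, PS_bS_unip _ one_ne_zero, PS_bS_unip _ ν.ne_zero]
    have hdP0 : ∑ χ ∈ P, d χ * conj (d χ) = 0 := Finset.sum_eq_zero fun χ hχ => by
      obtain ⟨α, -, rfl⟩ := Finset.mem_image.1 hχ
      simp [d, ps', PS_bS_unip _ one_ne_zero, PS_bS_unip _ ν.ne_zero]
    have hde : ∀ η, η = η₁ ∨ η = η₂ → (η (bS 1 1) - η (bS 1 (ν : F))) * conj (η (bS 1 1) - η (bS 1 (ν : F))) =
        (Fintype.card F : ℂ) := fun η hη => by
      obtain ⟨-, -, -, h4, -⟩ := hp η hη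
      rw [gap_mul_conj (Fintype.card F) 1 ((Fintype.card F - 1) / 2) (by simpa using h4)]
      simp
    have hdR : ∀ χ ∈ R, d χ * conj (d χ) = (Fintype.card F : ℂ) * (j χ : ℂ) ^ 2 := fun χ hχ => by
      obtain ⟨-, -, -, -, -, h1⟩ := hm χ (hmem hχ)
      exact gap_mul_conj _ _ _ h1
    rw [hd0, hd1', hdP0, show d e1 * conj (d e1) = _ from hde η₁ (.inl rfl),
      show d e2 * conj (d e2) = _ from hde η₂ (.inr rfl), Finset.sum_congr rfl hdR, ← Finset.mul_sum] at htot
    have hR2 : ∑ χ ∈ R, (j χ : ℂ) ^ 2 = 2 :=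
      mul_left_cancel₀ (Nat.cast_ne_zero.2 (Fintype.card_ne_zero (α := F))) (by linear_combination htot)
    exact_mod_cast hR2
  have hlow : ∀ χ ∈ R, 4 ≤ m χ ^ 2 + 3 * j χ ^ 2 := by
    intro χ hχ
    obtain ⟨h1, h2, h3, -⟩ := hm χ (hmem hχ)
    rcases Nat.eq_zero_or_pos (j χ) with h0 | h0
    · have : 2 ≤ m χ := by rw [h0] at h3; omega
      nlinarith
    · nlinarith
  have hRc : 2 * R.card = Fintype.card F + 3 := by omega
  have heq := (Finset.sum_eq_sum_iff_of_le hlow).1 (by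
    rw [Finset.sum_const, smul_eq_mul, Finset.sum_add_distrib, ← Finset.mul_sum, hm2, hj2]; omega)
  have htwo : ∀ χ ∈ R, (m χ = 2 ∧ j χ = 0) ∨ (m χ = 1 ∧ j χ = 1) := by
    intro χ hχ
    obtain ⟨h1, h2, h3, -⟩ := hm χ (hmem hχ)
    have e := (heq χ hχ).symm
    have hm' : m χ ≤ 2 := by nlinarith
    have hj' : j χ ≤ 2 := by omega
    interval_cases hmv : m χ <;> interval_cases hjv : j χ <;> omega
  refine ⟨fun χ hχ hc => ?_, ?_, ?_, ?_⟩
  · have hmemR : (⟨χ, hχ⟩ : Cfsg.IrrCharacter SL(2, F)) ∈ R := Finset.mem_filter.2 ⟨Finset.mem_univ _, hc⟩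
    obtain ⟨-, -, -, h1, h2, h3⟩ := hm ⟨χ, hχ⟩ hc
    change χ 1 = _ at h1
    change χ (bS 1 1) + χ (bS 1 (ν : F)) = _ at h2
    change (χ (bS 1 1) - χ (bS 1 (ν : F))) ^ 2 = _ at h3
    rcases htwo _ hmemR with ⟨em, ej⟩ | ⟨em, ej⟩ <;> rw [em] at h1 h2 <;> rw [ej] at h3
    · refine .inl ⟨?_, ?_⟩
      · rw [h1, hh1, show Fintype.card F - 1 = h * 2 by omega]; push_cast; ring
      · simp only [Nat.cast_zero, ne_eq, OfNat.ofNat_ne_zero, not_false_eq_true, zero_pow, mul_zero] at h3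
        have h4 := (pow_eq_zero_iff two_ne_zero).1 h3
        constructor
        · linear_combination (1 / 2 : ℂ) * h2 + (1 / 2 : ℂ) * h4
        · linear_combination (1 / 2 : ℂ) * h2 - (1 / 2 : ℂ) * h4
    · exact .inr ⟨by simpa using h1, by simpa using h2, by simpa using h3⟩
  all_goals rw [Nat.card_eq_fintype_card, Fintype.card_subtype]
  · rw [show (Finset.univ.filter fun χ : Cfsg.IrrCharacter SL(2, F) => IsCusp (χ : SL(2, F) → ℂ) ∧
        deg (χ : SL(2, F) → ℂ) = (Fintype.card F - 1) / 2) = R.filter fun χ => m χ = 1 from ?_]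
    · have e : ∑ χ ∈ R, j χ ^ 2 = (R.filter fun χ => m χ = 1).card := by
        rw [Finset.card_filter]
        refine Finset.sum_congr rfl fun χ hχ => ?_
        rcases htwo χ hχ with ⟨em, ej⟩ | ⟨em, ej⟩ <;> rw [ej, em] <;> simp
      omega
    · rw [Finset.filter_filter]
      refine Finset.filter_congr fun χ _ => and_congr_right fun hc => ?_
      rw [hdm χ (Finset.mem_filter.2 ⟨Finset.mem_univ _, hc⟩), hh1]
      exact Nat.mul_eq_left (show h ≠ 0 by omega)
  · rw [show (Finset.univ.filter fun χ : Cfsg.IrrCharacter SL(2, F) => IsCusp (χ : SL(2, F) → ℂ) ∧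
        deg (χ : SL(2, F) → ℂ) = Fintype.card F - 1) = R.filter fun χ => m χ ≠ 1 from ?_]
    · have e : ∑ χ ∈ R, j χ ^ 2 = (R.filter fun χ => m χ = 1).card := by
        rw [Finset.card_filter]
        refine Finset.sum_congr rfl fun χ hχ => ?_
        rcases htwo χ hχ with ⟨em, ej⟩ | ⟨em, ej⟩ <;> rw [ej, em] <;> simp
      have e2 := Finset.card_filter_add_card_filter_not (s := R) fun χ => m χ = 1
      simp only [ne_eq] at *
      omega
    · rw [Finset.filter_filter]
      refine Finset.filter_congr fun χ _ => and_congr_right fun hc => ?_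
      have hmemR : χ ∈ R := Finset.mem_filter.2 ⟨Finset.mem_univ _, hc⟩
      rw [hdm χ hmemR]
      rcases htwo χ hmemR with ⟨em, -⟩ | ⟨em, -⟩ <;> rw [em] <;> omega
  · rw [show (Finset.univ.filter fun χ : Cfsg.IrrCharacter SL(2, F) => deg (χ : SL(2, F) → ℂ) = Fintype.card F + 1 ∧
        ¬ IsCusp (χ : SL(2, F) → ℂ)) = P from ?_]
    · exact hPc
    · ext χ
      simp only [Finset.mem_filter, Finset.mem_univ, true_and]
      refine ⟨fun hχ => ?_, fun hχ => ⟨hdP χ hχ, hnc χ (Finset.mem_union_right _ hχ)⟩⟩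
      rcases Finset.mem_union.1 (hcover χ hχ.2) with hS | hP
      · simp only [S, Finset.mem_insert, Finset.mem_singleton] at hS
        rcases hS with rfl | rfl | rfl | rfl <;> omega
      · exact hP

set_option maxHeartbeats 2000000 in
/-- The cuspidal characters, even `q`. -/
theorem table_even (heven : Even (Fintype.card F)) :
    (∀ χ : SL(2, F) → ℂ, Cfsg.IsIrrCharacter SL(2, F) χ → IsCusp χ →
      χ 1 = ((Fintype.card F - 1 : ℕ) : ℂ) ∧ χ (bS 1 1) = -1) ∧
    2 * Nat.card {χ : Cfsg.IrrCharacter SL(2, F) //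
      IsCusp (χ : SL(2, F) → ℂ) ∧ deg (χ : SL(2, F) → ℂ) = Fintype.card F - 1} = Fintype.card F ∧
    2 * Nat.card {χ : Cfsg.IrrCharacter SL(2, F) //
      deg (χ : SL(2, F) → ℂ) = Fintype.card F + 1 ∧ ¬ IsCusp (χ : SL(2, F) → ℂ)} = Fintype.card F - 2 := by
  classical
  haveI : Fintype (MulChar F ℂ) := Fintype.ofFinite _
  have hq := Fintype.one_lt_card (α := F)
  have hch : ringChar F = 2 := by
    by_contra hne
    have := FiniteField.odd_card_of_char_ne_two hne
    obtain ⟨r, hr⟩ := heven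
    omega
  haveI : CharP F 2 := hch ▸ ringChar.charP F
  obtain ⟨h, hh⟩ := id heven
  let one' : Cfsg.IrrCharacter SL(2, F) := ⟨fun _ => 1, isIrrCharacter_one⟩
  let st' : Cfsg.IrrCharacter SL(2, F) := ⟨St, isIrr_St⟩
  let ps' : {α : MulChar F ℂ // α ≠ α⁻¹} → Cfsg.IrrCharacter SL(2, F) := fun α => ⟨PS α.1, isIrr_PS α.2⟩
  let P : Finset (Cfsg.IrrCharacter SL(2, F)) := Finset.univ.image ps'
  let S : Finset (Cfsg.IrrCharacter SL(2, F)) := {one', st'}
  let R : Finset (Cfsg.IrrCharacter SL(2, F)) := Finset.univ.filter fun χ => IsCusp (χ : SL(2, F) → ℂ)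
  have hd1 : deg ((one' : SL(2, F) → ℂ)) = 1 := Nat.cast_injective (R := ℂ) (by rw [← irr_apply_one_eq_deg]; simp [one'])
  have hdst : deg ((st' : SL(2, F) → ℂ)) = Fintype.card F :=
    Nat.cast_injective (R := ℂ) (by rw [← irr_apply_one_eq_deg]; exact St_one)
  have hdP : ∀ χ ∈ P, deg (χ : SL(2, F) → ℂ) = Fintype.card F + 1 := by
    intro χ hχ
    obtain ⟨α, -, rfl⟩ := Finset.mem_image.1 hχ
    exact Nat.cast_injective (R := ℂ) (by rw [← irr_apply_one_eq_deg]; push_cast; exact PS_one α.1)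
  have hnc : ∀ χ, χ ∈ S ∪ P → ¬ IsCusp (χ : SL(2, F) → ℂ) := by
    intro χ hχ
    rcases Finset.mem_union.1 hχ with hS | hP
    · simp only [S, Finset.mem_insert, Finset.mem_singleton] at hS
      rcases hS with rfl | rfl
      · refine not_cusp_of_inner 1 ?_
        rw [show ((one' : SL(2, F) → ℂ)) = fun _ => 1 from rfl, classInner_PS_one, if_pos rfl]
        exact one_ne_zero
      · refine not_cusp_of_inner 1 ?_
        rw [show PS (1 : MulChar F ℂ) = St + (fun _ => 1) by simp [St], classInner_add_left,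
          classInner_irrChar isIrr_St st'.2, classInner_irrChar isIrrCharacter_one st'.2, if_pos rfl]
        split_ifs <;> norm_num
    · obtain ⟨α, -, rfl⟩ := Finset.mem_image.1 hP
      refine not_cusp_of_inner α.1 ?_
      rw [classInner_irrChar (isIrr_PS α.2) (ps' α).2, if_pos rfl]
      exact one_ne_zero
  have hcover : ∀ χ : Cfsg.IrrCharacter SL(2, F), ¬ IsCusp (χ : SL(2, F) → ℂ) → χ ∈ S ∪ P := by
    intro χ hc
    rcases cases_irr χ.2 with h1 | h1 | ⟨α, hα, h1⟩ | ⟨ho, -⟩ | h1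
    · exact Finset.mem_union_left _ (by simp [S, show χ = one' from Subtype.ext h1])
    · exact Finset.mem_union_left _ (by simp [S, show χ = st' from Subtype.ext h1])
    · exact Finset.mem_union_right _ (Finset.mem_image.2 ⟨⟨α, hα⟩, Finset.mem_univ _, Subtype.ext h1.symm⟩)
    · exact absurd heven (Nat.not_even_iff_odd.2 ho)
    · exact absurd h1 hc
  have hR : (S ∪ P)ᶜ = R := by
    ext χ
    simp only [Finset.mem_compl, R, Finset.mem_filter, Finset.mem_univ, true_and]
    exact ⟨fun h' => by_contra fun h'' => h' (hcover χ h''), fun h' h'' => hnc χ h'' h'⟩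
  have hdisj : Disjoint S P := by
    rw [Finset.disjoint_left]
    intro χ hS hP
    have := hdP χ hP
    simp only [S, Finset.mem_insert, Finset.mem_singleton] at hS
    rcases hS with rfl | rfl <;> omega
  have hne' : one' ≠ st' := fun e => by rw [e] at hd1; omega
  have hPc : 2 * P.card = Fintype.card F - 2 := by
    have hfib : ∀ χ ∈ P, (Finset.univ.filter fun α => ps' α = χ).card = 2 := by
      intro χ hχ
      obtain ⟨α, -, rfl⟩ := Finset.mem_image.1 hχ
      have hα' : (α.1)⁻¹ ≠ ((α.1)⁻¹)⁻¹ := by rw [inv_inv]; exact α.2.symm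
      rw [show (Finset.univ.filter fun β => ps' β = ps' α) = {α, ⟨(α.1)⁻¹, hα'⟩} from ?_, Finset.card_pair]
      · exact fun e => α.2 (congrArg Subtype.val e)
      · ext β
        simp only [Finset.mem_filter, Finset.mem_univ, true_and, Finset.mem_insert, Finset.mem_singleton]
        constructor
        · intro e
          have e' : PS β.1 = PS α.1 := congrArg Subtype.val e
          have h1 := classInner_PS β.1 α.1
          rw [← e', classInner_PS, if_pos rfl, if_neg β.2] at h1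
          by_contra hno
          push Not at hno
          rw [if_neg fun e => hno.1 (Subtype.ext e), if_neg fun e => hno.2 (Subtype.ext e)] at h1
          norm_num at h1
        · rintro (rfl | rfl)
          · rfl
          · exact Subtype.ext (PS_inv α.1)
    have hcount := Finset.card_eq_sum_card_fiberwise (f := ps') (s := Finset.univ) (t := P)
      fun α _ => Finset.mem_image.2 ⟨α, Finset.mem_univ _, rfl⟩
    rw [Finset.sum_congr rfl hfib, Finset.sum_const, smul_eq_mul, Finset.card_univ, Fintype.card_subtype_compl] at hcount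
    have hinv : Fintype.card {α : MulChar F ℂ // α = α⁻¹} = 1 := by
      rw [Fintype.card_subtype, show (Finset.univ.filter fun α : MulChar F ℂ => α = α⁻¹) = {1} from ?_,
        Finset.card_singleton]
      ext α
      simp only [Finset.mem_filter, Finset.mem_univ, true_and, Finset.mem_singleton]
      exact ⟨fun e => even_quad_trivial heven ((sq_eq_one_iff α).2 e), fun e => by rw [e, inv_one]⟩
    rw [hinv, ← Nat.card_eq_fintype_card, card_mulChar] at hcount
    omega
  have hdeg : ∀ χ : Cfsg.IrrCharacter SL(2, F), IsCusp (χ : SL(2, F) → ℂ) → ∃ n : ℕ, 1 ≤ n ∧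
      deg (χ : SL(2, F) → ℂ) = (Fintype.card F - 1) * n ∧ (χ : SL(2, F) → ℂ) (bS 1 1) = -(n : ℂ) := by
    intro χ hc
    have hchr := isCharacter_of_irr χ.2
    obtain ⟨n, hn⟩ := IsCharacter.apply_one hchr
    have h0 := cusp_sum_one χ.2 hc
    rw [← Finset.add_sum_erase _ _ (Finset.mem_univ (0 : F)), bS_one,
      Finset.sum_congr rfl fun x hx => apply_square (isClassFunction_isChar hchr) one_ne_zero
        (Finset.mem_erase.1 hx).1 (FiniteField.isSquare_of_char_two hch _), Finset.sum_const,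
      Finset.card_erase_of_mem (Finset.mem_univ _), Finset.card_univ, nsmul_eq_mul, hn] at h0
    obtain ⟨z, hz⟩ := int_of_mul (IsCharacter.isIntegral hchr (bS 1 (1 : F))) (n := Fintype.card F - 1) (by omega)
      (m := -(n : ℤ)) (by push_cast; linear_combination h0)
    rw [hz] at h0
    have h0' : (n : ℤ) + ((Fintype.card F - 1 : ℕ) : ℤ) * z = 0 := by exact_mod_cast h0
    have hn0 : n ≠ 0 := fun e => IsIrrCharacter.apply_one_ne_zero χ.2 (by rw [hn, e, Nat.cast_zero])
    have hz0 : z < 0 := by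
      by_contra hz0
      have h1 : (0 : ℤ) ≤ ((Fintype.card F - 1 : ℕ) : ℤ) * z := mul_nonneg (by positivity) (by omega)
      omega
    obtain ⟨k, rfl⟩ : ∃ k : ℕ, z = -(k : ℤ) := ⟨z.natAbs, by omega⟩
    refine ⟨k, by omega, Nat.cast_injective (R := ℂ) ?_, by rw [hz]; push_cast; ring⟩
    rw [← irr_apply_one_eq_deg, hn]
    push_cast at h0 ⊢
    linear_combination h0
  choose! m hm using hdeg
  have hmem : ∀ {χ}, χ ∈ R → IsCusp ((χ : Cfsg.IrrCharacter SL(2, F)) : SL(2, F) → ℂ) :=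
    fun hχ => (Finset.mem_filter.1 hχ).2
  have hsum := sum_deg_sq_nat (G := SL(2, F))
  rw [← Finset.sum_add_sum_compl (S ∪ P), hR, Finset.sum_union hdisj,
    Finset.sum_congr (s₁ := P) rfl (fun (χ : Cfsg.IrrCharacter SL(2, F)) hχ => show deg (χ : SL(2, F) → ℂ) ^ 2 = (Fintype.card F + 1) ^ 2 by rw [hdP χ hχ]),
    Finset.sum_const, smul_eq_mul, Cfsg.Lib.Classical.SLTwoTori.card_SL2, Finset.sum_pair hne', hd1, hdst,
    Finset.sum_congr (s₁ := R) rfl (fun (χ : Cfsg.IrrCharacter SL(2, F)) hχ => show deg (χ : SL(2, F) → ℂ) ^ 2 = (Fintype.card F - 1) ^ 2 * m χ ^ 2 by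
      rw [(hm χ (hmem hχ)).2.1]; ring), ← Finset.mul_sum] at hsum
  have hcl : Nat.card (Cfsg.IrrCharacter SL(2, F)) = Fintype.card F + 1 := by
    rw [card_irrCharacter, card_classes_even]
  rw [Nat.card_eq_fintype_card, ← Finset.card_add_card_compl (S ∪ P), hR, Finset.card_union_of_disjoint hdisj,
    Finset.card_pair hne'] at hcl
  obtain ⟨p, hp3⟩ : ∃ p, h = p + 1 := ⟨h - 1, by omega⟩
  have hPc' : P.card = p := by omega
  have hm2 : ∑ χ ∈ R, m χ ^ 2 = R.card := by
    have hq2 : Fintype.card F ^ 2 - 1 = (2 * p + 1) * (2 * p + 3) := by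
      rw [hh, hp3, show (p + 1 + (p + 1)) ^ 2 = (2 * p + 1) * (2 * p + 3) + 1 by ring]; omega
    have hR' : R.card = p + 1 := by omega
    rw [hq2, hPc', show Fintype.card F - 1 = 2 * p + 1 by omega, show Fintype.card F = 2 * p + 2 by omega] at hsum
    rw [hR']
    refine Nat.eq_of_mul_eq_mul_left (show 0 < (2 * p + 1) ^ 2 by positivity) ?_
    nlinarith
  have heq := (Finset.sum_eq_sum_iff_of_le (f := fun _ => 1) (g := fun χ => m χ ^ 2)
    (fun χ hχ => Nat.one_le_pow _ _ (hm χ (hmem hχ)).1)).1 (by rw [Finset.sum_const, smul_eq_mul, mul_one, hm2])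
  have hone : ∀ χ ∈ R, m χ = 1 := fun χ hχ => (Nat.pow_eq_one.1 (heq χ hχ).symm).resolve_right two_ne_zero
  refine ⟨fun χ hχ hc => ?_, ?_, ?_⟩
  · obtain ⟨-, h1, h2⟩ := hm ⟨χ, hχ⟩ hc
    have e := hone ⟨χ, hχ⟩ (Finset.mem_filter.2 ⟨Finset.mem_univ _, hc⟩)
    rw [e] at h1 h2
    refine ⟨?_, by simpa using h2⟩
    have := irr_apply_one_eq_deg (⟨χ, hχ⟩ : Cfsg.IrrCharacter SL(2, F))
    rw [h1, mul_one] at this
    exact this
  all_goals rw [Nat.card_eq_fintype_card, Fintype.card_subtype]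
  · rw [show (Finset.univ.filter fun χ : Cfsg.IrrCharacter SL(2, F) => IsCusp (χ : SL(2, F) → ℂ) ∧
        deg (χ : SL(2, F) → ℂ) = Fintype.card F - 1) = R from ?_]
    · omega
    · refine Finset.filter_congr fun χ _ => ⟨fun h' => h'.1, fun hc => ⟨hc, ?_⟩⟩
      rw [(hm χ hc).2.1, hone χ (Finset.mem_filter.2 ⟨Finset.mem_univ _, hc⟩), mul_one]
  · rw [show (Finset.univ.filter fun χ : Cfsg.IrrCharacter SL(2, F) => deg (χ : SL(2, F) → ℂ) = Fintype.card F + 1 ∧
        ¬ IsCusp (χ : SL(2, F) → ℂ)) = P from ?_]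
    · exact hPc
    · ext χ
      simp only [Finset.mem_filter, Finset.mem_univ, true_and]
      refine ⟨fun hχ => ?_, fun hχ => ⟨hdP χ hχ, hnc χ (Finset.mem_union_right _ hχ)⟩⟩
      rcases Finset.mem_union.1 (hcover χ hχ.2) with hS | hP
      · simp only [S, Finset.mem_insert, Finset.mem_singleton] at hS
        rcases hS with rfl | rfl <;> omega
      · exact hP

end Cfsg.Lib.GLTwo.SCh
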