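import Cfsg.Agent.Known.SLTwo.Chars.SLFacts

/-! The characters of SL₂ attached to a non-split torus. -/

set_option autoImplicit false
set_option linter.unusedSectionVars false

open Matrix
open scoped ComplexConjugate MatrixGroups

namespace Cfsg.Lib.CharTools

open Cfsg.Lib.Chars

universe u

variable {G : Type u} [Group G] [Fintype G]

/-- A generalised character of norm two. -/
theorem exists_signed_of_norm_two {f : G → ℂ} (h : Cfsg.IsGeneralizedCharacter G f)
    (hn : Cfsg.classInner f f = 2) :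
    ∃ (μ ν : Cfsg.IrrCharacter G) (a b : ℤ), μ ≠ ν ∧ (a = 1 ∨ a = -1) ∧ (b = 1 ∨ b = -1) ∧
      f = (a : ℂ) • (μ : G → ℂ) + (b : ℂ) • (ν : G → ℂ) := by
  classical
  obtain ⟨a, rfl⟩ := exists_int_decomp h
  rw [classInner_self_decomp] at hn
  have h2 : ∑ χ, a χ * a χ = 2 := by
    apply Int.cast_injective (α := ℂ)
    simpa using hn
  obtain ⟨χ, -, hχ⟩ := Finset.exists_ne_zero_of_sum_ne_zero (h2.symm ▸ two_ne_zero)
  have hbound : ∀ ξ, a ξ * a ξ ≠ 0 → a ξ * a ξ = 1 := fun ξ hξ => by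
    have hle : a ξ * a ξ ≤ 2 := h2 ▸ Finset.single_le_sum (f := fun ξ => a ξ * a ξ)
      (fun x _ => mul_self_nonneg _) (Finset.mem_univ ξ)
    have hb1 : a ξ ≤ 1 := by nlinarith
    have hb2 : -1 ≤ a ξ := by nlinarith
    interval_cases (a ξ) <;> simp_all
  have hsum := Finset.add_sum_erase Finset.univ (fun χ => a χ * a χ) (Finset.mem_univ χ)
  rw [h2, hbound χ hχ] at hsum
  obtain ⟨ψ, hψm, hψ⟩ := Finset.exists_ne_zero_of_sum_ne_zero
    (show ∑ x ∈ Finset.univ.erase χ, a x * a x ≠ 0 by omega)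
  have hne : ψ ≠ χ := (Finset.mem_erase.mp hψm).1
  have hrest : ∀ ξ, ξ ≠ χ → ξ ≠ ψ → a ξ = 0 := by
    intro ξ hξ1 hξ2
    have hsum2 := Finset.add_sum_erase (Finset.univ.erase χ) (fun χ => a χ * a χ) hψm
    rw [hbound ψ hψ] at hsum2
    have h0 : ∑ x ∈ (Finset.univ.erase χ).erase ψ, a x * a x = 0 := by omega
    simpa using (Finset.sum_eq_zero_iff_of_nonneg fun x _ => mul_self_nonneg _).mp h0 ξ
      (by simp [hξ1, hξ2])
  refine ⟨χ, ψ, a χ, a ψ, hne.symm, mul_self_eq_one_iff.mp (hbound χ hχ), mul_self_eq_one_iff.mp (hbound ψ hψ), ?_⟩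
  rw [← Finset.sum_pair (f := fun ξ : Cfsg.IrrCharacter G => (a ξ : ℂ) • (ξ : G → ℂ)) hne.symm]
  refine (Finset.sum_subset (Finset.subset_univ _) fun ξ _ hξ => ?_).symm
  simp only [Finset.mem_insert, Finset.mem_singleton, not_or] at hξ
  simp [hrest ξ hξ.1 hξ.2]

end Cfsg.Lib.CharTools

namespace Cfsg.Lib.GLTwo.SCh

open Cfsg.Lib.CharTools Cfsg.Lib.Chars

variable {F : Type*} [Field F]

theorem ell_of_irred {g : SL(2, F)} (h : Irred (g : Matrix (Fin 2) (Fin 2) F).trace 1) : Ell g := by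
  intro c v hv e
  have h0 : ((g : Matrix (Fin 2) (Fin 2) F) - c • 1).det = 0 := Matrix.exists_mulVec_eq_zero_iff.1
    ⟨v, hv, by rw [Matrix.sub_mulVec, Matrix.smul_mulVec, Matrix.one_mulVec, e, sub_self]⟩
  refine h c ?_
  have hd := g.2
  rw [Matrix.det_fin_two] at hd h0
  rw [Matrix.trace_fin_two]
  simp at h0
  linear_combination h0 - hd

theorem bS_neg : bS (-1 : Fˣ) (0 : F) = -1 := by
  refine Subtype.ext ?_
  ext i j; fin_cases i <;> fin_cases j <;> simp

variable [Fintype F] [DecidableEq F]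

theorem PS_neg (α : MulChar F ℂ) (g : SL(2, F)) : PS α (-g) = α (-1) * PS α g := by
  rw [PS_eq_sum, PS_eq_sum, Finset.mul_sum]
  refine Finset.sum_congr rfl fun o => fun _ => ?_
  have e : colAt ((-g : SL(2, F)) : Matrix (Fin 2) (Fin 2) F) o = -colAt (g : Matrix (Fin 2) (Fin 2) F) o := by
    rcases o with _ | c <;> refine Prod.ext ?_ ?_ <;> simp [colAt] <;> ring
  rw [e]
  simp only [Prod.fst_neg, Prod.snd_neg, neg_eq_zero, mul_ite, mul_zero]
  rw [← map_mul, neg_one_mul]

/-- The difference of the Steinberg and the trivial character. -/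
noncomputable def W : SL(2, F) → ℂ := fun g => PS (1 : MulChar F ℂ) g - 2

theorem conj_W (g : SL(2, F)) : conj (W g) = W g := by
  simp only [W, PS_eq_sum, map_sub, map_sum, map_ofNat, apply_ite (conj : ℂ → ℂ), conj_apply, inv_one, map_zero]

theorem W_neg (g : SL(2, F)) : W (-g) = W g := by
  simp [W, PS_neg, MulChar.one_apply]

theorem W_one : W (1 : SL(2, F)) = (Fintype.card F : ℂ) - 1 := by simp [W, PS_one]; ring

theorem W_regular {a : Fˣ} (h : a ≠ a⁻¹) : W (bS a (0 : F)) = 0 := by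
  simp [W, PS_diag _ h, MulChar.one_apply (isUnit_iff_ne_zero.2 (inv_ne_zero a.ne_zero))]; norm_num

theorem W_unip {x : F} (h : x ≠ 0) : W (bS 1 x) = -1 := by
  simp [W, PS_bS_unip _ h]; norm_num

theorem isClassFunction_W : Cfsg.IsClassFunction SL(2, F) (W (F := F)) := fun g h => by
  simp only [W]; rw [isClassFunction_PS 1 g h]

theorem isGeneralized_W : Cfsg.IsGeneralizedCharacter SL(2, F) (W (F := F)) := by
  have e : (W (F := F)) = PS 1 - ((fun _ => 1) + fun _ => 1) := by
    funext g; simp [W]; norm_num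
  rw [e]
  exact IsGeneralizedCharacter.sub (IsCharacter.isGeneralized (isCharacter_PS 1))
    (IsCharacter.isGeneralized (IsCharacter.add isCharacter_one isCharacter_one))

theorem bS_minus (x : F) : bS (-1 : Fˣ) x = -bS 1 (-x) := by
  refine Subtype.ext ?_
  ext i j; fin_cases i <;> fin_cases j <;> simp

theorem units_inv_iff (hodd : Odd (Fintype.card F)) (a : Fˣ) : a = a⁻¹ ↔ a = 1 ∨ a = -1 := by
  refine ⟨fun h => ?_, ?_⟩
  · have e : (a : F) * a = 1 := by
      rw [← Units.val_mul, eq_inv_iff_mul_eq_one.1 h, Units.val_one]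
    exact (mul_self_eq_one_iff.1 e).imp (fun e => Units.ext e) fun e => Units.ext (by simpa using e)
  · rintro (rfl | rfl) <;> simp

theorem one_ne_neg_unit (hodd : Odd (Fintype.card F)) : (1 : Fˣ) ≠ -1 := fun h => by
  have := congrArg Units.val h
  simp at this
  exact two_ne_zero_of_odd hodd (by linear_combination this)

/-- The sum defining the pairing with a principal series, for a function vanishing on the regular split elements. -/
theorem sum_units_pm (hodd : Odd (Fintype.card F)) {f : SL(2, F) → ℂ} (hf : Cfsg.IsClassFunction SL(2, F) f)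
    (h : ∀ a : Fˣ, a ≠ a⁻¹ → f (bS a 0) = 0) (α : MulChar F ℂ) :
    ∑ a : Fˣ, α a * conj (∑ x : F, f (bS a x)) =
      conj (∑ x : F, f (bS 1 x)) + α (-1) * conj (∑ x : F, f (-bS 1 x)) := by
  rw [← Finset.sum_subset (Finset.subset_univ ({1, -1} : Finset Fˣ)) fun a _ ha => ?_,
    Finset.sum_pair (one_ne_neg_unit hodd)]
  · congr 1
    · simp
    · rw [Units.val_neg, Units.val_one]
      congr 2
      rw [← Equiv.sum_comp (Equiv.neg F) fun x => f (-bS 1 x)]
      simp [bS_minus]
  · have ha' : a ≠ a⁻¹ := fun e => ha (by simpa using (units_inv_iff hodd a).1 e)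
    rw [sum_regular hf ha', h a ha']
    simp

variable {C : Subgroup SL(2, F)} (θ : C →* ℂˣ)

/-- The values of the virtual character. -/
noncomputable def torInd : SL(2, F) → ℂ := Cfsg.indFun C fun c => (θ c : ℂ)

theorem neg_one_mem (hodd : Odd (Fintype.card F)) (hcard : Nat.card C = Fintype.card F + 1) : (-1 : SL(2, F)) ∈ C := by
  haveI : Fact (Nat.Prime 2) := ⟨Nat.prime_two⟩
  obtain ⟨k, hk⟩ := id hodd
  obtain ⟨c, hc⟩ := exists_prime_orderOf_dvd_card' 2 (G := C) ⟨k + 1, by omega⟩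
  have h1 : (c : SL(2, F)) * c = 1 := by
    have := pow_orderOf_eq_one c
    rw [hc, sq] at this
    exact congrArg Subtype.val this
  rcases eq_pm_one_of_sq (two_ne_zero_of_odd hodd) h1 with e | e
  · exact absurd hc (by rw [show c = 1 from Subtype.ext e, orderOf_one]; norm_num)
  · rw [← e]; exact c.2

theorem conj_unit {G : Type*} [Group G] [Finite G] (f : G →* ℂˣ) (g : G) : conj ((f g : ℂ)) = (((f g)⁻¹ : ℂˣ) : ℂ) := by
  have h : ‖(f g : ℂ)‖ = 1 := Complex.norm_eq_one_of_pow_eq_one (n := Nat.card G)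
    (by rw [← Units.val_pow_eq_pow_val, ← map_pow, pow_card_eq_one', map_one, Units.val_one]) Nat.card_pos.ne'
  rw [Units.val_inv_eq_inv_val, Complex.inv_def, Complex.normSq_eq_norm_sq, h]
  simp

/-- A non-central element of a non-split torus. -/
theorem torus_elt (hodd : Odd (Fintype.card F)) (hC : IsCyclic C) (hcard : Nat.card C = Fintype.card F + 1)
    {c : SL(2, F)} (hc : c ∈ C) (h1 : c ≠ 1) (hm : c ≠ -1) :
    Reg c ∧ Ell c ∧ C = Subgroup.centralizer ({c} : Set SL(2, F)) := by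
  have hns := nonScalar_of_ne h1 hm
  have hle : C ≤ Subgroup.centralizer ({c} : Set SL(2, F)) := fun y hy =>
    Subgroup.mem_centralizer_singleton_iff.2 (by
      haveI := hC
      exact congrArg Subtype.val ((IsCyclic.commGroup (α := C)).mul_comm ⟨y, hy⟩ ⟨c, hc⟩))
  have hdvd := Subgroup.card_dvd_of_le hle
  rw [hcard] at hdvd
  have hq := Fintype.one_lt_card (α := F)
  rcases kinds hns with ⟨hi, hk⟩ | ⟨-, hk⟩ | ⟨-, hk⟩
  · refine ⟨reg_of_irred (two_ne_zero_of_odd hodd) ⟨hns, hi⟩, ell_of_irred hi,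
      Subgroup.eq_of_le_of_card_ge hle ?_⟩
    rw [hk, hcard]
  · rw [hk] at hdvd
    have := Nat.le_of_dvd (by omega) hdvd
    omega
  · rw [hk] at hdvd
    exfalso
    have hcop : Nat.Coprime (Fintype.card F + 1) (Fintype.card F) := by simp
    have h2 := Nat.le_of_dvd (Nat.gcd_pos_of_pos_left _ two_pos) (hcop.dvd_of_dvd_mul_right hdvd)
    have h3 := Nat.le_of_dvd two_pos (Nat.gcd_dvd_left 2 (Fintype.card F - 1))
    omega

theorem torInd_one (hcard : Nat.card C = Fintype.card F + 1) :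
    torInd θ (1 : SL(2, F)) = (Fintype.card F : ℂ) * ((Fintype.card F : ℂ) - 1) := by
  have h := Subgroup.card_mul_index C
  rw [hcard, Cfsg.Lib.Classical.SLTwoTori.card_SL2] at h
  have hq := Fintype.one_lt_card (α := F)
  have e : C.index = Fintype.card F * (Fintype.card F - 1) := by
    refine Nat.eq_of_mul_eq_mul_left (show 0 < Fintype.card F + 1 by omega) (h.trans ?_)
    obtain ⟨p, hp⟩ : ∃ p, Fintype.card F = p + 1 := ⟨Fintype.card F - 1, by omega⟩
    rw [hp, show (p + 1) ^ 2 - 1 = (p + 2) * p by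
      rw [show (p + 1) ^ 2 = (p + 2) * p + 1 by ring]; omega, Nat.add_sub_cancel]
    ring
  rw [torInd, indFun_one, map_one, e, Units.val_one, mul_one, Nat.cast_mul, cast_pred]

theorem torInd_neg (hodd : Odd (Fintype.card F)) (hcard : Nat.card C = Fintype.card F + 1) (g : SL(2, F)) :
    torInd θ (-g) = (θ ⟨-1, neg_one_mem hodd hcard⟩ : ℂ) * torInd θ g := by
  have hz := neg_one_mem hodd hcard
  have hterm : ∀ x : SL(2, F), Cfsg.extendByZero C (fun c => (θ c : ℂ)) (x⁻¹ * -g * x) =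
      (θ ⟨-1, hz⟩ : ℂ) * Cfsg.extendByZero C (fun c => (θ c : ℂ)) (x⁻¹ * g * x) := by
    intro x
    rw [show x⁻¹ * -g * x = -1 * (x⁻¹ * g * x) by simp]
    by_cases hy : x⁻¹ * g * x ∈ C
    · rw [extendByZero_mem _ (mul_mem hz hy), extendByZero_mem _ hy, ← Units.val_mul, ← map_mul]
      rfl
    · rw [extendByZero_not_mem _ hy, mul_zero, extendByZero_not_mem]
      intro h
      exact hy ((C.mul_mem_cancel_left hz).1 h)
  simp only [torInd, indFun_apply, hterm, ← Finset.mul_sum]
  ring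

theorem torInd_noncentral (hodd : Odd (Fintype.card F)) (hC : IsCyclic C) (hcard : Nat.card C = Fintype.card F + 1)
    {c : C} (h1 : (c : SL(2, F)) ≠ 1) (hm : (c : SL(2, F)) ≠ -1) :
    torInd θ (c : SL(2, F)) = (θ c : ℂ) + ((θ c)⁻¹ : ℂˣ) := by
  classical
  have h2 := two_ne_zero_of_odd hodd
  obtain ⟨hr, -, hcen⟩ := torus_elt hodd hC hcard c.2 h1 hm
  obtain ⟨y, hy⟩ := hr.exists_inv h2
  have hterm : ∀ x : SL(2, F), Cfsg.extendByZero C (fun c => (θ c : ℂ)) (x⁻¹ * c * x) =
      (if x ∈ C then (θ c : ℂ) else 0) + (if y * x ∈ C then (((θ c)⁻¹ : ℂˣ) : ℂ) else 0) := by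
    intro x
    have hA : x ∈ C ↔ x⁻¹ * c * x = c := by
      rw [SetLike.ext_iff.1 hcen x, Subgroup.mem_centralizer_singleton_iff, mul_assoc, inv_mul_eq_iff_eq_mul, eq_comm]
    have hB : y * x ∈ C ↔ x⁻¹ * c * x = (c : SL(2, F))⁻¹ := by
      rw [SetLike.ext_iff.1 hcen (y * x), Subgroup.mem_centralizer_singleton_iff]
      have hy' : (c : SL(2, F)) * y = y * (c : SL(2, F))⁻¹ := by
        have e : y * (c : SL(2, F))⁻¹ * y⁻¹ = c := by
          calc y * (c : SL(2, F))⁻¹ * y⁻¹ = (y * c * y⁻¹)⁻¹ := by group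
            _ = c := by rw [hy, inv_inv]
        exact ((mul_inv_eq_iff_eq_mul).1 e).symm
      rw [← mul_assoc, hy', mul_assoc, mul_assoc, mul_left_cancel_iff]
      constructor
      · intro e
        have e' : (c : SL(2, F)) * x = x * (c : SL(2, F))⁻¹ := by
          rw [eq_mul_inv_iff_mul_eq, mul_assoc, e, mul_inv_cancel_left]
        rw [mul_assoc, e', inv_mul_cancel_left]
      · intro e
        have e' : (c : SL(2, F)) * x = x * (c : SL(2, F))⁻¹ := by rw [← e]; group
        rw [eq_inv_mul_iff_mul_eq, ← mul_assoc, e', inv_mul_cancel_right]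
    by_cases hmem : x⁻¹ * (c : SL(2, F)) * x ∈ C
    · have hyc : Subgroup.centralizer ({(c : SL(2, F))} : Set SL(2, F)) = C := hcen.symm
      rcases hr.eq_or_inv h2 (x := x⁻¹ * c * x) (by rw [hyc]; exact hmem)
        (trace_eq_of_isConj (isConj_iff.2 ⟨x⁻¹, by group⟩)).symm with e | e
      · rw [if_pos (hA.2 e), if_neg (fun h => hr.ne_inv h2 ((hB.1 h).symm.trans e)), add_zero,
          extendByZero_mem _ hmem]
        exact congrArg (fun z => (θ z : ℂ)) (Subtype.ext e)
      · rw [if_neg (fun h => hr.ne_inv h2 (e.symm.trans (hA.1 h))), if_pos (hB.2 e), zero_add,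
          extendByZero_mem _ hmem, ← map_inv]
        exact congrArg (fun z => (θ z : ℂ)) (Subtype.ext e)
    · rw [extendByZero_not_mem _ hmem, if_neg (fun h => hmem (by rw [hA.1 h]; exact c.2)),
        if_neg (fun h => hmem (by rw [hB.1 h]; exact inv_mem c.2)), add_zero]
  have hsum : ∀ v : ℂ, ∑ x : SL(2, F), (if x ∈ C then v else 0) = (Nat.card C : ℂ) * v := fun v => by
    rw [Finset.sum_ite, Finset.sum_const_zero, add_zero, Finset.sum_const, nsmul_eq_mul,
      Nat.card_eq_fintype_card, Fintype.card_subtype]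
  rw [torInd, indFun_apply, Finset.sum_congr rfl fun x _ => hterm x, Finset.sum_add_distrib, hsum]
  rw [← Equiv.sum_comp (Equiv.mulLeft y⁻¹) fun x => if y * x ∈ C then (((θ c)⁻¹ : ℂˣ) : ℂ) else 0]
  simp only [Equiv.coe_mulLeft, mul_inv_cancel_left, hsum]
  rw [← mul_add, ← mul_assoc, inv_mul_cancel₀ (Nat.cast_ne_zero.2 Nat.card_pos.ne'), one_mul]

theorem torInd_bS (hodd : Odd (Fintype.card F)) (hC : IsCyclic C) (hcard : Nat.card C = Fintype.card F + 1)
    {a : Fˣ} {x : F} (h1 : bS a x ≠ 1) (hm : bS a x ≠ -1) : torInd θ (bS a x) = 0 := by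
  refine indFun_eq_zero_of_forall _ _ _ fun y hy => ?_
  have hne : ∀ z : SL(2, F), z = 1 ∨ z = -1 → y⁻¹ * bS a x * y ≠ z := by
    rintro z hz e
    have e' : bS a x = y * z * y⁻¹ := by rw [← e]; group
    rcases hz with rfl | rfl
    · exact h1 (by rw [e']; simp)
    · exact hm (by rw [e']; simp)
  obtain ⟨-, he, -⟩ := torus_elt hodd hC hcard hy (hne 1 (.inl rfl)) (hne (-1) (.inr rfl))
  have hi := (irred_of_no_eigen he).2
  rw [trace_eq_of_isConj (isConj_iff.2 ⟨y, by group⟩ : IsConj (y⁻¹ * bS a x * y) (bS a x))] at hi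
  refine hi (a : F) ?_
  simp [Matrix.trace_fin_two]
  field_simp
  ring

theorem exists_sign (hodd : Odd (Fintype.card F)) (hcard : Nat.card C = Fintype.card F + 1) :
    ∃ β : MulChar F ℂ, β (-1) = (θ ⟨-1, neg_one_mem hodd hcard⟩ : ℂ) := by
  have hsq : (θ ⟨-1, neg_one_mem hodd hcard⟩ : ℂ) * (θ ⟨-1, neg_one_mem hodd hcard⟩ : ℂ) = 1 := by
    rw [← Units.val_mul, ← map_mul,
      show (⟨-1, neg_one_mem hodd hcard⟩ * ⟨-1, neg_one_mem hodd hcard⟩ : C) = 1 from Subtype.ext (by simp),
      map_one, Units.val_one]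
  rcases mul_self_eq_one_iff.1 hsq with h | h
  · exact ⟨1, by rw [h, MulChar.one_apply (isUnit_one.neg)]⟩
  · obtain ⟨β, hβ⟩ := MulChar.exists_apply_ne_one_of_hasEnoughRootsOfUnity F ℂ (a := (-1 : F))
      (fun e => two_ne_zero_of_odd hodd (by linear_combination -e))
    have e : β (-1) * β (-1) = 1 := by rw [← map_mul, neg_one_mul, neg_neg, map_one]
    exact ⟨β, by rw [h]; exact (mul_self_eq_one_iff.1 e).resolve_left hβ⟩

theorem conj_pm {β : MulChar F ℂ} : conj (β (-1)) * β (-1) = 1 := by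
  rw [mul_comm]; exact apply_mul_conj β (neg_ne_zero.2 one_ne_zero)

/-- The virtual character attached to a character of a non-split torus. -/
theorem torus_char (hodd : Odd (Fintype.card F)) (hC : IsCyclic C) (hcard : Nat.card C = Fintype.card F + 1)
    (hθ : θ ≠ 1) : ∃ X : SL(2, F) → ℂ,
      Cfsg.IsGeneralizedCharacter SL(2, F) X ∧ X 1 = ((Fintype.card F - 1 : ℕ) : ℂ) ∧
      (∀ g, X (-g) = (θ ⟨-1, neg_one_mem hodd hcard⟩ : ℂ) * X g) ∧
      (∀ a : Fˣ, a ≠ a⁻¹ → X (bS a 0) = 0) ∧ (∀ x : F, x ≠ 0 → X (bS 1 x) = -1) ∧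
      (∀ c : C, (c : SL(2, F)) ≠ 1 → (c : SL(2, F)) ≠ -1 → X c = -((θ c : ℂ) + ((θ c)⁻¹ : ℂˣ))) ∧
      (∀ α : MulChar F ℂ, Cfsg.classInner (PS α) X = 0) ∧
      Cfsg.classInner X (fun _ => 1) = 0 ∧
      ((∀ c, θ c * θ c = 1) → Cfsg.classInner X X = 2) ∧
      ((∃ c, θ c * θ c ≠ 1) → Cfsg.IsIrrCharacter SL(2, F) X) := by
  classical
  have hz := neg_one_mem hodd hcard
  obtain ⟨β, hβ⟩ := exists_sign θ hodd hcard
  set ω : ℂ := (θ ⟨-1, hz⟩ : ℂ) with hω
  let A : SL(2, F) → ℂ := fun g => W g * PS β g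
  let D : SL(2, F) → ℂ := torInd θ
  let X : SL(2, F) → ℂ := A - D
  have hq := Fintype.one_lt_card (α := F)
  have hgenA : Cfsg.IsGeneralizedCharacter SL(2, F) A :=
    IsGeneralizedCharacter.mul isGeneralized_W (IsCharacter.isGeneralized (isCharacter_PS β))
  have hgenD : Cfsg.IsGeneralizedCharacter SL(2, F) D :=
    IsCharacter.isGeneralized (IsCharacter.indFun (isCharacter_linear θ))
  have hgen : Cfsg.IsGeneralizedCharacter SL(2, F) X := IsGeneralizedCharacter.sub hgenA hgenD
  have cA := isClassFunction_generalized hgenA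
  have cD := isClassFunction_generalized hgenD
  have cX := isClassFunction_generalized hgen
  have hA1 : A 1 = ((Fintype.card F : ℂ) - 1) * ((Fintype.card F : ℂ) + 1) := by simp [A, W_one, PS_one]
  have hD1 : D 1 = (Fintype.card F : ℂ) * ((Fintype.card F : ℂ) - 1) := torInd_one θ hcard
  have hX1 : X 1 = (Fintype.card F : ℂ) - 1 := by simp only [X, Pi.sub_apply, hA1, hD1]; ring
  have hAn : ∀ g, A (-g) = ω * A g := fun g => by
    simp only [A, W_neg, PS_neg, hβ]; ring
  have hDn : ∀ g, D (-g) = ω * D g := torInd_neg θ hodd hcard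
  have hXn : ∀ g, X (-g) = ω * X g := fun g => by simp only [X, Pi.sub_apply, hAn, hDn]; ring
  have hne1 : ∀ (a : Fˣ) (x : F), a ≠ a⁻¹ → bS a x ≠ 1 ∧ bS a x ≠ -1 := by
    intro a x ha
    constructor <;> intro e <;>
      · have e' := congrArg (fun z : SL(2, F) => (z : Matrix (Fin 2) (Fin 2) F) 0 0) e
        simp at e'
        exact ha ((units_inv_iff hodd a).2 (by simp [Units.ext_iff, e']))
  have hXa : ∀ a : Fˣ, a ≠ a⁻¹ → X (bS a 0) = 0 := fun a ha => by
    simp only [X, A, D, Pi.sub_apply, W_regular ha, torInd_bS θ hodd hC hcard (hne1 a 0 ha).1 (hne1 a 0 ha).2,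
      zero_mul, sub_zero]
  have hun : ∀ x : F, x ≠ 0 → bS 1 x ≠ 1 ∧ bS 1 x ≠ -1 := by
    intro x hx
    constructor <;> intro e <;>
      · have e' := congrArg (fun z : SL(2, F) => (z : Matrix (Fin 2) (Fin 2) F) 0 1) e
        simp at e'
        exact hx e'
  have hAu : ∀ x : F, x ≠ 0 → A (bS 1 x) = -1 := fun x hx => by
    simp only [A, W_unip hx, PS_bS_unip β hx]; ring
  have hXu : ∀ x : F, x ≠ 0 → X (bS 1 x) = -1 := fun x hx => by
    simp only [X, Pi.sub_apply, D, torInd_bS θ hodd hC hcard (hun x hx).1 (hun x hx).2, hAu x hx, sub_zero]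
  have hAc : ∀ c : C, (c : SL(2, F)) ≠ 1 → (c : SL(2, F)) ≠ -1 → A c = 0 := fun c h1 hm => by
    simp only [A, PS_ell β (torus_elt hodd hC hcard c.2 h1 hm).2.1, mul_zero]
  have hXc : ∀ c : C, (c : SL(2, F)) ≠ 1 → (c : SL(2, F)) ≠ -1 → X c = -((θ c : ℂ) + ((θ c)⁻¹ : ℂˣ)) := by
    intro c h1 hm
    simp only [X, Pi.sub_apply, hAc c h1 hm, D, torInd_noncentral θ hodd hC hcard h1 hm]; ring
  have hsumU : ∀ f : SL(2, F) → ℂ, ∀ v : ℂ, (∀ x : F, x ≠ 0 → f (bS 1 x) = v) →
      ∑ x : F, f (bS 1 x) = f 1 + ((Fintype.card F : ℂ) - 1) * v := by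
    intro f v hv
    rw [← Finset.add_sum_erase _ _ (Finset.mem_univ (0 : F)), bS_one,
      Finset.sum_congr rfl fun x hx => hv x (Finset.mem_erase.1 hx).1, Finset.sum_const,
      Finset.card_erase_of_mem (Finset.mem_univ _), Finset.card_univ, nsmul_eq_mul, cast_pred]
  have hωω : conj ω * ω = 1 := by rw [← hβ]; exact conj_pm
  have hB : (Nat.card ↥(borel F) : ℂ) = ((Fintype.card F : ℂ) - 1) * (Fintype.card F : ℂ) := by
    rw [card_borelS, Nat.cast_mul, cast_pred]
  have hB0 : ((Fintype.card F : ℂ) - 1) * (Fintype.card F : ℂ) ≠ 0 := by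
    rw [← hB]; exact Nat.cast_ne_zero.2 Nat.card_pos.ne'
  have hPSX : ∀ α : MulChar F ℂ, Cfsg.classInner (PS α) X = 0 := by
    intro α
    rw [classInner_PS_fun α cX, sum_units_pm hodd cX hXa α]
    simp only [hXn, ← Finset.mul_sum, hsumU X (-1) hXu, hX1]
    simp
  have hW1 : Cfsg.classInner A (fun _ => 1) = 0 := by
    have e : Cfsg.classInner A (fun _ => 1) = Cfsg.classInner (PS β) (W (F := F)) := by
      simp only [classInner_def, A, map_one, mul_one, conj_W]
      congr 1
      exact Finset.sum_congr rfl fun g _ => mul_comm _ _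
    rw [e, classInner_PS_fun β isClassFunction_W, sum_units_pm hodd isClassFunction_W (fun a ha => W_regular ha) β]
    simp only [W_neg, hsumU W (-1) (fun x hx => W_unip hx), W_one]
    simp
  have hAA : Cfsg.classInner A A = 2 * (Fintype.card F : ℂ) := by
    let f : SL(2, F) → ℂ := fun g => W g * W g * PS β g
    have cf : Cfsg.IsClassFunction SL(2, F) f := fun g h => by
      simp only [f]; rw [isClassFunction_W g h, isClassFunction_PS β g h]
    have e : Cfsg.classInner A A = Cfsg.classInner (PS β) f := by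
      simp only [classInner_def, A, f, map_mul, conj_W]
      congr 1
      exact Finset.sum_congr rfl fun g _ => by ring
    rw [e, classInner_PS_fun β cf, sum_units_pm hodd cf (fun a ha => by simp [f, W_regular ha]) β,
      hsumU f 1 (fun x hx => by simp only [f, W_unip hx, PS_bS_unip β hx]; ring)]
    have hn : ∑ x : F, f (-bS 1 x) = ω * ∑ x : F, f (bS 1 x) := by
      rw [Finset.mul_sum]
      exact Finset.sum_congr rfl fun x _ => by simp only [f, W_neg, PS_neg, hβ]; ring
    rw [hn, hsumU f 1 (fun x hx => by simp only [f, W_unip hx, PS_bS_unip β hx]; ring), hβ, map_mul, ← mul_assoc ω,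
      mul_comm ω (conj ω), hωω, hB]
    simp only [f, W_one, PS_one]
    simp only [map_add, map_sub, map_mul, Complex.conj_natCast, map_one, one_mul, mul_one]
    have hq1 : (Fintype.card F : ℂ) - 1 ≠ 0 := left_ne_zero_of_mul hB0
    field_simp
    ring
  haveI : Fintype ↥C := Fintype.ofFinite _
  let e0 : C := 1
  let z0 : C := ⟨-1, hz⟩
  have hne0 : e0 ≠ z0 := fun e => by
    have e' := congrArg (fun y : C => ((y : SL(2, F)) : Matrix (Fin 2) (Fin 2) F) 0 0) e
    simp [e0, z0] at e'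
    exact two_ne_zero_of_odd hodd (by linear_combination e')
  have hother : ∀ c : C, c ∉ ({e0, z0} : Finset C) → (c : SL(2, F)) ≠ 1 ∧ (c : SL(2, F)) ≠ -1 := by
    intro c hc
    simp only [Finset.mem_insert, Finset.mem_singleton, not_or] at hc
    exact ⟨fun e => hc.1 (Subtype.ext e), fun e => hc.2 (Subtype.ext e)⟩
  have hinner : ∀ f : SL(2, F) → ℂ, Cfsg.IsClassFunction SL(2, F) f →
      Cfsg.classInner D f = ((Fintype.card F : ℂ) + 1)⁻¹ * ∑ c : C, (θ c : ℂ) * conj (f c) := by
    intro f hf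
    show Cfsg.classInner (Cfsg.indFun C fun c => (θ c : ℂ)) f = _
    rw [frobenius_reciprocity C _ hf, classInner_def, hcard, Nat.cast_add, Nat.cast_one]
  have hθsum : ∑ c : C, (θ c : ℂ) = 0 := by
    exact sum_hom_units_eq_zero ((Units.coeHom ℂ).comp θ) fun e => hθ (MonoidHom.ext fun c =>
      Units.ext (by simpa using DFunLike.congr_fun e c))
  have hD0 : Cfsg.classInner D (fun _ => 1) = 0 := by
    rw [hinner _ (fun _ _ => rfl)]; simp [hθsum]
  have hDA : Cfsg.classInner D A = 2 * ((Fintype.card F : ℂ) - 1) := by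
    rw [hinner A cA, ← Finset.sum_subset (Finset.subset_univ ({e0, z0} : Finset C))
      (fun c _ hc => by rw [hAc c (hother c hc).1 (hother c hc).2, map_zero, mul_zero]), Finset.sum_pair hne0,
      show A (z0 : SL(2, F)) = ω * A 1 from hAn 1, show ((e0 : SL(2, F))) = 1 from rfl,
      show (θ z0 : ℂ) = ω from rfl, show θ e0 = 1 from map_one θ, Units.val_one]
    simp only [A, W_one, PS_one, map_mul, map_add, map_sub, Complex.conj_natCast, map_one, one_mul]
    have : (Fintype.card F : ℂ) + 1 ≠ 0 := Nat.cast_add_one_ne_zero _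
    rw [mul_comm, ← div_eq_mul_inv, div_eq_iff this]
    linear_combination ((Fintype.card F : ℂ) - 1) * ((Fintype.card F : ℂ) + 1) * hωω
  have hDD : Cfsg.classInner D D = (2 * (Fintype.card F : ℂ) ^ 2 - (Fintype.card F : ℂ) - 3 +
      ∑ c : C, (θ c : ℂ) * θ c) / ((Fintype.card F : ℂ) + 1) := by
    rw [hinner D cD, inv_mul_eq_div]
    congr 1
    have hval : ∀ c : C, (θ c : ℂ) * conj (D c) = 1 + (θ c : ℂ) * θ c +
        if c ∈ ({e0, z0} : Finset C) then (Fintype.card F : ℂ) * ((Fintype.card F : ℂ) - 1) - 2 else 0 := by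
      intro c
      by_cases hc : c ∈ ({e0, z0} : Finset C)
      · rw [if_pos hc]
        simp only [Finset.mem_insert, Finset.mem_singleton] at hc
        rcases hc with rfl | rfl
        · rw [show ((e0 : SL(2, F))) = 1 from rfl, hD1, show θ e0 = 1 from map_one θ]
          simp only [Units.val_one, map_mul, map_sub, Complex.conj_natCast, map_one]
          ring
        · rw [show D (z0 : SL(2, F)) = ω * D 1 from hDn 1, show (θ z0 : ℂ) = ω from rfl, hD1, map_mul,
            ← mul_assoc ω, mul_comm ω (conj ω), hωω]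
          have hω2 : ω * ω = 1 := by
            rw [hω, ← Units.val_mul, ← map_mul,
              show (⟨-1, hz⟩ * ⟨-1, hz⟩ : C) = 1 from Subtype.ext (by simp), map_one, Units.val_one]
          simp only [map_mul, map_sub, Complex.conj_natCast, map_one, hω2]
          ring
      · rw [if_neg hc, add_zero, show D (c : SL(2, F)) = _ from
          torInd_noncentral θ hodd hC hcard (hother c hc).1 (hother c hc).2, map_add, conj_unit, mul_add,
          ← conj_unit, Complex.conj_conj, conj_unit, ← Units.val_mul, mul_inv_cancel, Units.val_one]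
    simp only [hval, Finset.sum_add_distrib, Finset.sum_ite_mem, Finset.univ_inter, Finset.sum_const,
      Finset.card_pair hne0, Finset.card_univ, nsmul_eq_mul, ← Nat.card_eq_fintype_card (α := C), hcard]
    push_cast
    ring
  have hnorm : Cfsg.classInner X X = 1 + (∑ c : C, (θ c : ℂ) * θ c) / ((Fintype.card F : ℂ) + 1) := by
    simp only [X]
    rw [classInner_sub_left, classInner_sub_right, classInner_sub_right, ← classInner_conj_symm D A, hAA, hDA, hDD]
    simp only [map_mul, map_sub, Complex.conj_natCast, map_one, map_ofNat]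
    have : (Fintype.card F : ℂ) + 1 ≠ 0 := Nat.cast_add_one_ne_zero _
    field_simp
    ring
  refine ⟨X, hgen, by rw [hX1, cast_pred], hXn, hXa, hXu, hXc, hPSX, ?_, fun h => ?_, fun h => ?_⟩
  · simp only [X]; rw [classInner_sub_left, hW1, hD0, sub_zero]
  · rw [hnorm]
    have : (Fintype.card F : ℂ) + 1 ≠ 0 := Nat.cast_add_one_ne_zero _
    simp only [← Units.val_mul, h, Units.val_one, Finset.sum_const, Finset.card_univ, nsmul_eq_mul, mul_one,
      ← Nat.card_eq_fintype_card (α := C), hcard]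
    push_cast
    field_simp
    ring
  · have h0 : ∑ c : C, (θ c : ℂ) * θ c = 0 := by
      obtain ⟨c, hc⟩ := h
      have := sum_hom_units_eq_zero ((Units.coeHom ℂ).comp (θ * θ))
        (fun e => hc (Units.ext (by simpa using DFunLike.congr_fun e c)))
      simpa using this
    rw [h0, zero_div, add_zero] at hnorm
    rcases isIrr_or_neg_of_norm_one hgen hnorm with h' | h'
    · exact h'
    · exfalso
      obtain ⟨n, hn⟩ := IsCharacter.apply_one (isCharacter_of_irr h')
      rw [Pi.neg_apply, hX1, ← cast_pred, neg_eq_iff_add_eq_zero, ← Nat.cast_add, Nat.cast_eq_zero] at hn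
      omega

end Cfsg.Lib.GLTwo.SCh
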