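import Cfsg.Agent.Known.SLTwo.Chars.SLSeries
import Cfsg.Agent.Known.SLTwo.Chars.GLSeries
import Cfsg.Agent.Chars.Count
import Cfsg.Agent.Chars.Values

/-! The restriction of a character of SL₂ to the unipotent group. -/

set_option autoImplicit false
set_option linter.unusedSectionVars false

open Matrix
open scoped ComplexConjugate MatrixGroups

namespace Cfsg.Lib.GLTwo.SCh

open Cfsg.Lib.CharTools Cfsg.Lib.Chars

variable {F : Type*} [Field F]

/-- The outer diagonal automorphism. -/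
def twist (ν : Fˣ) : SL(2, F) ≃* SL(2, F) where
  toFun g := ⟨!![(g : Matrix (Fin 2) (Fin 2) F) 0 0, (ν : F) * (g : Matrix (Fin 2) (Fin 2) F) 0 1;
      ((ν⁻¹ : Fˣ) : F) * (g : Matrix (Fin 2) (Fin 2) F) 1 0, (g : Matrix (Fin 2) (Fin 2) F) 1 1], by
    have h := g.2
    rw [Matrix.det_fin_two] at h
    simp [Matrix.det_fin_two]
    field_simp
    linear_combination h⟩
  invFun g := ⟨!![(g : Matrix (Fin 2) (Fin 2) F) 0 0, ((ν⁻¹ : Fˣ) : F) * (g : Matrix (Fin 2) (Fin 2) F) 0 1;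
      (ν : F) * (g : Matrix (Fin 2) (Fin 2) F) 1 0, (g : Matrix (Fin 2) (Fin 2) F) 1 1], by
    have h := g.2
    rw [Matrix.det_fin_two] at h
    simp [Matrix.det_fin_two]
    field_simp
    linear_combination h⟩
  left_inv g := by
    refine Subtype.ext ?_
    ext i j; fin_cases i <;> fin_cases j <;> simp
  right_inv g := by
    refine Subtype.ext ?_
    ext i j; fin_cases i <;> fin_cases j <;> simp
  map_mul' g h := by
    refine Subtype.ext ?_
    change _ = (!![_, _; _, _] : Matrix (Fin 2) (Fin 2) F) * !![_, _; _, _]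
    ext i j; fin_cases i <;> fin_cases j <;>
      simp [Matrix.mul_apply, Fin.sum_univ_two] <;> field_simp <;> ring

@[simp] theorem coe_twist (ν : Fˣ) (g : SL(2, F)) :
    ((twist ν g : SL(2, F)) : Matrix (Fin 2) (Fin 2) F) = !![(g : Matrix (Fin 2) (Fin 2) F) 0 0,
      (ν : F) * (g : Matrix (Fin 2) (Fin 2) F) 0 1;
      ((ν⁻¹ : Fˣ) : F) * (g : Matrix (Fin 2) (Fin 2) F) 1 0, (g : Matrix (Fin 2) (Fin 2) F) 1 1] := rfl

theorem twist_bS (ν a : Fˣ) (x : F) : twist ν (bS a x) = bS a ((ν : F) * x) := by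
  refine Subtype.ext ?_
  simp

theorem toGL_twist (ν : Fˣ) (g : SL(2, F)) :
    Matrix.SpecialLinearGroup.toGL (twist ν g) =
      Ch.bG ν 1 0 * Matrix.SpecialLinearGroup.toGL g * (Ch.bG ν 1 0)⁻¹ := by
  rw [eq_mul_inv_iff_mul_eq]
  refine Units.ext ?_
  simp only [Units.val_mul, Ch.coe_bG]
  change ((twist ν g : SL(2, F)) : Matrix (Fin 2) (Fin 2) F) * _ = _ * (g : Matrix (Fin 2) (Fin 2) F)
  ext i j; fin_cases i <;> fin_cases j <;> simp [Matrix.mul_apply, Fin.sum_univ_two] <;> field_simp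

theorem isConj_bS_regular {a : Fˣ} (h : a ≠ a⁻¹) (x : F) : IsConj (bS a 0) (bS a x) := by
  have h' : ((a⁻¹ : Fˣ) : F) - a ≠ 0 := sub_ne_zero.2 fun e => h (Units.ext e.symm)
  refine isConj_iff.2 ⟨bS 1 (x / (((a⁻¹ : Fˣ) : F) - a)), ?_⟩
  rw [mul_inv_eq_iff_eq_mul, bS_mul, bS_mul, one_mul, mul_one]
  congr 1
  simp only [mul_zero, zero_add, inv_one, Units.val_one, mul_one]
  rw [mul_comm (a : F), ← sub_eq_iff_eq_add', ← mul_sub, div_mul_cancel₀ _ h']

theorem isConj_bS_unip (x : F) (s : Fˣ) : IsConj (bS 1 x) (bS 1 (x * s * s)) := by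
  refine isConj_iff.2 ⟨bS s 0, ?_⟩
  rw [mul_inv_eq_iff_eq_mul, bS_mul, bS_mul, one_mul, mul_one]
  congr 1
  simp [mul_comm x]


theorem bS_one_eq (x : F) : ((bS 1 x : SL(2, F)) : Matrix (Fin 2) (Fin 2) F) = !![1, x; 0, 1] := by simp

variable [Fintype F] [DecidableEq F]

theorem apply_square {f : SL(2, F) → ℂ} (hf : Cfsg.IsClassFunction SL(2, F) f) {x y : F} (hx : x ≠ 0) (hy : y ≠ 0)
    (h : IsSquare (y / x)) : f (bS 1 y) = f (bS 1 x) := by
  obtain ⟨s, hs⟩ := h
  have hs0 : s ≠ 0 := by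
    rintro rfl
    simp [hx, hy] at hs
  have e : y = x * (Units.mk0 s hs0 : Fˣ) * (Units.mk0 s hs0 : Fˣ) := by
    rw [Units.val_mk0, mul_assoc, ← hs, mul_div_cancel₀ _ hx]
  rw [e]
  exact (classFunction_eq_of_isConj hf (isConj_bS_unip x _)).symm

/-- The quadratic character with complex values. -/
noncomputable def quad (F : Type*) [Field F] [Fintype F] [DecidableEq F] : MulChar F ℂ :=
  (quadraticChar F).ringHomComp (Int.castRingHom ℂ)

theorem quad_apply (x : F) : quad F x = (quadraticChar F x : ℂ) := by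
  simp [quad]

theorem quad_ne_one (hodd : Odd (Fintype.card F)) : quad F ≠ 1 := by
  intro h
  obtain ⟨ν, hν⟩ := quadraticChar_exists_neg_one' (F := F) fun e =>
    (Nat.not_even_iff_odd.2 hodd) (Nat.even_iff.2 (FiniteField.even_card_of_char_two e))
  have e := congrArg (fun χ : MulChar F ℂ => χ (ν : F)) h
  simp [quad_apply, hν] at e
  norm_num at e

theorem ringChar_ne_two (hodd : Odd (Fintype.card F)) : ringChar F ≠ 2 := fun e =>
  (Nat.not_even_iff_odd.2 hodd) (Nat.even_iff.2 (FiniteField.even_card_of_char_two e))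

theorem exists_nonsquare_unit (hodd : Odd (Fintype.card F)) : ∃ ν : Fˣ, quadraticChar F (ν : F) = -1 :=
  quadraticChar_exists_neg_one' (ringChar_ne_two hodd)

theorem not_isSquare_of {ν : Fˣ} (h : quadraticChar F (ν : F) = -1) : ¬ IsSquare (ν : F) :=
  quadraticChar_neg_one_iff_not_isSquare.1 h

/-- The values of a class function on the unipotent group. -/
theorem apply_bS_unip {f : SL(2, F) → ℂ} (hf : Cfsg.IsClassFunction SL(2, F) f) {ν : Fˣ}
    (hν : quadraticChar F (ν : F) = -1) (x : F) :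
    f (bS 1 x) = (if x = 0 then f 1 - (f (bS 1 1) + f (bS 1 (ν : F))) / 2 else 0) +
      (f (bS 1 1) + f (bS 1 (ν : F))) / 2 + quad F x * ((f (bS 1 1) - f (bS 1 (ν : F))) / 2) := by
  by_cases hx : x = 0
  · subst hx
    rw [bS_one, if_pos rfl, quad_apply]
    simp
  rw [if_neg hx, zero_add, quad_apply]
  rcases quadraticChar_dichotomy hx with h | h <;> rw [h]
  · rw [apply_square hf one_ne_zero hx (by rw [div_one]; exact (quadraticChar_one_iff_isSquare hx).1 h)]
    push_cast; ring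
  · rw [apply_square hf ν.ne_zero hx ((quadraticChar_one_iff_isSquare (div_ne_zero hx ν.ne_zero)).1 (by
      rw [div_eq_mul_inv, map_mul, h, quadraticChar_neg_one_iff_not_isSquare.2 (by
        simpa using not_isSquare_of hν)]
      norm_num))]
    push_cast; ring

/-- The linear character of the unipotent group attached to an additive character. -/
noncomputable def addHom (ψ : AddChar F ℂ) : Multiplicative F →* ℂˣ := ψ.toMonoidHom.toHomUnits

theorem addHom_apply (ψ : AddChar F ℂ) (x : Multiplicative F) : ((addHom ψ x : ℂˣ) : ℂ) = ψ x.toAdd := rfl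

/-- The restriction of a character to the unipotent group, for odd `q`. -/
theorem unip_data (hodd : Odd (Fintype.card F)) {f : SL(2, F) → ℂ} (hf : Cfsg.IsCharacter SL(2, F) f) {ν : Fˣ}
    (hν : quadraticChar F (ν : F) = -1) :
    ∃ a k k' : ℕ, ∑ x : F, f (bS 1 x) = (Fintype.card F : ℂ) * a ∧
      f 1 = (a : ℂ) + ((Fintype.card F - 1) / 2 : ℕ) * ((k : ℂ) + k') ∧
      f (bS 1 1) + f (bS 1 (ν : F)) = 2 * (a : ℂ) - ((k : ℂ) + k') ∧
      (f (bS 1 1) - f (bS 1 (ν : F))) ^ 2 =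
        (-1 : ℂ) ^ ((Fintype.card F - 1) / 2) * (Fintype.card F : ℂ) * ((k : ℂ) - k') ^ 2 := by
  classical
  have hcf := isClassFunction_isChar hf
  have hval := apply_bS_unip hcf hν
  obtain ⟨h, hh⟩ := hodd
  have hh' : (Fintype.card F - 1) / 2 = h := by omega
  have hq0 : (Fintype.card F : ℂ) ≠ 0 := Nat.cast_ne_zero.2 Fintype.card_ne_zero
  have hqh : (Fintype.card F : ℂ) = 2 * (h : ℂ) + 1 := by rw [hh]; push_cast; ring
  generalize hs : f (bS 1 1) + f (bS 1 (ν : F)) = s at hval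
  generalize hd : f (bS 1 1) - f (bS 1 (ν : F)) = d at hval
  have hw : ∀ w : F → ℂ, ∑ x : F, f (bS 1 x) * w x =
      (f 1 - s / 2) * w 0 + s / 2 * ∑ x : F, w x + d / 2 * ∑ x : F, quad F x * w x := by
    intro w
    simp only [hval, add_mul, ite_mul, zero_mul, Finset.sum_add_distrib, Finset.sum_ite_eq', Finset.mem_univ,
      if_true, Finset.mul_sum]
    congr 1
    exact Finset.sum_congr rfl fun x _ => by ring
  have hcard : Nat.card (Multiplicative F) = Fintype.card F := by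
    rw [Nat.card_eq_fintype_card, Fintype.card_multiplicative]
  have hmult : ∀ ψ : AddChar F ℂ, ∃ m : ℕ, ∑ x : F, f (bS 1 x) * ψ x = (Fintype.card F : ℂ) * m := by
    intro ψ
    obtain ⟨m, hm⟩ := exists_mult_linear hf uS (addHom ψ⁻¹)
    rw [hcard] at hm
    refine ⟨m, ?_⟩
    rw [← hm]
    refine Fintype.sum_equiv Multiplicative.ofAdd _ _ fun x => ?_
    rw [uS_apply, addHom_apply, toAdd_ofAdd, AddChar.inv_apply, AddChar.map_neg_eq_conj, Complex.conj_conj]
  obtain ⟨ψ, hψ1⟩ := (AddChar.exists_apply_ne_zero (α := F) (a := 1)).2 one_ne_zero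
  have hψ : ψ ≠ 1 := fun e => hψ1 (by rw [e]; simp)
  have hprim := AddChar.IsPrimitive.of_ne_one hψ
  obtain ⟨a, ha⟩ := hmult 1
  obtain ⟨k, hk⟩ := hmult ψ
  obtain ⟨k', hk'⟩ := hmult (AddChar.mulShift ψ (ν : F))
  have hsum : ∀ φ : AddChar F ℂ, φ ≠ 1 → ∑ x : F, φ x = 0 := fun φ hφ => AddChar.sum_eq_zero_of_ne_one hφ
  rw [hw, AddChar.map_zero_eq_one] at ha hk hk'
  rw [hsum ψ hψ] at hk
  rw [hsum _ (hprim ν.ne_zero)] at hk'
  have hgs : ∑ x : F, quad F x * ψ x = gaussSum (quad F) ψ := rfl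
  have hgs' : ∑ x : F, quad F x * AddChar.mulShift ψ (ν : F) x = gaussSum (quad F) (AddChar.mulShift ψ (ν : F)) := rfl
  have hshift := gaussSum_mulShift (quad F) ψ ν
  rw [quad_apply, hν, Int.cast_neg, Int.cast_one, neg_one_mul, neg_eq_iff_eq_neg] at hshift
  rw [hgs'] at hk'
  rw [hshift] at hk'
  rw [hgs] at hk
  have hq2 := ringChar_ne_two ⟨h, hh⟩
  have hG2 := gaussSum_sq (quad_ne_one ⟨h, hh⟩) ((quadraticChar_isQuadratic F).comp _) hprim
  change gaussSum (quad F) ψ ^ 2 = quad F (-1) * (Fintype.card F : ℂ) at hG2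
  rw [quad_apply, quadraticChar_neg_one hq2, ZMod.χ₄_eq_neg_one_pow (by omega),
    show Fintype.card F / 2 = h by omega] at hG2
  push_cast at hG2
  have h1 : ∑ x : F, quad F x * (1 : AddChar F ℂ) x = 0 := by
    simpa using MulChar.sum_eq_zero_of_ne_one (quad_ne_one (F := F) ⟨h, hh⟩)
  rw [h1] at ha
  simp only [AddChar.one_apply, Finset.sum_const, Finset.card_univ, nsmul_eq_mul, mul_one, mul_zero, add_zero] at ha hk hk'
  rw [hh']
  have hsum1 : ∑ x : F, f (bS 1 x) = (Fintype.card F : ℂ) * a := by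
    have := hw fun _ => 1
    simp only [mul_one, Finset.sum_const, Finset.card_univ, nsmul_eq_mul] at this
    rw [this, MulChar.sum_eq_zero_of_ne_one (quad_ne_one (F := F) ⟨h, hh⟩), mul_zero, add_zero]
    exact ha
  have hkk : (k : ℂ) + k' = 2 * (a : ℂ) - s :=
    mul_left_cancel₀ hq0 (by linear_combination -hk - hk' + 2 * ha)
  refine ⟨a, k, k', hsum1, ?_, ?_, ?_⟩
  · rw [hkk]; rw [hqh] at ha; linear_combination ha
  · linear_combination hkk
  · have hdG : d * gaussSum (quad F) ψ = (Fintype.card F : ℂ) * ((k : ℂ) - k') := by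
      linear_combination hk - hk'
    have hε : ((-1 : ℂ) ^ h) * (-1 : ℂ) ^ h = 1 := by rw [← mul_pow]; norm_num
    refine mul_left_cancel₀ hq0 ?_
    linear_combination ((-1 : ℂ) ^ h) * (d * gaussSum (quad F) ψ + (Fintype.card F : ℂ) * ((k : ℂ) - k')) * hdG
      - ((-1 : ℂ) ^ h * d ^ 2) * hG2 - ((Fintype.card F : ℂ) * d ^ 2) * hε

/-- A character trivial on the unipotent group is trivial. -/
theorem trivial_of_unip {f : SL(2, F) → ℂ} (hf : Cfsg.IsCharacter SL(2, F) f) (h : ∀ x : F, f (bS 1 x) = f 1)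
    (g : SL(2, F)) : f g = f 1 := by
  have := kerSubgroup_normal hf
  have hu : ∀ x : F, bS 1 x ∈ kerSubgroup f hf := fun x => (mem_kerSubgroup hf _).2 (h x)
  let w : SL(2, F) := ⟨!![0, -1; 1, 0], by simp [Matrix.det_fin_two]⟩
  let L : F → SL(2, F) := fun x => ⟨!![1, 0; x, 1], by simp [Matrix.det_fin_two]⟩
  have hl : ∀ x : F, L x ∈ kerSubgroup f hf := fun x => by
    have hL : L x = w * bS 1 (-x) * w⁻¹ := by
      rw [eq_mul_inv_iff_mul_eq]
      refine Subtype.ext ?_
      show (!![1, 0; x, 1] : Matrix (Fin 2) (Fin 2) F) * !![0, -1; 1, 0] =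
        !![0, -1; 1, 0] * !![((1 : Fˣ) : F), -x; 0, (((1 : Fˣ)⁻¹ : Fˣ) : F)]
      ext i j; fin_cases i <;> fin_cases j <;> simp [Matrix.mul_apply, Fin.sum_univ_two]
    rw [hL]
    exact Subgroup.Normal.conj_mem inferInstance _ (hu _) w
  have key : ∀ g : SL(2, F), (g : Matrix (Fin 2) (Fin 2) F) 1 0 ≠ 0 → g ∈ kerSubgroup f hf := by
    intro g hc
    generalize hcd : (g : Matrix (Fin 2) (Fin 2) F) 1 0 = c at hc
    have e : g = bS 1 (((g : Matrix (Fin 2) (Fin 2) F) 0 0 - 1) / c) * L c *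
        bS 1 (((g : Matrix (Fin 2) (Fin 2) F) 1 1 - 1) / c) := by
      refine Subtype.ext ?_
      have hd := g.2
      rw [Matrix.det_fin_two, hcd] at hd
      change _ = (!![_, _; _, _] : Matrix (Fin 2) (Fin 2) F) * !![_, _; _, _] * !![_, _; _, _]
      ext i j
      fin_cases i <;> fin_cases j <;>
        simp [Matrix.mul_apply, Fin.sum_univ_two, hcd] <;> field_simp <;>
        first | linear_combination hd | linear_combination -hd | ring
    rw [e]
    exact mul_mem (mul_mem (hu _) (hl _)) (hu _)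
  refine (mem_kerSubgroup hf g).1 ?_
  by_cases hc : (g : Matrix (Fin 2) (Fin 2) F) 1 0 = 0
  · have h2 : g * L 1 ∈ kerSubgroup f hf := key _ (by
      have hd := g.2
      rw [Matrix.det_fin_two, hc, mul_zero, sub_zero] at hd
      show ((g : Matrix (Fin 2) (Fin 2) F) * (!![1, 0; 1, 1] : Matrix (Fin 2) (Fin 2) F) : Matrix (Fin 2) (Fin 2) F) 1 0 ≠ 0
      simp [Matrix.mul_apply, Fin.sum_univ_two, hc]
      exact right_ne_zero_of_mul_eq_one hd)
    exact ((kerSubgroup f hf).mul_mem_cancel_right (hl 1)).1 h2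
  · exact key g hc

theorem eq_principal_of_unip {f : SL(2, F) → ℂ} (hf : Cfsg.IsIrrCharacter SL(2, F) f)
    (h : ∀ x : F, f (bS 1 x) = f 1) : f = fun _ => 1 := by
  classical
  by_contra hne
  have e := classInner_irrChar hf (isIrrCharacter_one (G := SL(2, F)))
  rw [if_neg hne, classInner_def] at e
  simp only [map_one, mul_one, trivial_of_unip (isCharacter_of_irr hf) h, Finset.sum_const, Finset.card_univ,
    nsmul_eq_mul, ← Nat.card_eq_fintype_card] at e
  rw [← mul_assoc, inv_mul_cancel₀ (Nat.cast_ne_zero.2 Nat.card_pos.ne'), one_mul] at e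
  exact IsIrrCharacter.apply_one_ne_zero hf e

end Cfsg.Lib.GLTwo.SCh
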